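import Cfsg.Agent.Helper7.M9Compl

/-!
# The stabiliser of a dodecad and three of its points
-/

set_option autoImplicit false

namespace Cfsg.Agent.Helper7

open Cfsg MulAction
open scoped Pointwise

theorem stabilizer_prod_eq {G α β : Type*} [Group G] [MulAction G α] [MulAction G β] (a : α)
    (b : β) : stabilizer G (a, b) = stabilizer G a ⊓ stabilizer G b := by
  ext g
  simp [mem_stabilizer_iff, Prod.ext_iff]

/-- The joint stabiliser of the standard dodecad and the points `0, 1, 2`. -/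
def stab3Equiv :
    stabilizer M24 (((d0F, pt 0), pt 1), pt 2) ≃* fixG M12 [2, 1, 0] where
  toFun k := ⟨k.1.1, by
    have hk : k.1 ∈ stabilizer M24 d0F ⊓ stabilizer M24 (pt 0) ⊓ stabilizer M24 (pt 1) ⊓
        stabilizer M24 (pt 2) := by
      rw [← stabilizer_prod_eq, ← stabilizer_prod_eq, ← stabilizer_prod_eq]
      exact k.2
    obtain ⟨⟨⟨h0, h1⟩, h2⟩, h3⟩ := hk
    refine ⟨(mem_M12_iff _).mpr ⟨k.1.2, h0⟩, fun i hi => ?_⟩
    simp only [List.mem_cons, List.not_mem_nil, or_false] at hi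
    rcases hi with rfl | rfl | rfl
    · exact h3
    · exact h2
    · exact h1⟩
  invFun k := ⟨⟨k.1, ((mem_M12_iff _).mp k.2.1).1⟩, by
    rw [stabilizer_prod_eq, stabilizer_prod_eq, stabilizer_prod_eq]
    refine ⟨⟨⟨?_, ?_⟩, ?_⟩, ?_⟩
    · exact ((mem_M12_iff _).mp k.2.1).2
    · exact k.2.2 0 (by simp)
    · exact k.2.2 1 (by simp)
    · exact k.2.2 2 (by simp)⟩
  left_inv k := rfl
  right_inv k := rfl
  map_mul' k k' := rfl

/-- Standard position for a dodecad with three of its points. -/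
theorem exists_std3 {d : Finset GolayPt} (hd : d ∈ dodecads) {p q r : GolayPt} (hp : p ∈ d)
    (hq : q ∈ d) (hr : r ∈ d) (hpq : p ≠ q) (hpr : p ≠ r) (hqr : q ≠ r) :
    ∃ s : M24, s • d0F = d ∧ s • pt 0 = p ∧ s • pt 1 = q ∧ s • pt 2 = r := by
  obtain ⟨h, rfl⟩ := exists_smul_d0F_eq hd
  have hmem : ∀ z, z ∈ h • d0F → h⁻¹ • z ∈ d0F := by
    intro z hz
    rw [← Finset.smul_mem_smul_finset_iff h, smul_inv_smul]
    exact hz
  obtain ⟨t, ht, hall⟩ := m12_exists_of_list [h⁻¹ • p, h⁻¹ • q, h⁻¹ • r]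
    (by
      simp only [List.nodup_cons, List.mem_cons, List.not_mem_nil, or_false, not_or,
        not_false_eq_true, List.nodup_nil, and_true]
      refine ⟨⟨fun e => hpq (smul_left_cancel _ e), fun e => hpr (smul_left_cancel _ e)⟩,
        fun e => hqr (smul_left_cancel _ e)⟩)
    (by
      intro z hz
      simp only [List.mem_cons, List.not_mem_nil, or_false] at hz
      rcases hz with rfl | rfl | rfl
      · exact hmem _ hp
      · exact hmem _ hq
      · exact hmem _ hr)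
    (by simp)
  simp only [List.length_cons, List.length_nil, List.take, List.forall₂_cons,
    List.forall₂_nil_right_iff] at hall
  obtain ⟨h0, h1, h2, -⟩ := hall
  have ht' := (mem_M12_iff t).mp ht
  refine ⟨h * ⟨t, ht'.1⟩, ?_, ?_, ?_, ?_⟩
  · rw [mul_smul]
    have : (⟨t, ht'.1⟩ : M24) • d0F = d0F := ht'.2
    rw [this]
  · rw [mul_smul]
    have : (⟨t, ht'.1⟩ : M24) • pt 0 = h⁻¹ • p := h0
    rw [this, smul_inv_smul]
  · rw [mul_smul]
    have : (⟨t, ht'.1⟩ : M24) • pt 1 = h⁻¹ • q := h1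
    rw [this, smul_inv_smul]
  · rw [mul_smul]
    have : (⟨t, ht'.1⟩ : M24) • pt 2 = h⁻¹ • r := h2
    rw [this, smul_inv_smul]

/-- The stabiliser of a dodecad and three of its points has order 72 and is transitive on the
complementary dodecad. -/
theorem dodecad_three_points {d : Finset GolayPt} (hd : d ∈ dodecads) {p q r : GolayPt}
    (hp : p ∈ d) (hq : q ∈ d) (hr : r ∈ d) (hpq : p ≠ q) (hpr : p ≠ r) (hqr : q ≠ r) :
    Nat.card ↥(stabilizer M24 d ⊓ stabilizer M24 p ⊓ stabilizer M24 q ⊓ stabilizer M24 r) = 72 ∧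
    ∀ x ∉ d, ∀ y ∉ d, ∃ g ∈ (stabilizer M24 d ⊓ stabilizer M24 p ⊓ stabilizer M24 q ⊓
      stabilizer M24 r), ((g : ↥M24) : Equiv.Perm GolayPt) x = y := by
  obtain ⟨s, rfl, rfl, rfl, rfl⟩ := exists_std3 hd hp hq hr hpq hpr hqr
  rw [← stabilizer_prod_eq, ← stabilizer_prod_eq, ← stabilizer_prod_eq]
  have hs : (((s • d0F, s • pt 0), s • pt 1), s • pt 2) = s • (((d0F, pt 0), pt 1), pt 2) := rfl
  rw [hs]
  constructor
  · rw [Nat.card_congr (stabilizerEquivStabilizer (G := M24) (g := s) rfl).toEquiv.symm,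
      Nat.card_congr stab3Equiv.toEquiv, card_fixG_m12_3]
  · intro x hx y hy
    have hout : ∀ z, z ∉ s • d0F → s⁻¹ • z ∉ d0F := by
      intro z hz hcon
      apply hz
      rw [← Finset.smul_mem_smul_finset_iff s⁻¹, inv_smul_smul]
      exact hcon
    obtain ⟨k, hk, hkxy⟩ := m9_exists_map (s⁻¹ • x) (s⁻¹ • y) (hout x hx) (hout y hy)
    have hk24 := (mem_M12_iff k).mp hk.1
    have hfix : (⟨k, hk24.1⟩ : M24) • (((d0F, pt 0), pt 1), pt 2) =
        (((d0F, pt 0), pt 1), pt 2) := by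
      have e0 : (⟨k, hk24.1⟩ : M24) • d0F = d0F := hk24.2
      have e1 : (⟨k, hk24.1⟩ : M24) • pt 0 = pt 0 := hk.2 0 (by simp)
      have e2 : (⟨k, hk24.1⟩ : M24) • pt 1 = pt 1 := hk.2 1 (by simp)
      have e3 : (⟨k, hk24.1⟩ : M24) • pt 2 = pt 2 := hk.2 2 (by simp)
      rw [Prod.smul_mk, Prod.smul_mk, Prod.smul_mk, e0, e1, e2, e3]
    refine ⟨s * ⟨k, hk24.1⟩ * s⁻¹, ?_, ?_⟩
    · rw [mem_stabilizer_iff, mul_smul, mul_smul, inv_smul_smul, hfix]
    · show (s * ⟨k, hk24.1⟩ * s⁻¹) • x = y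
      rw [mul_smul, mul_smul]
      have : (⟨k, hk24.1⟩ : M24) • (s⁻¹ • x) = s⁻¹ • y := hkxy
      rw [this, smul_inv_smul]

end Cfsg.Agent.Helper7
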