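import Cfsg.Agent.Helper7.Octad

/-!
# The stabiliser chain of `M24` (generated data + proofs)

Base `0,1,2,3,4,5,7`; the transversal elements are given by a straight-line program in the
generators `x ↦ x+1`, `projInv`, `cubeTwist`.
-/

set_option autoImplicit false

namespace Cfsg.Agent.Helper7

open Cfsg

/-- The straight-line program. Node 0 is the identity, nodes 1,2,3 the three generators. -/
def m24Prog : List Op := [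
  .mul 1 1, .mul 2 1, .mul 3 1, .mul 1 4, .mul 2 4, .mul 3 4, .mul 3 5, .mul 1 6,
  .mul 3 6, .mul 2 7, .mul 1 8, .mul 1 9, .mul 3 10, .mul 1 11, .mul 1 12, .mul 1 13,
  .mul 1 14, .mul 2 14, .mul 3 14, .mul 3 17, .mul 2 18, .inv 22, .mul 2 17, .mul 25 26,
  .mul 1 17, .mul 21 28, .mul 29 27, .mul 27 29, .mul 29 29, .mul 27 30, .mul 29 30, .mul 27 31,
  .mul 27 32, .mul 29 32, .mul 29 33, .mul 29 34, .mul 27 35, .mul 29 35, .mul 27 36, .mul 29 36,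
  .mul 27 37, .mul 27 38, .mul 29 38, .mul 27 39, .mul 27 40, .mul 27 45, .inv 37, .mul 27 34,
  .mul 50 51, .inv 34, .mul 27 49, .mul 53 54, .mul 52 52, .mul 55 52, .mul 55 55, .mul 52 56,
  .mul 55 56, .mul 52 57, .mul 55 57, .mul 55 58, .mul 52 59, .mul 55 59, .mul 52 60, .mul 52 62,
  .mul 55 62, .mul 52 63, .mul 52 64, .mul 52 67, .mul 52 68, .mul 52 71, .mul 55 71, .inv 68,
  .mul 52 66, .mul 75 76, .mul 55 72, .mul 70 78, .mul 77 77, .mul 79 77, .mul 77 80, .mul 79 80,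
  .mul 79 81, .mul 77 82, .mul 79 82, .mul 77 83, .mul 79 83, .mul 77 84, .mul 79 85, .mul 79 86,
  .mul 79 87, .mul 77 90, .mul 79 90, .mul 77 91, .mul 79 91, .mul 77 92, .mul 79 94, .inv 93,
  .mul 79 95, .mul 99 100, .mul 85 79, .mul 101 101, .mul 101 102, .mul 102 102, .mul 101 103, .mul 102 103,
  .mul 101 104, .mul 101 105, .mul 101 106, .mul 102 106, .mul 101 107, .mul 101 108, .mul 101 109, .mul 102 109,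
  .mul 102 111, .mul 102 112, .mul 101 113, .mul 101 115, .mul 102 105, .mul 110 120, .inv 108, .mul 102 104,
  .mul 122 123, .inv 104, .mul 102 107, .mul 125 126, .mul 121 121, .mul 124 121, .mul 127 121, .mul 121 124,
  .mul 124 124, .mul 121 127, .mul 124 128, .mul 127 128, .mul 124 129, .mul 127 129, .mul 127 131, .mul 121 132,
  .mul 121 130, .mul 132 140, .mul 141 141
]

/-- The tables of all nodes of the straight-line program. -/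
def m24Tabs : List (List ℕ) := [
  [0, 1, 2, 3, 4, 5, 6, 7, 8, 9, 10, 11, 12, 13, 14, 15, 16, 17, 18, 19, 20, 21, 22, 23],
  [1, 2, 3, 4, 5, 6, 7, 8, 9, 10, 11, 12, 13, 14, 15, 16, 17, 18, 19, 20, 21, 22, 0, 23],
  [23, 22, 11, 15, 17, 9, 19, 13, 20, 5, 16, 2, 21, 7, 18, 3, 10, 4, 14, 6, 8, 12, 1, 0],
  [0, 18, 6, 3, 2, 21, 1, 5, 16, 12, 7, 19, 8, 9, 17, 15, 13, 11, 4, 22, 10, 20, 14, 23],
  [2, 3, 4, 5, 6, 7, 8, 9, 10, 11, 12, 13, 14, 15, 16, 17, 18, 19, 20, 21, 22, 0, 1, 23],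
  [22, 11, 15, 17, 9, 19, 13, 20, 5, 16, 2, 21, 7, 18, 3, 10, 4, 14, 6, 8, 12, 1, 23, 0],
  [18, 6, 3, 2, 21, 1, 5, 16, 12, 7, 19, 8, 9, 17, 15, 13, 11, 4, 22, 10, 20, 14, 0, 23],
  [3, 4, 5, 6, 7, 8, 9, 10, 11, 12, 13, 14, 15, 16, 17, 18, 19, 20, 21, 22, 0, 1, 2, 23],
  [11, 15, 17, 9, 19, 13, 20, 5, 16, 2, 21, 7, 18, 3, 10, 4, 14, 6, 8, 12, 1, 23, 22, 0],
  [6, 3, 2, 21, 1, 5, 16, 12, 7, 19, 8, 9, 17, 15, 13, 11, 4, 22, 10, 20, 14, 0, 18, 23],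
  [14, 19, 15, 11, 12, 22, 9, 10, 21, 13, 6, 20, 5, 4, 3, 7, 2, 17, 1, 16, 8, 18, 23, 0],
  [19, 7, 4, 3, 22, 2, 6, 17, 13, 8, 20, 9, 10, 18, 16, 14, 12, 5, 0, 11, 21, 15, 1, 23],
  [4, 1, 3, 6, 20, 18, 21, 13, 8, 5, 22, 16, 12, 11, 15, 9, 19, 2, 14, 7, 10, 17, 0, 23],
  [15, 17, 9, 19, 13, 20, 5, 16, 2, 21, 7, 18, 3, 10, 4, 14, 6, 8, 12, 1, 23, 22, 11, 0],
  [12, 16, 18, 10, 20, 14, 21, 6, 17, 3, 22, 8, 19, 4, 11, 5, 15, 7, 9, 13, 2, 23, 0, 1],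
  [7, 4, 3, 22, 2, 6, 17, 13, 8, 20, 9, 10, 18, 16, 14, 12, 5, 0, 11, 21, 15, 1, 19, 23],
  [17, 22, 15, 19, 8, 14, 12, 7, 20, 9, 1, 10, 21, 2, 3, 5, 6, 11, 18, 13, 16, 4, 23, 0],
  [20, 8, 5, 4, 0, 3, 7, 18, 14, 9, 21, 10, 11, 19, 17, 15, 13, 6, 1, 12, 22, 16, 2, 23],
  [5, 2, 4, 7, 21, 19, 22, 14, 9, 6, 0, 17, 13, 12, 16, 10, 20, 3, 15, 8, 11, 18, 1, 23],
  [16, 18, 10, 20, 14, 21, 6, 17, 3, 22, 8, 19, 4, 11, 5, 15, 7, 9, 13, 2, 23, 0, 12, 1],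
  [13, 17, 19, 11, 21, 15, 22, 7, 18, 4, 0, 9, 20, 5, 12, 6, 16, 8, 10, 14, 3, 23, 1, 2],
  [21, 10, 14, 16, 8, 18, 12, 19, 4, 15, 1, 20, 6, 17, 2, 9, 3, 13, 5, 7, 11, 0, 23, 22],
  [8, 13, 4, 7, 10, 17, 20, 1, 11, 3, 14, 16, 22, 2, 19, 21, 15, 5, 12, 9, 6, 23, 0, 18],
  [10, 16, 21, 2, 0, 3, 5, 4, 17, 12, 20, 7, 19, 22, 11, 15, 9, 1, 18, 8, 14, 13, 6, 23],
  [9, 11, 17, 13, 12, 6, 1, 18, 5, 19, 23, 4, 7, 21, 10, 16, 8, 15, 3, 20, 2, 14, 22, 0],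
  [22, 7, 13, 9, 2, 17, 20, 3, 0, 19, 4, 8, 18, 1, 10, 16, 11, 5, 23, 14, 6, 15, 12, 21],
  [8, 20, 9, 17, 23, 15, 13, 14, 18, 5, 12, 16, 2, 6, 4, 3, 7, 19, 22, 21, 1, 10, 11, 0],
  [0, 6, 19, 5, 21, 16, 1, 10, 23, 17, 18, 11, 13, 20, 2, 9, 3, 14, 12, 15, 7, 4, 8, 22],
  [21, 9, 6, 5, 1, 4, 8, 19, 15, 10, 22, 11, 12, 20, 18, 16, 14, 7, 2, 13, 0, 17, 3, 23],
  [0, 15, 12, 18, 10, 8, 4, 7, 9, 1, 23, 20, 6, 11, 5, 3, 2, 19, 14, 17, 21, 13, 16, 22],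
  [0, 4, 17, 8, 13, 2, 15, 23, 22, 19, 14, 20, 11, 21, 12, 1, 18, 5, 6, 3, 7, 10, 9, 16],
  [0, 9, 13, 12, 18, 23, 21, 10, 17, 6, 22, 7, 1, 11, 16, 5, 19, 15, 2, 14, 4, 20, 3, 8],
  [0, 3, 6, 14, 23, 9, 10, 7, 1, 15, 22, 21, 4, 20, 8, 18, 12, 17, 5, 19, 13, 11, 2, 16],
  [0, 21, 14, 23, 20, 19, 9, 22, 8, 15, 2, 7, 11, 4, 13, 6, 12, 16, 1, 5, 10, 18, 17, 3],
  [0, 10, 19, 9, 11, 12, 3, 22, 16, 17, 5, 21, 20, 13, 6, 15, 14, 8, 4, 18, 7, 23, 1, 2],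
  [0, 17, 20, 13, 12, 22, 4, 18, 14, 1, 8, 10, 6, 11, 3, 16, 15, 9, 19, 2, 21, 7, 5, 23],
  [0, 5, 1, 2, 22, 17, 18, 10, 6, 9, 8, 4, 21, 7, 23, 12, 13, 14, 16, 15, 20, 11, 19, 3],
  [0, 18, 4, 5, 22, 1, 23, 7, 15, 3, 16, 13, 10, 21, 9, 14, 6, 19, 8, 17, 11, 20, 12, 2],
  [0, 13, 5, 22, 21, 17, 1, 16, 9, 3, 12, 7, 20, 10, 11, 4, 6, 2, 15, 8, 23, 14, 19, 18],
  [0, 23, 17, 1, 20, 6, 18, 16, 2, 19, 8, 13, 21, 11, 4, 3, 5, 9, 10, 14, 7, 22, 15, 12],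
  [0, 14, 7, 20, 13, 8, 21, 12, 2, 6, 23, 18, 1, 11, 5, 3, 9, 17, 15, 19, 4, 10, 16, 22],
  [0, 19, 21, 11, 6, 16, 10, 14, 5, 15, 9, 23, 4, 20, 18, 2, 3, 1, 17, 12, 13, 7, 8, 22],
  [0, 16, 6, 19, 8, 14, 12, 18, 1, 17, 23, 21, 4, 10, 22, 13, 20, 2, 3, 9, 7, 11, 15, 5],
  [0, 8, 15, 12, 16, 19, 14, 23, 4, 1, 9, 10, 13, 7, 22, 6, 11, 5, 2, 3, 21, 20, 17, 18],
  [0, 12, 21, 16, 8, 6, 22, 10, 9, 5, 3, 20, 18, 4, 17, 2, 1, 15, 23, 14, 11, 7, 13, 19],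
  [0, 20, 16, 8, 4, 14, 6, 3, 17, 5, 13, 10, 7, 18, 11, 21, 1, 19, 9, 23, 22, 2, 15, 12],
  [0, 11, 8, 16, 13, 19, 15, 2, 1, 18, 6, 7, 21, 23, 20, 10, 4, 12, 3, 9, 22, 5, 17, 14],
  [0, 22, 14, 6, 7, 1, 12, 3, 19, 15, 23, 20, 4, 11, 21, 5, 16, 17, 18, 2, 10, 8, 9, 13],
  [0, 2, 10, 7, 20, 23, 4, 13, 19, 1, 22, 12, 6, 11, 16, 5, 17, 14, 9, 15, 21, 18, 3, 8],
  [0, 7, 3, 23, 21, 2, 1, 5, 14, 16, 20, 18, 10, 12, 11, 4, 6, 15, 17, 22, 8, 19, 9, 13],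
  [0, 5, 23, 9, 2, 3, 16, 7, 18, 14, 12, 20, 22, 11, 15, 8, 10, 19, 1, 17, 21, 13, 4, 6],
  [0, 18, 15, 17, 11, 13, 5, 8, 3, 14, 16, 4, 7, 20, 1, 9, 2, 23, 21, 12, 10, 22, 6, 19],
  [0, 1, 8, 19, 20, 11, 3, 18, 9, 15, 10, 2, 7, 21, 5, 14, 23, 6, 13, 22, 12, 4, 16, 17],
  [0, 22, 23, 6, 18, 10, 14, 20, 17, 3, 1, 4, 5, 13, 16, 15, 8, 9, 19, 2, 12, 11, 7, 21],
  [0, 10, 5, 22, 4, 19, 6, 16, 2, 3, 7, 12, 18, 13, 11, 21, 1, 9, 14, 8, 23, 15, 17, 20],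
  [0, 1, 10, 7, 18, 2, 14, 8, 23, 6, 20, 5, 19, 13, 4, 11, 22, 3, 16, 17, 21, 15, 9, 12],
  [0, 1, 9, 22, 12, 2, 19, 13, 15, 14, 10, 8, 18, 4, 11, 5, 17, 3, 21, 16, 7, 20, 23, 6],
  [0, 1, 23, 17, 21, 5, 7, 16, 6, 11, 20, 10, 8, 15, 2, 4, 12, 14, 13, 9, 19, 18, 22, 3],
  [0, 1, 20, 8, 16, 10, 4, 23, 12, 14, 21, 2, 17, 13, 18, 5, 9, 7, 22, 3, 15, 11, 6, 19],
  [0, 1, 15, 16, 7, 8, 22, 21, 14, 5, 10, 9, 13, 20, 2, 11, 6, 19, 4, 23, 18, 12, 17, 3],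
  [0, 1, 6, 9, 19, 10, 17, 13, 11, 4, 20, 23, 16, 18, 5, 2, 3, 7, 15, 22, 8, 21, 12, 14],
  [0, 1, 17, 6, 4, 11, 18, 23, 3, 2, 12, 10, 9, 14, 8, 20, 7, 5, 21, 15, 22, 13, 16, 19],
  [0, 1, 12, 3, 15, 2, 8, 22, 14, 5, 21, 20, 23, 11, 10, 18, 19, 4, 13, 6, 17, 16, 9, 7],
  [0, 1, 21, 23, 22, 20, 18, 12, 19, 4, 15, 10, 3, 13, 16, 2, 6, 8, 9, 7, 11, 5, 14, 17],
  [0, 1, 14, 23, 18, 9, 16, 4, 5, 11, 10, 15, 21, 12, 8, 2, 3, 22, 20, 17, 13, 7, 6, 19],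
  [0, 1, 11, 22, 8, 23, 9, 15, 4, 2, 20, 6, 13, 21, 10, 5, 14, 17, 18, 12, 16, 19, 3, 7],
  [0, 1, 3, 15, 22, 10, 6, 21, 2, 20, 12, 17, 23, 13, 11, 8, 19, 18, 14, 16, 9, 4, 7, 5],
  [0, 1, 7, 19, 14, 8, 9, 16, 5, 11, 4, 12, 17, 2, 10, 13, 22, 20, 21, 3, 6, 23, 15, 18],
  [0, 1, 19, 7, 11, 10, 23, 9, 4, 2, 15, 21, 12, 5, 20, 16, 17, 18, 13, 14, 3, 22, 6, 8],
  [0, 1, 4, 17, 16, 12, 13, 7, 22, 20, 14, 10, 19, 21, 23, 8, 3, 9, 15, 18, 2, 11, 5, 6],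
  [0, 1, 5, 17, 13, 15, 23, 20, 11, 2, 10, 14, 4, 7, 9, 8, 19, 16, 12, 6, 21, 18, 3, 22],
  [0, 1, 18, 22, 5, 9, 15, 23, 11, 2, 20, 7, 6, 8, 10, 21, 16, 12, 4, 19, 3, 17, 14, 13],
  [0, 1, 22, 18, 2, 10, 17, 15, 20, 8, 14, 4, 7, 11, 12, 23, 6, 13, 21, 5, 19, 16, 3, 9],
  [0, 1, 13, 16, 11, 15, 14, 17, 2, 8, 12, 18, 3, 9, 10, 4, 23, 7, 20, 22, 19, 6, 5, 21],
  [0, 1, 16, 9, 2, 6, 11, 12, 5, 10, 21, 8, 14, 23, 20, 15, 22, 19, 18, 17, 7, 3, 4, 13],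
  [0, 1, 9, 20, 8, 13, 22, 3, 23, 7, 5, 4, 12, 18, 19, 10, 15, 16, 17, 2, 14, 11, 21, 6],
  [0, 1, 19, 14, 16, 10, 3, 4, 8, 12, 7, 6, 17, 21, 2, 9, 22, 13, 5, 23, 15, 20, 18, 11],
  [0, 1, 2, 19, 15, 5, 20, 8, 23, 12, 3, 22, 16, 11, 9, 7, 21, 18, 13, 6, 10, 14, 17, 4],
  [0, 1, 9, 16, 10, 20, 3, 11, 21, 23, 4, 18, 8, 5, 19, 12, 14, 13, 15, 2, 17, 22, 7, 6],
  [0, 1, 2, 19, 10, 21, 17, 14, 18, 22, 13, 12, 11, 15, 6, 4, 9, 7, 8, 5, 16, 3, 20, 23],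
  [0, 1, 2, 6, 7, 5, 10, 23, 4, 16, 19, 17, 21, 22, 12, 8, 14, 13, 11, 20, 3, 9, 18, 15],
  [0, 1, 2, 5, 4, 21, 16, 18, 23, 11, 19, 20, 9, 12, 22, 14, 3, 8, 15, 17, 13, 6, 7, 10],
  [0, 1, 2, 20, 8, 5, 3, 4, 15, 21, 6, 18, 14, 17, 16, 23, 9, 11, 22, 10, 19, 12, 13, 7],
  [0, 1, 2, 17, 14, 21, 13, 23, 10, 9, 5, 7, 3, 20, 11, 18, 6, 15, 12, 16, 19, 22, 8, 4],
  [0, 1, 2, 21, 10, 3, 9, 8, 23, 12, 5, 16, 22, 11, 20, 6, 19, 18, 4, 7, 15, 17, 14, 13],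
  [0, 1, 2, 10, 23, 5, 19, 15, 7, 14, 20, 13, 9, 18, 21, 4, 12, 22, 17, 3, 6, 16, 11, 8],
  [0, 1, 2, 16, 18, 21, 19, 10, 4, 3, 17, 8, 6, 7, 9, 23, 22, 12, 20, 13, 5, 11, 15, 14],
  [0, 1, 2, 18, 9, 14, 11, 4, 3, 12, 5, 8, 19, 10, 22, 13, 20, 7, 16, 21, 6, 17, 23, 15],
  [0, 1, 2, 7, 6, 3, 15, 23, 13, 22, 21, 14, 19, 16, 12, 8, 17, 4, 11, 9, 5, 20, 18, 10],
  [0, 1, 2, 14, 3, 19, 12, 23, 4, 16, 5, 21, 17, 22, 10, 20, 6, 13, 15, 8, 7, 18, 9, 11],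
  [0, 1, 2, 13, 23, 21, 5, 4, 14, 6, 16, 15, 22, 8, 3, 10, 11, 20, 7, 19, 17, 9, 12, 18],
  [0, 1, 2, 9, 8, 3, 5, 13, 10, 19, 7, 18, 17, 14, 22, 23, 20, 11, 16, 15, 21, 12, 4, 6],
  [0, 1, 2, 8, 22, 6, 12, 10, 19, 11, 21, 18, 5, 13, 20, 15, 16, 14, 9, 3, 17, 7, 23, 4],
  [0, 1, 2, 11, 4, 14, 5, 15, 9, 20, 21, 7, 17, 23, 19, 3, 22, 10, 8, 6, 18, 12, 16, 13],
  [0, 1, 2, 15, 23, 3, 21, 10, 6, 17, 9, 4, 20, 18, 19, 13, 12, 16, 14, 5, 7, 22, 11, 8],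
  [0, 1, 2, 12, 23, 19, 5, 11, 3, 6, 8, 13, 18, 9, 17, 4, 10, 22, 21, 7, 14, 16, 15, 20],
  [0, 1, 2, 22, 18, 19, 21, 15, 13, 5, 14, 8, 7, 6, 20, 23, 16, 12, 9, 4, 3, 11, 10, 17],
  [0, 1, 2, 23, 17, 20, 16, 3, 6, 22, 14, 13, 5, 11, 10, 7, 21, 9, 12, 19, 18, 8, 4, 15],
  [0, 1, 2, 4, 23, 19, 3, 13, 17, 7, 22, 10, 16, 8, 5, 15, 11, 9, 6, 21, 14, 20, 12, 18],
  [0, 1, 2, 15, 4, 6, 19, 11, 18, 8, 17, 3, 21, 23, 5, 7, 22, 12, 20, 14, 9, 10, 16, 13],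
  [0, 1, 2, 11, 23, 5, 21, 12, 19, 17, 18, 15, 8, 22, 7, 10, 13, 20, 3, 14, 6, 9, 4, 16],
  [0, 1, 2, 3, 13, 6, 10, 21, 14, 12, 20, 7, 18, 16, 11, 17, 23, 9, 15, 5, 19, 8, 4, 22],
  [0, 1, 2, 3, 20, 16, 22, 21, 17, 11, 18, 9, 13, 4, 19, 23, 14, 15, 7, 5, 12, 10, 6, 8],
  [0, 1, 2, 3, 16, 10, 20, 8, 11, 18, 19, 21, 15, 23, 7, 9, 22, 12, 17, 6, 5, 14, 13, 4],
  [0, 1, 2, 3, 19, 23, 4, 8, 9, 7, 15, 12, 16, 13, 5, 22, 11, 17, 21, 6, 18, 20, 10, 14],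
  [0, 1, 2, 3, 12, 14, 6, 10, 15, 9, 7, 11, 4, 20, 5, 8, 19, 23, 21, 16, 13, 18, 22, 17],
  [0, 1, 2, 3, 23, 20, 19, 14, 7, 15, 5, 8, 17, 22, 21, 12, 4, 18, 9, 10, 6, 11, 16, 13],
  [0, 1, 2, 3, 14, 18, 12, 17, 9, 7, 5, 10, 23, 8, 21, 11, 6, 13, 15, 22, 16, 19, 4, 20],
  [0, 1, 2, 3, 5, 22, 13, 14, 12, 21, 17, 18, 23, 16, 6, 4, 7, 9, 8, 10, 15, 19, 20, 11],
  [0, 1, 2, 3, 18, 11, 10, 20, 17, 12, 21, 7, 13, 19, 6, 14, 5, 22, 8, 23, 16, 15, 4, 9],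
  [0, 1, 2, 3, 22, 19, 5, 11, 21, 17, 6, 14, 9, 4, 8, 18, 13, 15, 12, 20, 10, 7, 23, 16],
  [0, 1, 2, 3, 8, 12, 5, 19, 21, 23, 16, 17, 15, 6, 10, 13, 20, 7, 11, 18, 22, 9, 14, 4],
  [0, 1, 2, 3, 11, 15, 18, 9, 12, 21, 6, 20, 22, 14, 8, 7, 10, 16, 17, 4, 23, 5, 13, 19],
  [0, 1, 2, 3, 6, 4, 16, 11, 18, 8, 9, 15, 22, 23, 10, 13, 21, 12, 14, 20, 17, 5, 19, 7],
  [0, 1, 2, 3, 15, 7, 20, 19, 9, 18, 8, 21, 16, 5, 10, 11, 6, 4, 14, 22, 23, 17, 13, 12],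
  [0, 1, 2, 3, 7, 9, 18, 12, 15, 13, 10, 21, 4, 5, 22, 19, 16, 6, 17, 8, 14, 23, 20, 11],
  [0, 1, 2, 3, 17, 13, 16, 5, 10, 8, 14, 15, 23, 22, 18, 4, 12, 21, 9, 7, 6, 11, 19, 20],
  [0, 1, 2, 3, 9, 23, 7, 11, 13, 10, 22, 12, 6, 19, 17, 21, 18, 14, 15, 20, 8, 16, 4, 5],
  [0, 1, 2, 3, 10, 13, 23, 7, 15, 14, 12, 17, 4, 22, 20, 16, 8, 18, 11, 19, 9, 6, 5, 21],
  [0, 1, 2, 3, 21, 12, 15, 18, 17, 16, 20, 8, 13, 6, 4, 5, 23, 10, 9, 14, 11, 22, 19, 7],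
  [0, 1, 2, 3, 13, 19, 22, 18, 23, 11, 21, 9, 20, 12, 16, 17, 5, 8, 10, 14, 4, 7, 6, 15],
  [0, 1, 2, 3, 4, 20, 23, 12, 16, 14, 7, 17, 10, 9, 13, 15, 19, 21, 6, 8, 22, 11, 5, 18],
  [0, 1, 2, 3, 15, 4, 14, 16, 18, 17, 19, 23, 8, 6, 7, 20, 13, 10, 11, 21, 22, 9, 5, 12],
  [0, 1, 2, 3, 5, 8, 20, 17, 11, 21, 23, 13, 14, 4, 16, 6, 9, 15, 10, 22, 7, 12, 18, 19],
  [0, 1, 2, 3, 4, 18, 22, 10, 23, 9, 12, 6, 7, 15, 13, 14, 17, 20, 19, 5, 16, 8, 11, 21],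
  [0, 1, 2, 3, 6, 14, 19, 9, 7, 8, 22, 16, 11, 13, 23, 10, 12, 17, 20, 4, 21, 18, 15, 5],
  [0, 1, 2, 3, 19, 7, 13, 15, 11, 21, 16, 18, 8, 17, 10, 9, 22, 4, 23, 6, 14, 5, 20, 12],
  [0, 1, 2, 3, 4, 9, 13, 10, 16, 18, 12, 20, 7, 17, 22, 8, 15, 6, 5, 19, 23, 14, 21, 11],
  [0, 1, 2, 3, 4, 22, 18, 10, 19, 13, 12, 21, 7, 14, 9, 15, 8, 11, 23, 16, 5, 17, 20, 6],
  [0, 1, 2, 3, 4, 16, 21, 7, 17, 13, 10, 20, 12, 9, 15, 14, 5, 8, 22, 23, 11, 6, 18, 19],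
  [0, 1, 2, 3, 4, 23, 11, 7, 15, 22, 10, 6, 12, 18, 17, 8, 19, 14, 13, 16, 21, 20, 9, 5],
  [0, 1, 2, 3, 4, 6, 5, 7, 18, 14, 10, 23, 12, 15, 9, 13, 21, 22, 8, 20, 19, 16, 17, 11],
  [0, 1, 2, 3, 4, 19, 11, 12, 21, 9, 7, 22, 10, 14, 15, 13, 20, 16, 5, 18, 17, 23, 6, 8],
  [0, 1, 2, 3, 4, 14, 9, 7, 19, 6, 10, 22, 12, 21, 5, 16, 15, 23, 20, 8, 18, 13, 11, 17],
  [0, 1, 2, 3, 4, 11, 19, 12, 5, 15, 7, 8, 10, 13, 9, 14, 23, 6, 21, 17, 18, 20, 16, 22],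
  [0, 1, 2, 3, 4, 21, 5, 12, 19, 17, 7, 14, 10, 22, 18, 8, 16, 20, 11, 15, 9, 6, 23, 13],
  [0, 1, 2, 3, 4, 17, 8, 10, 20, 15, 12, 16, 7, 9, 14, 13, 18, 23, 11, 21, 6, 22, 19, 5],
  [0, 1, 2, 3, 4, 15, 14, 10, 6, 17, 12, 23, 7, 18, 8, 22, 9, 16, 21, 11, 20, 13, 5, 19],
  [0, 1, 2, 3, 4, 13, 9, 10, 5, 22, 12, 11, 7, 8, 18, 17, 14, 21, 16, 23, 19, 15, 6, 20],
  [0, 1, 2, 3, 4, 8, 17, 10, 11, 14, 12, 5, 7, 13, 15, 9, 22, 19, 20, 6, 21, 18, 23, 16],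
  [0, 1, 2, 3, 4, 18, 17, 12, 15, 5, 7, 23, 10, 6, 21, 16, 8, 13, 9, 19, 11, 22, 14, 20],
  [0, 1, 2, 3, 4, 5, 16, 10, 13, 19, 12, 8, 7, 11, 23, 20, 21, 14, 9, 18, 22, 6, 15, 17],
  [0, 1, 2, 3, 4, 5, 21, 12, 11, 18, 7, 13, 10, 8, 17, 22, 6, 23, 19, 9, 15, 16, 20, 14]
]

theorem m24Tabs_eq : runSLP m24Prog [idT, tA, tB, tC] = m24Tabs := by decide +kernel

/-- Specification of the levels: base point, orbit, node numbers of the transversal. -/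
def m24Specs : List (ℕ × List ℕ × List ℕ) := [
  (0, [0, 1, 2, 3, 4, 5, 6, 7, 8, 9, 10, 11, 12, 13, 14, 15, 16, 17, 18, 19, 20, 21, 22, 23],
    [0, 1, 4, 7, 12, 18, 9, 15, 22, 24, 23, 8, 14, 20, 10, 13, 19, 16, 6, 11, 17, 21, 5, 2]),
  (1, [1, 2, 3, 4, 5, 6, 7, 8, 9, 10, 11, 12, 13, 14, 15, 16, 17, 18, 19, 20, 21, 22, 23],
    [0, 48, 32, 30, 36, 27, 49, 43, 31, 34, 46, 44, 38, 40, 29, 42, 35, 37, 41, 45, 33, 47, 39]),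
  (2, [2, 3, 4, 5, 6, 7, 8, 9, 10, 11, 12, 13, 14, 15, 16, 17, 18, 19, 20, 21, 22, 23],
    [0, 66, 69, 70, 60, 67, 52, 56, 55, 65, 62, 73, 64, 59, 74, 61, 71, 68, 58, 63, 72, 57]),
  (3, [3, 4, 5, 6, 7, 8, 9, 10, 11, 12, 13, 14, 15, 16, 17, 18, 19, 20, 21, 22, 23],
    [0, 98, 81, 80, 88, 92, 91, 85, 93, 95, 90, 89, 94, 86, 83, 87, 77, 82, 84, 96, 97]),
  (4, [4, 5, 6, 7, 8, 9, 10, 11, 12, 13, 14, 15, 16, 17, 18, 19, 20, 21, 22, 23],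
    [0, 108, 113, 115, 111, 117, 118, 112, 105, 101, 107, 114, 103, 116, 109, 104, 102, 119, 110, 106]),
  (5, [5, 6, 8, 9, 11, 13, 14, 15, 16, 17, 18, 19, 20, 21, 22, 23],
    [0, 131, 139, 127, 134, 138, 133, 137, 129, 136, 124, 132, 121, 135, 128, 130]),
  (7, [7, 10, 12],
    [0, 141, 142])
]

/-- Build a level from node numbers into a list of tables. -/
def mkLevel (tabs : List (List ℕ)) (s : ℕ × List ℕ × List ℕ) : Level :=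
  ⟨s.1, s.2.1, s.2.2.filterMap (fun k => tabs[k]?)⟩

theorem mkLevel_T_mem (tabs : List (List ℕ)) (s : ℕ × List ℕ × List ℕ) :
    ∀ l ∈ (mkLevel tabs s).T, l ∈ tabs := by
  intro l hl
  rw [mkLevel, List.mem_filterMap] at hl
  obtain ⟨k, _, hk⟩ := hl
  exact List.mem_of_getElem? hk

/-- The levels of the chain. -/
def m24Levels : List Level := m24Specs.map (mkLevel m24Tabs)

/-- The octad through the first five base points, and its complement. -/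
def m24O : ℕ := 5279
def m24Oc : ℕ := 16771936

/-- Refinement steps proving that the stabiliser of the base is trivial. -/
def m24Steps : List (ℕ × List ℕ) := [
  (6, [2162811, 4325622]),
  (8, [262637, 1065303]),
  (9, [525274, 21116]),
  (10, [5279, 1573998]),
  (11, [10558, 1116327]),
  (12, [5279]),
  (13, [10558]),
  (14, [21116]),
  (15, [45159]),
  (16, [118953]),
  (17, [201013]),
  (18, [421910]),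
  (19, [843820]),
  (20, [1302533]),
  (21, [2605066]),
  (22, [4845570]),
  (23, [])
]

/-- The subgroup generated by the three generators. -/
def genGroup : Subgroup (Equiv.Perm GolayPt) := Subgroup.closure {gA, projInv, cubeTwist}

theorem genGroup_le_M24 : genGroup ≤ M24 := by
  rw [genGroup, Subgroup.closure_le]
  rintro g (rfl | rfl | rfl)
  · exact gA_mem_M24
  · exact projInv_mem_M24
  · exact cubeTwist_mem_M24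

theorem tabled_m24Tabs : ∀ l ∈ m24Tabs, Tabled genGroup l := by
  rw [← m24Tabs_eq]
  apply tabled_runSLP
  intro l hl
  simp only [List.mem_cons, List.not_mem_nil, or_false] at hl
  rcases hl with rfl | rfl | rfl | rfl
  · exact tabled_idT _
  · exact ⟨gA, Subgroup.subset_closure (by simp), isTable_gA⟩
  · exact ⟨projInv, Subgroup.subset_closure (by simp), isTable_projInv⟩
  · exact ⟨cubeTwist, Subgroup.subset_closure (by simp), isTable_cubeTwist⟩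

theorem tabled_m24Levels_gen : ∀ L ∈ m24Levels, ∀ l ∈ L.T, Tabled genGroup l := by
  intro L hL l hl
  rw [m24Levels, List.mem_map] at hL
  obtain ⟨s, _, rfl⟩ := hL
  exact tabled_m24Tabs l (mkLevel_T_mem _ _ l hl)

theorem tabled_m24Levels : ∀ L ∈ m24Levels, ∀ l ∈ L.T, Tabled M24 l :=
  fun L hL l hl => (tabled_m24Levels_gen L hL l hl).mono genGroup_le_M24

theorem m24_chainOK : chainOK [] m24Levels = true := by decide +kernel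

theorem m24O_inv (F : List ℕ) (hFn : F.Nodup) (hF24 : ∀ i ∈ F, i < 24) (h5 : 5 ≤ cntIn m24O F) :
    ∀ g ∈ fixG M24 F, ∀ p, m24O.testBit (idx p) = true → m24O.testBit (idx (g p)) = true := by
  intro g hg
  exact octad_inv hg.1 (by decide) (by decide +kernel) (by decide +kernel) F hg.2 hFn hF24 h5

theorem m24Oc_inv (F : List ℕ) (hFn : F.Nodup) (hF24 : ∀ i ∈ F, i < 24) (h5 : 5 ≤ cntIn m24O F) :
    ∀ g ∈ fixG M24 F, ∀ p, m24Oc.testBit (idx p) = true → m24Oc.testBit (idx (g p)) = true := by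
  intro g hg p hp
  have hcompl : ∀ i < 24, m24Oc.testBit i = !m24O.testBit i := by decide +kernel
  rw [hcompl _ (idx_lt _)] at hp ⊢
  by_contra hcon
  have h1 : m24O.testBit (idx (g p)) = true := by simpa using hcon
  have h2 := m24O_inv F hFn hF24 h5 g⁻¹ ((fixG M24 F).inv_mem hg) (g p) h1
  have h3 : g⁻¹ (g p) = p := by simp
  rw [h3] at h2
  rw [h2] at hp
  simp at hp

theorem m24_bounds : Bounds M24 [] m24Levels := by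
  simp only [m24Levels, m24Specs, List.map, mkLevel, Bounds]
  refine ⟨?_, ?_, ?_, ?_, ?_, ?_, ?_, ?_⟩
  · exact bound_of_mask 16777215 (fun g _ p => full_mask_inv g p) (by decide +kernel)
      (by decide) (by decide) (by decide)
  · exact bound_of_mask 16777215 (fun g _ p => full_mask_inv g p) (by decide +kernel)
      (by decide) (by decide) (by decide)
  · exact bound_of_mask 16777215 (fun g _ p => full_mask_inv g p) (by decide +kernel)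
      (by decide) (by decide) (by decide)
  · exact bound_of_mask 16777215 (fun g _ p => full_mask_inv g p) (by decide +kernel)
      (by decide) (by decide) (by decide)
  · exact bound_of_mask 16777215 (fun g _ p => full_mask_inv g p) (by decide +kernel)
      (by decide) (by decide) (by decide)
  · exact bound_of_mask m24Oc (m24Oc_inv _ (by decide) (by decide) (by decide +kernel))
      (by decide +kernel) (by decide) (by decide) (by decide)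
  · exact bound_of_mask m24O (m24O_inv _ (by decide) (by decide) (by decide +kernel))
      (by decide +kernel) (by decide) (by decide) (by decide)
  · intro g hg
    exact eq_one_of_refineOK hg.1 _ hg.2 (by decide) (by decide) m24Steps (by decide +kernel)
      (by decide +kernel)

/-- The order of `M24`. -/
theorem card_M24 : Nat.card M24 = 244823040 := by
  have := chain_card tabled_m24Levels m24_chainOK m24_bounds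
  rw [fixG_nil] at this
  rw [this]
  decide +kernel

/-- `M24` is generated by `x ↦ x + 1`, `projInv` and `cubeTwist`. -/
theorem M24_eq_genGroup : M24 = genGroup := by
  apply le_antisymm
  · have := chain_le tabled_m24Levels m24_chainOK m24_bounds tabled_m24Levels_gen
    rwa [fixG_nil] at this
  · exact genGroup_le_M24

end Cfsg.Agent.Helper7
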