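import Cfsg.Agent.Helper7.MaskAct
import Cfsg.Agent.Helper7.M24Chain

/-!
# Certificates of simplicity for chain groups
-/

set_option autoImplicit false

namespace Cfsg.Agent.Helper7

open Cfsg MulAction

/-- Powers of a table. -/
def powT (l : List ℕ) : ℕ → List ℕ
  | 0 => idT
  | n + 1 => compT l (powT l n)

theorem IsTable.pow {l : List ℕ} {g : Equiv.Perm GolayPt} (h : IsTable l g) (n : ℕ) :
    IsTable (powT l n) (g ^ n) := by
  induction n with
  | zero =>
    rw [powT, pow_zero]
    exact isTable_one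
  | succ n ih =>
    rw [powT, pow_succ']
    exact h.mul ih

theorem Tabled.fixG {H : Subgroup (Equiv.Perm GolayPt)} {l : List ℕ} (h : Tabled H l)
    {F : List ℕ} (hF : F.all (fun i => Nat.beq (l.getD i 0) i) = true)
    (hF24 : ∀ i ∈ F, i < 24) : Tabled (fixG H F) l := by
  obtain ⟨g, hg, hl⟩ := h
  refine ⟨g, ⟨hg, fun i hi => ?_⟩, hl⟩
  rw [List.all_eq_true] at hF
  have := Nat.eq_of_beq_eq_true (hF i hi)
  rw [hl.apply, idx_pt (hF24 i hi), this]

/-- Two chains have the same base points, and the orbits of the first are contained in those of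
the second. -/
def sameBO : List Level → List Level → Bool
  | [], [] => true
  | L :: Ls, L' :: Ls' =>
    Nat.beq L.b L'.b && L.orb.all (fun q => L'.orb.contains q) && sameBO Ls Ls'
  | _, _ => false

theorem bounds_congr {H : Subgroup (Equiv.Perm GolayPt)} {F : List ℕ} {Ls Ls' : List Level}
    (h : sameBO Ls Ls' = true) (hB : Bounds H F Ls) : Bounds H F Ls' := by
  induction Ls generalizing F Ls' with
  | nil =>
    cases Ls' with
    | nil => exact hB
    | cons L' Ls' => simp [sameBO] at h
  | cons L Ls ih =>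
    cases Ls' with
    | nil => simp [sameBO] at h
    | cons L' Ls' =>
      rw [sameBO, Bool.and_eq_true, Bool.and_eq_true, List.all_eq_true] at h
      obtain ⟨⟨h1, h2⟩, h3⟩ := h
      have hb : L.b = L'.b := Nat.eq_of_beq_eq_true h1
      refine ⟨fun g hg => ?_, ?_⟩
      · have := hB.1 g hg
        rw [hb] at this
        have h4 := h2 _ this
        simpa using h4
      · rw [← hb]
        exact ih h3 hB.2

theorem normalClosure_eq_top_of_le_closure {P : Type*} [Group P] (G : Subgroup P) {y h : P}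
    (hy : y ∈ G) (hh : h ∈ G) (hle : G ≤ Subgroup.closure {y, h * y * h⁻¹}) :
    Subgroup.normalClosure ({⟨y, hy⟩} : Set G) = ⊤ := by
  rw [eq_top_iff]
  intro g _
  have h1 : Subgroup.closure {y, h * y * h⁻¹} ≤
      (Subgroup.normalClosure ({⟨y, hy⟩} : Set G)).map G.subtype := by
    rw [Subgroup.closure_le]
    rintro x (rfl | rfl)
    · exact ⟨⟨x, hy⟩, Subgroup.subset_normalClosure (Set.mem_singleton _), rfl⟩
    · refine ⟨⟨h, hh⟩ * ⟨y, hy⟩ * ⟨h, hh⟩⁻¹, ?_, rfl⟩
      exact Subgroup.normalClosure_normal.conj_mem _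
        (Subgroup.subset_normalClosure (Set.mem_singleton _)) _
  obtain ⟨n, hn, hng⟩ := h1 (hle g.2)
  have : n = g := Subtype.ext hng
  rwa [← this]

theorem factorization_mul_self_eq_one {p m : ℕ} (hp : p.Prime) (hpm : ¬ p ∣ m) :
    (p * m).factorization p = 1 := by
  have hm : m ≠ 0 := by
    rintro rfl
    exact hpm (dvd_zero p)
  rw [Nat.factorization_mul hp.ne_zero hm, Finsupp.add_apply, hp.factorization_self,
    Nat.factorization_eq_zero_of_not_dvd hpm]

/-- Product of the tables with the given indices. -/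
def prodIdx (tabs : List (List ℕ)) (ids : List ℕ) : List ℕ :=
  ids.foldr (fun k acc => compT (tabs.getD k idT) acc) idT

theorem tabled_prodIdx {H : Subgroup (Equiv.Perm GolayPt)} {tabs : List (List ℕ)}
    (h : ∀ l ∈ tabs, Tabled H l) (ids : List ℕ) : Tabled H (prodIdx tabs ids) := by
  induction ids with
  | nil => exact tabled_idT H
  | cons k ids ih =>
    rw [prodIdx, List.foldr_cons]
    refine Tabled.mul ?_ ih
    by_cases hk : k < tabs.length
    · rw [List.getD_eq_getElem _ _ hk]
      exact h _ (List.getElem_mem hk)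
    · rw [List.getD_eq_default _ _ (by omega)]
      exact tabled_idT H

theorem Tabled.pow {H : Subgroup (Equiv.Perm GolayPt)} {l : List ℕ} (h : Tabled H l) (n : ℕ) :
    Tabled H (powT l n) := by
  obtain ⟨g, hg, hl⟩ := h
  exact ⟨g ^ n, H.pow_mem hg n, hl.pow n⟩

/-- Removing fixed points from an invariant mask gives an invariant mask of the point
stabiliser. -/
theorem diff_mask_inv (H : Subgroup (Equiv.Perm GolayPt)) (F : List ℕ) (S S' : ℕ)
    (hinv : ∀ g ∈ H, ∀ q, S.testBit (idx q) = true → S.testBit (idx (g q)) = true)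
    (hS' : ∀ i < 24, S'.testBit i = (S.testBit i && !F.contains i)) :
    ∀ g ∈ fixG H F, ∀ q, S'.testBit (idx q) = true → S'.testBit (idx (g q)) = true := by
  intro g hg q hq
  rw [hS' _ (idx_lt _), Bool.and_eq_true] at hq ⊢
  refine ⟨hinv g hg.1 q hq.1, ?_⟩
  by_contra hcon
  have h1 : idx (g q) ∈ F := by simpa using hcon
  have h2 := hg.2 _ h1
  rw [pt_idx] at h2
  have h3 : g q = q := g.injective h2
  rw [h3] at h1
  have h4 := hq.2
  simp [h1] at h4

theorem diff_mask_faithful (H : Subgroup (Equiv.Perm GolayPt)) (F : List ℕ) (S S' : ℕ)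
    (hS' : ∀ i < 24, S'.testBit i = (S.testBit i && !F.contains i))
    (hfaith : ∀ g ∈ H, (∀ q, S.testBit (idx q) = true → g q = q) → g = 1) :
    ∀ g ∈ fixG H F, (∀ q, S'.testBit (idx q) = true → g q = q) → g = 1 := by
  intro g hg hfix
  apply hfaith g hg.1
  intro q hq
  by_cases hF : idx q ∈ F
  · have := hg.2 _ hF
    rwa [pt_idx] at this
  · apply hfix
    rw [hS' _ (idx_lt _), hq]
    simpa using hF

theorem full_mask_faithful (H : Subgroup (Equiv.Perm GolayPt)) :
    ∀ g ∈ H, (∀ q, (16777215 : ℕ).testBit (idx q) = true → g q = q) → g = 1 := by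
  intro g _ hfix
  apply Equiv.ext
  intro q
  have : ∀ i < 24, (16777215 : ℕ).testBit i = true := by decide
  exact hfix q (this _ (idx_lt _))


/-- Simplicity from a Sylow certificate: an element `y` of prime order `p` (exactly dividing the
group order), a conjugate `h y h⁻¹` such that both generate the group, and a faithful
2-transitive action on a set of size divisible by `p`. -/
theorem simple_of_sylow_cert {H : Subgroup (Equiv.Perm GolayPt)} {F : List ℕ} {Ls : List Level}
    (hT : ∀ L ∈ Ls, ∀ l ∈ L.T, Tabled H l) (hok : chainOK F Ls = true) (hB : Bounds H F Ls)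
    (hF24 : ∀ i ∈ F, i < 24)
    {p m : ℕ} (hp : p.Prime) (hcard : Nat.card (fixG H F) = p * m) (hpm : ¬ p ∣ m)
    {ty th : List ℕ} (hy : Tabled (fixG H F) ty) (hh : Tabled (fixG H F) th)
    (hord : powT ty p = idT) (hne : ty ≠ idT)
    {prog : List Op} {tabs : List (List ℕ)}
    (htabs : runSLP prog [idT, ty, compT th (compT ty (invT th))] = tabs)
    {Ls' : List Level} (hLs' : ∀ L ∈ Ls', ∀ l ∈ L.T, l ∈ tabs)
    (hok' : chainOK F Ls' = true) (hsame : sameBO Ls Ls' = true)
    (S : ℕ) (hS : ∀ g ∈ fixG H F, ∀ q, S.testBit (idx q) = true → S.testBit (idx (g q)) = true)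
    (hfull : fullOK S F (Ls.take 2) = true) (hSF : ∀ i ∈ F, S.testBit i = false)
    (hlen : 2 ≤ Ls.length)
    (hfaith : ∀ g ∈ fixG H F, (∀ q, S.testBit (idx q) = true → g q = q) → g = 1)
    (hdeg : p ∣ wt S) : IsSimpleGroup (fixG H F) := by
  obtain ⟨y, hyG, hyt⟩ := hy
  obtain ⟨h, hhG, hht⟩ := hh
  have hy1t : IsTable (compT th (compT ty (invT th))) (h * y * h⁻¹) := by
    have := hht.mul (hyt.mul hht.inv)
    rwa [← mul_assoc] at this
  -- the group is generated by y and its conjugate
  have hle : fixG H F ≤ Subgroup.closure {y, h * y * h⁻¹} := by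
    have htK : ∀ l ∈ tabs, Tabled (Subgroup.closure {y, h * y * h⁻¹}) l := by
      rw [← htabs]
      apply tabled_runSLP
      intro l hl
      simp only [List.mem_cons, List.not_mem_nil, or_false] at hl
      rcases hl with rfl | rfl | rfl
      · exact tabled_idT _
      · exact ⟨y, Subgroup.subset_closure (by simp), hyt⟩
      · exact ⟨h * y * h⁻¹, Subgroup.subset_closure (by simp), hy1t⟩
    have htH : ∀ l ∈ tabs, Tabled H l := by
      rw [← htabs]
      apply tabled_runSLP
      intro l hl
      simp only [List.mem_cons, List.not_mem_nil, or_false] at hl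
      rcases hl with rfl | rfl | rfl
      · exact tabled_idT _
      · exact ⟨y, hyG.1, hyt⟩
      · exact ⟨h * y * h⁻¹, H.mul_mem (H.mul_mem hhG.1 hyG.1) (H.inv_mem hhG.1), hy1t⟩
    exact chain_le (fun L hL l hl => htH l (hLs' L hL l hl)) hok' (bounds_congr hsame hB)
      (fun L hL l hl => htK l (hLs' L hL l hl))
  have hncl := normalClosure_eq_top_of_le_closure (fixG H F) hyG hhG hle
  have : Fact p.Prime := ⟨hp⟩
  -- order of y
  have hyp : y ^ p = 1 := by
    have h1 := hyt.pow p
    rw [hord] at h1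
    exact h1.inj isTable_one
  have hy1 : y ≠ 1 := by
    rintro rfl
    apply hne
    rw [hyt.eq_map, isTable_one.eq_map]
  have hordy : orderOf (⟨y, hyG⟩ : fixG H F) = p := by
    apply orderOf_eq_prime
    · apply Subtype.ext
      simpa using hyp
    · intro hcon
      exact hy1 (congrArg Subtype.val hcon)
  have hfac : (Nat.card (fixG H F)).factorization p = 1 := by
    rw [hcard]
    exact factorization_mul_self_eq_one hp hpm
  have hfaithI := faithful_maskSub (fixG H F) S hS hfaith
  have h2 := two_trans_maskSub S hS hT hok hfull hF24 hSF hlen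
  refine isSimpleGroup_of_sylow hfac _ hordy hncl ?_
  intro N hN hbot
  have := card_dvd_card_normal h2 N hbot
  rw [card_maskSub] at this
  exact hdeg.trans this

/-- The stabiliser of a point of the mask in the chain group. -/
def stabMaskEquiv (H : Subgroup (Equiv.Perm GolayPt)) (F : List ℕ) (S : ℕ)
    (hS : ∀ g ∈ fixG H F, ∀ q, S.testBit (idx q) = true → S.testBit (idx (g q)) = true)
    (b0 : ℕ) (hb0 : S.testBit (idx (pt b0)) = true) :
    stabilizer (fixG H F) (⟨pt b0, hb0⟩ : maskSub (fixG H F) S hS) ≃* fixG H (b0 :: F) where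
  toFun g := ⟨g.1.1, g.1.2.1, fun i hi => by
    rw [List.mem_cons] at hi
    rcases hi with rfl | hi
    · have := g.2
      rw [mem_stabilizer_iff] at this
      exact congrArg Subtype.val this
    · exact g.1.2.2 i hi⟩
  invFun g := ⟨⟨g.1, g.2.1, fun i hi => g.2.2 i (List.mem_cons_of_mem _ hi)⟩, by
    rw [mem_stabilizer_iff]
    apply Subtype.ext
    exact g.2.2 b0 (List.mem_cons_self ..)⟩
  left_inv _ := rfl
  right_inv _ := rfl
  map_mul' _ _ := rfl

/-- Simplicity from the simplicity of a point stabiliser. -/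
theorem simple_of_stab_cert {H : Subgroup (Equiv.Perm GolayPt)} {F : List ℕ} {Ls : List Level}
    (hT : ∀ L ∈ Ls, ∀ l ∈ L.T, Tabled H l) (hok : chainOK F Ls = true)
    (hF24 : ∀ i ∈ F, i < 24)
    (S : ℕ) (hS : ∀ g ∈ fixG H F, ∀ q, S.testBit (idx q) = true → S.testBit (idx (g q)) = true)
    (hfull : fullOK S F (Ls.take 2) = true) (hSF : ∀ i ∈ F, S.testBit i = false)
    (hlen : 2 ≤ Ls.length)
    (hfaith : ∀ g ∈ fixG H F, (∀ q, S.testBit (idx q) = true → g q = q) → g = 1)
    (b0 : ℕ) (hb24 : b0 < 24) (hb0 : S.testBit b0 = true)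
    (hs : IsSimpleGroup (fixG H (b0 :: F)))
    {p q : ℕ} (hp : p.Prime) (hq : q.Prime) (hpq : p ≠ q) (hpd : p ∣ wt S) (hqd : q ∣ wt S) :
    IsSimpleGroup (fixG H F) := by
  have hfaithI := faithful_maskSub (fixG H F) S hS hfaith
  have h2 := two_trans_maskSub S hS hT hok hfull hF24 hSF hlen
  have hb0' : S.testBit (idx (pt b0)) = true := by rw [idx_pt hb24]; exact hb0
  have hs' : IsSimpleGroup (stabilizer (fixG H F) (⟨pt b0, hb0'⟩ : maskSub (fixG H F) S hS)) :=
    (stabMaskEquiv H F S hS b0 hb0').isSimpleGroup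
  refine isSimpleGroup_of_stabilizer h2 _ hs' hp hq hpq ?_ ?_
  · rw [card_maskSub]; exact hpd
  · rw [card_maskSub]; exact hqd

end Cfsg.Agent.Helper7
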