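import Cfsg.Agent.Helper7.PermIso
import Cfsg.Agent.Helper7.Dodecad3
import Cfsg.Agent.Helper7.SimpleCert

/-!
# The stabiliser of a dodecad, a point on it and a pair of points off it is a symmetric group
of degree 5
-/

set_option autoImplicit false

namespace Cfsg.Agent.Helper7

open Cfsg MulAction
open scoped Pointwise

/-- All tables of the stabiliser of the standard dodecad and the point `0`. -/
def m11Tabs : List (List ℕ) := prodTables (m12Levels.drop 1)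

theorem m11_sift : ∀ g ∈ fixG M12 [0], ∃ l ∈ m11Tabs, IsTable l g := by
  have h1 : baseRev m12Levels 1 ++ [] = [0] := by decide +kernel
  have := chain_sift (H := M12) (F := baseRev m12Levels 1 ++ [])
    (fun L hL l hl => tabled_m12Levels L (List.mem_of_mem_drop hL) l hl)
    (chainOK_drop 1 m12_chainOK) (bounds_drop 1 m12_bounds)
  rwa [h1] at this

/-- The tables of a chain belong to the chain group. -/
theorem tabled_fixG_of_chainOK {H : Subgroup (Equiv.Perm GolayPt)} {F : List ℕ} {Ls : List Level}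
    (hT : ∀ L ∈ Ls, ∀ l ∈ L.T, Tabled H l) (hok : chainOK F Ls = true) (hF24 : ∀ i ∈ F, i < 24) :
    ∀ L ∈ Ls, ∀ l ∈ L.T, Tabled (fixG H F) l := by
  induction Ls generalizing F with
  | nil => intro L hL; simp at hL
  | cons L0 Ls ih =>
    rw [chainOK, Bool.and_eq_true, Bool.and_eq_true, Bool.and_eq_true] at hok
    obtain ⟨⟨⟨h1, _⟩, h3⟩, h4⟩ := hok
    have hb : L0.b < 24 := by simpa [Nat.blt_eq] using h3
    intro L hL l hl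
    rw [List.mem_cons] at hL
    rcases hL with rfl | hL
    · rw [Level.ok, Bool.and_eq_true, List.all_eq_true] at h1
      exact (hT L (List.mem_cons_self ..) l hl).fixG (h1.1 l hl) hF24
    · have h5 := ih (F := L0.b :: F) (fun L' hL' => hT L' (List.mem_cons_of_mem _ hL')) h4
        (by
          intro i hi
          rw [List.mem_cons] at hi
          rcases hi with rfl | hi
          · exact hb
          · exact hF24 i hi) L hL l hl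
      have hle : fixG H (L0.b :: F) ≤ fixG H F :=
        fun g hg => ⟨hg.1, fun i hi => hg.2 i (List.mem_cons_of_mem _ hi)⟩
      exact h5.mono hle

theorem tabled_m11Tabs : ∀ l ∈ m11Tabs, Tabled (fixG M12 [0]) l := by
  have h1 : baseRev m12Levels 1 ++ [] = [0] := by decide +kernel
  have hok := chainOK_drop (F := []) 1 m12_chainOK
  rw [h1] at hok
  exact tabled_prodTables (m12Levels.drop 1)
    (tabled_fixG_of_chainOK (fun L hL l hl => tabled_m12Levels L (List.mem_of_mem_drop hL) l hl)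
      hok (by decide))

/-- Description of a set-stabiliser inside `fixG M12 [0]` by tables. -/
theorem m11_setStab_tables (S : ℕ) :
    (∀ g ∈ setStab (fixG M12 [0]) S, ∃ l ∈ m11Tabs.filter (maskStable S), IsTable l g) ∧
    (∀ l ∈ m11Tabs.filter (maskStable S), ∃ g ∈ setStab (fixG M12 [0]) S, IsTable l g) := by
  constructor
  · intro g hg
    obtain ⟨l, hl, hlt⟩ := m11_sift g hg.1
    refine ⟨l, ?_, hlt⟩
    rw [List.mem_filter]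
    exact ⟨hl, (maskStable_iff hlt).mpr hg.2⟩
  · intro l hl
    rw [List.mem_filter] at hl
    exact (tabled_m11Tabs l hl.1).setStab hl.2

/-- Mask of the pair of points `5, 7` (outside the standard dodecad). -/
def pm57 : ℕ := 160

/-- Mask of the orbit of length five of the stabiliser of the pair. -/
def o5m : ℕ := 262476

/-- The tables of the stabiliser of the pair `{5, 7}`. -/
def s5Tabs : List (List ℕ) := [
  [0, 1, 2, 3, 4, 5, 6, 7, 8, 9, 10, 11, 12, 13, 14, 15, 16, 17, 18, 19, 20, 21, 22, 23],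
  [0, 1, 2, 6, 12, 7, 8, 5, 18, 4, 15, 20, 13, 9, 23, 17, 16, 19, 3, 10, 11, 22, 14, 21],
  [0, 1, 2, 8, 13, 5, 18, 7, 3, 12, 17, 11, 9, 4, 21, 19, 16, 10, 6, 15, 20, 14, 23, 22],
  [0, 1, 2, 18, 9, 7, 3, 5, 6, 13, 19, 20, 4, 12, 22, 10, 16, 15, 8, 17, 11, 23, 21, 14],
  [0, 1, 3, 2, 12, 5, 6, 7, 18, 9, 10, 22, 4, 16, 14, 21, 13, 23, 8, 20, 19, 15, 11, 17],
  [0, 1, 3, 6, 4, 7, 18, 5, 8, 12, 21, 19, 16, 9, 17, 23, 13, 20, 2, 10, 22, 11, 14, 15],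
  [0, 1, 3, 8, 9, 7, 2, 5, 6, 16, 20, 19, 12, 4, 11, 10, 13, 21, 18, 23, 22, 17, 15, 14],
  [0, 1, 3, 18, 16, 5, 8, 7, 2, 4, 23, 22, 9, 12, 15, 20, 13, 10, 6, 21, 19, 14, 17, 11],
  [0, 1, 6, 8, 12, 5, 3, 7, 18, 13, 22, 10, 16, 4, 19, 21, 9, 11, 2, 15, 14, 20, 23, 17],
  [0, 1, 6, 18, 4, 5, 2, 7, 8, 16, 11, 10, 13, 12, 20, 15, 9, 22, 3, 21, 14, 19, 17, 23],
  [0, 1, 6, 2, 13, 7, 8, 5, 3, 4, 15, 14, 12, 16, 23, 22, 9, 21, 18, 11, 10, 17, 20, 19],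
  [0, 1, 6, 3, 16, 7, 18, 5, 2, 12, 21, 14, 4, 13, 17, 11, 9, 15, 8, 22, 10, 23, 19, 20],
  [0, 1, 8, 6, 16, 5, 3, 7, 2, 13, 22, 23, 12, 9, 19, 20, 4, 17, 18, 14, 15, 21, 10, 11],
  [0, 1, 8, 18, 13, 7, 6, 5, 3, 9, 14, 15, 16, 12, 10, 22, 4, 20, 2, 17, 23, 11, 21, 19],
  [0, 1, 8, 3, 12, 7, 2, 5, 18, 16, 20, 15, 9, 13, 11, 17, 4, 14, 6, 22, 23, 10, 19, 21],
  [0, 1, 8, 2, 9, 5, 18, 7, 6, 12, 17, 23, 13, 16, 21, 14, 4, 22, 3, 20, 15, 19, 11, 10],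
  [0, 1, 18, 6, 13, 5, 2, 7, 3, 16, 11, 17, 4, 9, 20, 19, 12, 23, 8, 14, 21, 15, 10, 22],
  [0, 1, 18, 3, 9, 5, 8, 7, 6, 4, 23, 17, 16, 13, 15, 14, 12, 11, 2, 19, 21, 20, 22, 10],
  [0, 1, 18, 8, 16, 7, 6, 5, 2, 9, 14, 21, 13, 4, 10, 11, 12, 19, 3, 23, 17, 22, 15, 20],
  [0, 1, 18, 2, 4, 7, 3, 5, 8, 13, 19, 21, 9, 16, 22, 23, 12, 14, 6, 11, 17, 10, 20, 15],
  [0, 4, 3, 6, 16, 7, 2, 5, 18, 13, 21, 17, 1, 12, 14, 10, 9, 23, 8, 20, 11, 15, 19, 22],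
  [0, 4, 3, 18, 12, 7, 8, 5, 6, 1, 23, 17, 13, 16, 15, 20, 9, 21, 2, 10, 11, 14, 22, 19],
  [0, 4, 3, 8, 13, 5, 6, 7, 2, 12, 20, 11, 16, 1, 19, 21, 9, 10, 18, 23, 17, 22, 15, 14],
  [0, 4, 3, 2, 1, 5, 18, 7, 8, 16, 10, 11, 12, 13, 22, 23, 9, 20, 6, 21, 17, 19, 14, 15],
  [0, 4, 8, 2, 12, 7, 3, 5, 6, 9, 17, 23, 16, 13, 11, 20, 1, 22, 18, 14, 15, 10, 21, 19],
  [0, 4, 8, 3, 16, 5, 6, 7, 18, 12, 20, 15, 13, 9, 19, 22, 1, 14, 2, 17, 23, 21, 11, 10],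
  [0, 4, 8, 6, 13, 7, 18, 5, 2, 16, 22, 23, 9, 12, 10, 14, 1, 17, 3, 20, 15, 11, 19, 21],
  [0, 4, 8, 18, 9, 5, 2, 7, 3, 13, 14, 15, 12, 16, 21, 17, 1, 20, 6, 22, 23, 19, 10, 11],
  [0, 4, 6, 18, 13, 5, 3, 7, 2, 9, 11, 20, 1, 16, 17, 21, 12, 15, 8, 22, 19, 23, 10, 14],
  [0, 4, 6, 2, 16, 5, 8, 7, 18, 1, 15, 20, 9, 13, 23, 22, 12, 11, 3, 21, 19, 17, 14, 10],
  [0, 4, 6, 8, 9, 7, 18, 5, 3, 16, 22, 19, 13, 1, 10, 11, 12, 21, 2, 15, 20, 14, 23, 17],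
  [0, 4, 6, 3, 1, 7, 2, 5, 8, 13, 21, 19, 16, 9, 14, 15, 12, 22, 18, 11, 20, 10, 17, 23],
  [0, 4, 18, 2, 9, 7, 6, 5, 3, 12, 19, 22, 1, 13, 20, 11, 16, 23, 8, 14, 10, 15, 21, 17],
  [0, 4, 18, 8, 12, 5, 2, 7, 6, 13, 14, 10, 9, 1, 21, 19, 16, 11, 3, 23, 22, 17, 15, 20],
  [0, 4, 18, 6, 1, 5, 3, 7, 8, 9, 11, 10, 13, 12, 17, 23, 16, 14, 2, 19, 22, 21, 20, 15],
  [0, 4, 18, 3, 13, 7, 8, 5, 2, 1, 23, 22, 12, 9, 15, 14, 16, 19, 6, 11, 10, 20, 17, 21],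
  [0, 4, 2, 18, 1, 7, 6, 5, 8, 12, 19, 21, 9, 16, 20, 15, 13, 17, 3, 10, 14, 11, 22, 23],
  [0, 4, 2, 6, 9, 5, 8, 7, 3, 1, 15, 14, 16, 12, 23, 17, 13, 10, 18, 19, 21, 22, 20, 11],
  [0, 4, 2, 3, 12, 5, 18, 7, 6, 16, 10, 14, 1, 9, 22, 19, 13, 15, 8, 17, 21, 23, 11, 20],
  [0, 4, 2, 8, 16, 7, 3, 5, 18, 9, 17, 21, 12, 1, 11, 10, 13, 19, 6, 15, 14, 20, 23, 22],
  [0, 9, 18, 8, 4, 5, 6, 7, 3, 1, 14, 15, 12, 16, 10, 11, 13, 23, 2, 19, 20, 22, 21, 17],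
  [0, 9, 18, 2, 1, 7, 8, 5, 6, 16, 19, 20, 4, 12, 21, 14, 13, 11, 3, 23, 15, 17, 22, 10],
  [0, 9, 18, 6, 12, 7, 3, 5, 2, 4, 11, 20, 16, 1, 17, 23, 13, 19, 8, 14, 15, 21, 10, 22],
  [0, 9, 18, 3, 16, 5, 2, 7, 8, 12, 23, 15, 1, 4, 22, 19, 13, 14, 6, 11, 20, 10, 17, 21],
  [0, 9, 8, 18, 12, 5, 6, 7, 2, 1, 14, 21, 4, 13, 10, 22, 16, 17, 3, 20, 19, 11, 15, 23],
  [0, 9, 8, 6, 4, 7, 2, 5, 3, 12, 22, 19, 13, 1, 23, 17, 16, 20, 18, 14, 21, 15, 10, 11],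
  [0, 9, 8, 3, 1, 7, 18, 5, 6, 13, 20, 19, 12, 4, 15, 14, 16, 22, 2, 17, 21, 23, 11, 10],
  [0, 9, 8, 2, 13, 5, 3, 7, 18, 4, 17, 21, 1, 12, 11, 20, 16, 14, 6, 22, 19, 10, 23, 15],
  [0, 9, 2, 8, 1, 5, 3, 7, 6, 4, 17, 23, 13, 16, 11, 10, 12, 15, 18, 19, 22, 20, 21, 14],
  [0, 9, 2, 18, 4, 7, 8, 5, 3, 16, 19, 22, 1, 13, 21, 17, 12, 10, 6, 15, 23, 14, 20, 11],
  [0, 9, 2, 3, 13, 7, 6, 5, 18, 1, 10, 22, 16, 4, 14, 15, 12, 19, 8, 17, 23, 21, 11, 20],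
  [0, 9, 2, 6, 16, 5, 18, 7, 8, 13, 15, 23, 4, 1, 20, 19, 12, 17, 3, 10, 22, 11, 14, 21],
  [0, 9, 6, 18, 16, 7, 3, 5, 8, 4, 11, 10, 12, 13, 17, 21, 1, 22, 2, 15, 14, 23, 20, 19],
  [0, 9, 6, 8, 13, 7, 2, 5, 18, 12, 22, 10, 4, 16, 23, 15, 1, 11, 3, 21, 14, 17, 19, 20],
  [0, 9, 6, 2, 4, 5, 18, 7, 3, 13, 15, 14, 16, 12, 20, 11, 1, 21, 8, 22, 10, 19, 23, 17],
  [0, 9, 6, 3, 12, 5, 8, 7, 2, 16, 21, 14, 13, 4, 19, 22, 1, 15, 18, 11, 10, 20, 17, 23],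
  [0, 9, 3, 6, 13, 5, 8, 7, 18, 16, 21, 17, 12, 1, 19, 20, 4, 23, 2, 10, 11, 22, 14, 15],
  [0, 9, 3, 2, 16, 7, 6, 5, 8, 1, 10, 11, 13, 12, 14, 21, 4, 20, 18, 23, 17, 15, 22, 19],
  [0, 9, 3, 8, 12, 7, 18, 5, 2, 13, 20, 11, 1, 16, 15, 23, 4, 10, 6, 21, 17, 14, 19, 22],
  [0, 9, 3, 18, 1, 5, 2, 7, 6, 12, 23, 17, 16, 13, 22, 10, 4, 21, 8, 20, 11, 19, 15, 14],
  [0, 12, 2, 8, 4, 7, 18, 5, 6, 1, 17, 23, 16, 13, 21, 19, 9, 15, 3, 10, 22, 14, 11, 20],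
  [0, 12, 2, 3, 1, 5, 8, 7, 18, 13, 10, 22, 4, 16, 11, 17, 9, 19, 6, 15, 23, 20, 14, 21],
  [0, 12, 2, 6, 13, 7, 3, 5, 8, 16, 15, 23, 1, 4, 14, 10, 9, 17, 18, 19, 22, 21, 20, 11],
  [0, 12, 2, 18, 16, 5, 6, 7, 3, 4, 19, 22, 13, 1, 20, 15, 9, 10, 8, 17, 23, 11, 21, 14],
  [0, 12, 3, 2, 4, 5, 8, 7, 6, 13, 10, 14, 1, 9, 11, 20, 16, 21, 18, 23, 15, 17, 22, 19],
  [0, 12, 3, 6, 9, 5, 18, 7, 2, 1, 21, 14, 13, 4, 17, 23, 16, 10, 8, 20, 15, 11, 19, 22],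
  [0, 12, 3, 18, 13, 7, 2, 5, 8, 9, 23, 15, 4, 1, 22, 10, 16, 20, 6, 21, 14, 19, 17, 11],
  [0, 12, 3, 8, 1, 7, 6, 5, 18, 4, 20, 15, 9, 13, 19, 21, 16, 23, 2, 10, 14, 22, 11, 17],
  [0, 12, 8, 18, 4, 5, 3, 7, 6, 16, 14, 10, 9, 1, 15, 20, 13, 22, 2, 17, 11, 23, 21, 19],
  [0, 12, 8, 3, 9, 7, 6, 5, 2, 4, 20, 11, 1, 16, 19, 22, 13, 17, 18, 14, 10, 21, 15, 23],
  [0, 12, 8, 2, 16, 7, 18, 5, 3, 1, 17, 11, 4, 9, 21, 14, 13, 20, 6, 22, 10, 19, 23, 15],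
  [0, 12, 8, 6, 1, 5, 2, 7, 18, 9, 22, 10, 16, 4, 23, 17, 13, 14, 3, 20, 11, 15, 19, 21],
  [0, 12, 18, 8, 9, 5, 3, 7, 2, 16, 14, 21, 4, 13, 15, 23, 1, 19, 6, 11, 17, 20, 10, 22],
  [0, 12, 18, 3, 4, 7, 2, 5, 6, 9, 23, 17, 13, 16, 22, 19, 1, 11, 8, 14, 21, 10, 15, 20],
  [0, 12, 18, 2, 13, 5, 6, 7, 8, 4, 19, 21, 16, 9, 20, 11, 1, 14, 3, 23, 17, 15, 22, 10],
  [0, 12, 18, 6, 16, 7, 8, 5, 3, 13, 11, 17, 9, 4, 10, 14, 1, 23, 2, 19, 21, 22, 20, 15],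
  [0, 12, 6, 3, 13, 5, 18, 7, 8, 1, 21, 19, 9, 16, 17, 11, 4, 22, 2, 15, 20, 23, 14, 10],
  [0, 12, 6, 2, 1, 7, 3, 5, 18, 16, 15, 20, 13, 9, 14, 21, 4, 11, 8, 22, 19, 10, 23, 17],
  [0, 12, 6, 18, 9, 7, 8, 5, 2, 13, 11, 20, 16, 1, 10, 22, 4, 15, 3, 21, 19, 14, 17, 23],
  [0, 12, 6, 8, 16, 5, 2, 7, 3, 9, 22, 19, 1, 13, 23, 15, 4, 21, 18, 11, 20, 17, 10, 14],
  [0, 13, 18, 6, 4, 5, 8, 7, 2, 12, 11, 20, 1, 16, 10, 14, 9, 19, 3, 23, 15, 22, 17, 21],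
  [0, 13, 18, 3, 12, 7, 6, 5, 8, 16, 23, 15, 4, 1, 17, 11, 9, 14, 2, 19, 20, 21, 22, 10],
  [0, 13, 18, 8, 1, 7, 2, 5, 3, 4, 14, 15, 16, 12, 21, 19, 9, 23, 6, 11, 20, 17, 10, 22],
  [0, 13, 18, 2, 16, 5, 3, 7, 6, 1, 19, 20, 12, 4, 22, 23, 9, 11, 8, 14, 15, 10, 21, 17],
  [0, 13, 6, 18, 1, 5, 8, 7, 3, 12, 11, 17, 4, 9, 10, 22, 16, 21, 2, 15, 23, 14, 20, 19],
  [0, 13, 6, 8, 4, 7, 3, 5, 2, 1, 22, 23, 9, 12, 19, 21, 16, 15, 18, 11, 17, 20, 10, 14],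
  [0, 13, 6, 2, 12, 7, 18, 5, 8, 9, 15, 23, 1, 4, 20, 11, 16, 22, 3, 21, 17, 19, 14, 10],
  [0, 13, 6, 3, 9, 5, 2, 7, 18, 4, 21, 17, 12, 1, 14, 15, 16, 11, 8, 22, 23, 10, 19, 20],
  [0, 13, 3, 6, 12, 5, 2, 7, 8, 4, 21, 19, 9, 16, 14, 10, 1, 20, 18, 23, 22, 15, 17, 11],
  [0, 13, 3, 18, 4, 7, 6, 5, 2, 16, 23, 22, 12, 9, 17, 21, 1, 10, 8, 20, 19, 11, 15, 14],
  [0, 13, 3, 2, 9, 7, 8, 5, 18, 12, 10, 22, 16, 4, 11, 20, 1, 23, 6, 21, 19, 17, 14, 15],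
  [0, 13, 3, 8, 16, 5, 18, 7, 6, 9, 20, 19, 4, 12, 15, 23, 1, 21, 2, 10, 22, 14, 11, 17],
  [0, 13, 8, 18, 16, 7, 2, 5, 6, 4, 14, 10, 1, 9, 21, 17, 12, 22, 3, 20, 11, 19, 15, 23],
  [0, 13, 8, 6, 9, 7, 3, 5, 18, 1, 22, 10, 4, 16, 19, 20, 12, 14, 2, 17, 11, 21, 23, 15],
  [0, 13, 8, 3, 4, 5, 18, 7, 2, 9, 20, 11, 16, 1, 15, 14, 12, 17, 6, 22, 10, 23, 19, 21],
  [0, 13, 8, 2, 1, 5, 6, 7, 3, 16, 17, 11, 9, 4, 23, 22, 12, 20, 18, 14, 10, 15, 21, 19],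
  [0, 13, 2, 8, 9, 5, 6, 7, 18, 16, 17, 21, 1, 12, 23, 15, 4, 19, 3, 10, 14, 22, 11, 20],
  [0, 13, 2, 3, 16, 7, 8, 5, 6, 12, 10, 14, 9, 1, 11, 17, 4, 15, 18, 19, 21, 20, 22, 23],
  [0, 13, 2, 6, 1, 7, 18, 5, 3, 9, 15, 14, 12, 16, 20, 19, 4, 10, 8, 17, 21, 11, 23, 22],
  [0, 13, 2, 18, 12, 5, 3, 7, 8, 1, 19, 21, 16, 9, 22, 10, 4, 17, 6, 15, 14, 23, 20, 11],
  [0, 16, 3, 6, 1, 7, 8, 5, 2, 9, 21, 14, 4, 13, 19, 20, 12, 10, 18, 23, 15, 22, 17, 11],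
  [0, 16, 3, 2, 13, 7, 18, 5, 6, 4, 10, 14, 9, 1, 22, 23, 12, 21, 8, 20, 15, 19, 11, 17],
  [0, 16, 3, 18, 9, 5, 6, 7, 8, 13, 23, 15, 1, 4, 17, 21, 12, 20, 2, 10, 14, 11, 22, 19],
  [0, 16, 3, 8, 4, 5, 2, 7, 18, 1, 20, 15, 13, 9, 11, 10, 12, 23, 6, 21, 14, 17, 19, 22],
  [0, 16, 6, 18, 12, 7, 2, 5, 3, 1, 11, 17, 9, 4, 20, 15, 13, 21, 8, 22, 23, 19, 10, 14],
  [0, 16, 6, 3, 4, 7, 8, 5, 18, 9, 21, 17, 1, 12, 19, 22, 13, 11, 2, 15, 23, 20, 14, 10],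
  [0, 16, 6, 8, 1, 5, 18, 7, 2, 4, 22, 23, 12, 9, 10, 11, 13, 15, 3, 21, 17, 14, 19, 20],
  [0, 16, 6, 2, 9, 5, 3, 7, 8, 12, 15, 23, 4, 1, 14, 21, 13, 22, 18, 11, 17, 10, 20, 19],
  [0, 16, 2, 8, 12, 7, 6, 5, 3, 13, 17, 11, 4, 9, 23, 15, 1, 10, 18, 19, 20, 22, 21, 14],
  [0, 16, 2, 6, 4, 5, 3, 7, 18, 12, 15, 20, 9, 13, 14, 10, 1, 19, 8, 17, 11, 21, 23, 22],
  [0, 16, 2, 18, 13, 5, 8, 7, 6, 9, 19, 20, 12, 4, 21, 17, 1, 15, 3, 10, 11, 14, 22, 23],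
  [0, 16, 2, 3, 9, 7, 18, 5, 8, 4, 10, 11, 13, 12, 22, 19, 1, 17, 6, 15, 20, 23, 14, 21],
  [0, 16, 18, 6, 9, 7, 2, 5, 8, 1, 11, 10, 12, 13, 20, 19, 4, 14, 3, 23, 22, 15, 17, 21],
  [0, 16, 18, 3, 1, 5, 6, 7, 2, 13, 23, 22, 9, 12, 17, 11, 4, 19, 8, 14, 10, 21, 15, 20],
  [0, 16, 18, 2, 12, 5, 8, 7, 3, 9, 19, 22, 13, 1, 21, 14, 4, 23, 6, 11, 10, 17, 20, 15],
  [0, 16, 18, 8, 13, 7, 3, 5, 6, 12, 14, 10, 1, 9, 15, 23, 4, 11, 2, 19, 22, 20, 21, 17],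
  [0, 16, 8, 2, 4, 7, 6, 5, 18, 13, 17, 21, 12, 1, 23, 22, 9, 14, 3, 20, 19, 15, 11, 10],
  [0, 16, 8, 6, 12, 5, 18, 7, 3, 4, 22, 19, 1, 13, 10, 14, 9, 20, 2, 17, 21, 11, 23, 15],
  [0, 16, 8, 18, 1, 7, 3, 5, 2, 12, 14, 21, 13, 4, 15, 20, 9, 17, 6, 22, 19, 23, 10, 11],
  [0, 16, 8, 3, 13, 5, 2, 7, 6, 1, 20, 19, 4, 12, 11, 17, 9, 22, 18, 14, 21, 10, 15, 23]
]

theorem s5Tabs_eq : m11Tabs.filter (maskStable pm57) = s5Tabs := by decide +kernel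

theorem s5Tabs_length : s5Tabs.length = Nat.factorial 5 := by decide +kernel

theorem s5Tabs_nodup : s5Tabs.Nodup := by decide +kernel

theorem s5Tabs_stab : s5Tabs.all (maskStable o5m) = true := by decide +kernel

theorem s5Tabs_faith : s5Tabs.all (fun l => !fixesMask o5m l || l == idT) = true := by
  decide +kernel

/-- The stabiliser of the standard dodecad, the point `0` and the pair `{5, 7}` is `S5`. -/
theorem s5_std : Nonempty (setStab (fixG M12 [0]) pm57 ≃* Equiv.Perm (Fin 5)) :=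
  nonempty_mulEquiv_perm_of_tables _ s5Tabs s5Tabs_nodup (s5Tabs_eq ▸ (m11_setStab_tables pm57).1)
    (s5Tabs_eq ▸ (m11_setStab_tables pm57).2) o5m 5 (by decide +kernel) s5Tabs_length s5Tabs_stab s5Tabs_faith

theorem support₂_word_pm57 : support₂ (word pm57) = {pt 5, pt 7} := by
  ext p
  rw [mem_support₂_word]
  have h : ∀ i < 24, pm57.testBit i = true ↔ (i = 5 ∨ i = 7) := by decide +kernel
  rw [h _ (idx_lt p)]
  simp only [Finset.mem_insert, Finset.mem_singleton]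
  constructor
  · rintro (h5 | h7)
    · left; rw [← pt_idx p, h5]
    · right; rw [← pt_idx p, h7]
  · rintro (rfl | rfl)
    · left; exact idx_pt (by norm_num)
    · right; exact idx_pt (by norm_num)

/-- The joint stabiliser of the standard configuration. -/
def stabS5Equiv :
    stabilizer M24 ((d0F, pt 0), support₂ (word pm57)) ≃* setStab (fixG M12 [0]) pm57 where
  toFun k := ⟨k.1.1, by
    have hk : k.1 ∈ stabilizer M24 d0F ⊓ stabilizer M24 (pt 0) ⊓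
        stabilizer M24 (support₂ (word pm57)) := by
      rw [← stabilizer_prod_eq, ← stabilizer_prod_eq]
      exact k.2
    obtain ⟨⟨h0, h1⟩, h2⟩ := hk
    refine ⟨⟨(mem_M12_iff _).mpr ⟨k.1.2, h0⟩, fun i hi => ?_⟩, fun p => ?_⟩
    · rw [List.mem_singleton] at hi
      subst hi
      exact h1
    · have h3 : (k.1.1 : Equiv.Perm GolayPt) • support₂ (word pm57) = support₂ (word pm57) := h2
      have h4 := (smul_finset_eq_iff _ _).mp h3 p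
      rw [mem_support₂_word, mem_support₂_word] at h4
      exact Bool.eq_iff_iff.mpr h4⟩
  invFun k := ⟨⟨k.1, ((mem_M12_iff _).mp k.2.1.1).1⟩, by
    rw [stabilizer_prod_eq, stabilizer_prod_eq]
    refine ⟨⟨?_, ?_⟩, ?_⟩
    · exact ((mem_M12_iff _).mp k.2.1.1).2
    · exact k.2.1.2 0 (by simp)
    · show (k.1 : Equiv.Perm GolayPt) • support₂ (word pm57) = support₂ (word pm57)
      rw [smul_finset_eq_iff]
      intro p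
      rw [mem_support₂_word, mem_support₂_word, k.2.2 p]⟩
  left_inv k := rfl
  right_inv k := rfl
  map_mul' k k' := rfl

/-- Two distinct points off the standard dodecad are the images of `5, 7` under an element of the
stabiliser of the dodecad and the point `0`. -/
theorem m11_exists_of_pair {x y : GolayPt} (hx : x ∉ d0F) (hy : y ∉ d0F) (hxy : x ≠ y) :
    ∃ g ∈ fixG M12 [0], g (pt 5) = x ∧ g (pt 7) = y := by
  obtain ⟨g, hg, hall⟩ := chain_trans (H := M12) d0c M12_inv_c (F := [0])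
    (Ls := m11cLevels.take 2)
    (fun L hL l hl => tabled_m11cLevels L (List.mem_of_mem_take hL) l hl)
    (chainOK_take 2 m11c_chainOK) (fullOK_take _ 2 m11c_full) (by simp) [x, y]
    (by
      have : m11cLevels.length = 3 := by decide +kernel
      rw [List.length_take, this]
      rfl)
    (by simp [hxy])
    (by
      intro z hz
      simp only [List.mem_cons, List.not_mem_nil, or_false] at hz
      rcases hz with rfl | rfl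
      · exact (not_mem_d0F_iff _).mp hx
      · exact (not_mem_d0F_iff _).mp hy)
    (by
      intro z hz h0
      have hz' : d0c.testBit (idx z) = true := by
        simp only [List.mem_cons, List.not_mem_nil, or_false] at hz
        rcases hz with rfl | rfl
        · exact (not_mem_d0F_iff _).mp hx
        · exact (not_mem_d0F_iff _).mp hy
      rw [List.mem_singleton] at h0
      rw [h0] at hz'
      revert hz'
      decide +kernel)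
  refine ⟨g, hg, ?_⟩
  have h2 : List.Forall₂ (fun b z => g (pt b) = z) ((m11cLevels.take 2).map (fun L => L.b))
      [x, y] := by
    rw [List.forall₂_map_left_iff]
    exact hall
  rw [List.map_take, m11c_b] at h2
  simp only [List.take, List.forall₂_cons, List.forall₂_nil_right_iff] at h2
  exact ⟨h2.1, h2.2.1⟩

/-- Standard position for a dodecad, a point on it and two points off it. -/
theorem exists_std_dpp {d : Finset GolayPt} (hd : d ∈ dodecads) {p q q' : GolayPt} (hp : p ∈ d)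
    (hq : q ∉ d) (hq' : q' ∉ d) (hqq' : q ≠ q') :
    ∃ s : M24, s • d0F = d ∧ s • pt 0 = p ∧ s • pt 5 = q ∧ s • pt 7 = q' := by
  obtain ⟨h, rfl⟩ := exists_smul_d0F_eq hd
  have hp' : h⁻¹ • p ∈ d0F := by
    rw [← Finset.smul_mem_smul_finset_iff h, smul_inv_smul]
    exact hp
  obtain ⟨t, ht, ht0⟩ := m12_exists_map₁ hp'
  have ht' := (mem_M12_iff t).mp ht
  -- u = h t maps the standard dodecad to d and the point 0 to p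
  let u : M24 := h * ⟨t, ht'.1⟩
  have hud : u • d0F = h • d0F := by
    show (h * ⟨t, ht'.1⟩ : M24) • d0F = h • d0F
    rw [mul_smul]
    have : (⟨t, ht'.1⟩ : M24) • d0F = d0F := ht'.2
    rw [this]
  have hup : u • pt 0 = p := by
    show (h * ⟨t, ht'.1⟩ : M24) • pt 0 = p
    rw [mul_smul]
    have : (⟨t, ht'.1⟩ : M24) • pt 0 = h⁻¹ • p := ht0
    rw [this, smul_inv_smul]
  have hout : ∀ z, z ∉ h • d0F → u⁻¹ • z ∉ d0F := by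
    intro z hz hcon
    apply hz
    rw [← hud, ← Finset.smul_mem_smul_finset_iff u⁻¹, inv_smul_smul]
    exact hcon
  obtain ⟨k, hk, hk5, hk7⟩ := m11_exists_of_pair (hout q hq) (hout q' hq')
    (fun e => hqq' (smul_left_cancel _ e))
  have hk24 := (mem_M12_iff k).mp hk.1
  refine ⟨u * ⟨k, hk24.1⟩, ?_, ?_, ?_, ?_⟩
  · rw [mul_smul]
    have : (⟨k, hk24.1⟩ : M24) • d0F = d0F := hk24.2
    rw [this, hud]
  · rw [mul_smul]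
    have : (⟨k, hk24.1⟩ : M24) • pt 0 = pt 0 := hk.2 0 (by simp)
    rw [this, hup]
  · rw [mul_smul]
    have : (⟨k, hk24.1⟩ : M24) • pt 5 = u⁻¹ • q := hk5
    rw [this, smul_inv_smul]
  · rw [mul_smul]
    have : (⟨k, hk24.1⟩ : M24) • pt 7 = u⁻¹ • q' := hk7
    rw [this, smul_inv_smul]

/-- The stabiliser of a dodecad, a point on it and a pair of points off it is isomorphic to the
symmetric group of degree 5. -/
theorem dodecad_point_pair_stab {d : Finset GolayPt} (hd : d ∈ dodecads) {p q q' : GolayPt}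
    (hp : p ∈ d) (hq : q ∉ d) (hq' : q' ∉ d) (hqq' : q ≠ q') :
    Nonempty (↥(stabilizer M24 d ⊓ stabilizer M24 p ⊓
      stabilizer M24 ({q, q'} : Finset GolayPt)) ≃* Equiv.Perm (Fin 5)) := by
  obtain ⟨s, rfl, rfl, rfl, rfl⟩ := exists_std_dpp hd hp hq hq' hqq'
  obtain ⟨e⟩ := s5_std
  rw [← stabilizer_prod_eq, ← stabilizer_prod_eq]
  have hs : ((s • d0F, s • pt 0), ({s • pt 5, s • pt 7} : Finset GolayPt)) =
      s • ((d0F, pt 0), support₂ (word pm57)) := by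
    rw [support₂_word_pm57, Prod.smul_mk, Prod.smul_mk, Finset.smul_finset_insert,
      Finset.smul_finset_singleton]
  rw [hs]
  exact ⟨((stabilizerEquivStabilizer (G := M24) (g := s) rfl).symm.trans stabS5Equiv).trans e⟩

end Cfsg.Agent.Helper7
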