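import Cfsg.Agent.Helper7.Chain

/-!
# Multiple transitivity from a stabiliser chain whose orbits are as large as possible
-/

set_option autoImplicit false

namespace Cfsg.Agent.Helper7

open Cfsg

/-- At every level the orbit contains all points of the mask `S` not yet fixed. -/
def fullOK (S : ℕ) : List ℕ → List Level → Bool
  | _, [] => true
  | F, L :: Ls =>
    (List.range 24).all (fun q => !S.testBit q || F.contains q || L.orb.contains q) &&
      fullOK S (L.b :: F) Ls

/-- Tuple transitivity: any injective tuple of points of the invariant set `S` avoiding `F` is the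
image of the base under an element of the chain group. -/
theorem chain_trans {H : Subgroup (Equiv.Perm GolayPt)} (S : ℕ)
    (hS : ∀ g ∈ H, ∀ p, S.testBit (idx p) = true → S.testBit (idx (g p)) = true)
    {F : List ℕ} {Ls : List Level}
    (hT : ∀ L ∈ Ls, ∀ l ∈ L.T, Tabled H l) (hok : chainOK F Ls = true)
    (hfull : fullOK S F Ls = true) (hF24 : ∀ i ∈ F, i < 24)
    (xs : List GolayPt) (hlen : xs.length = Ls.length) (hnd : xs.Nodup)
    (hxS : ∀ x ∈ xs, S.testBit (idx x) = true) (hxF : ∀ x ∈ xs, idx x ∉ F) :
    ∃ g ∈ fixG H F, List.Forall₂ (fun L x => g (pt L.b) = x) Ls xs := by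
  induction Ls generalizing F xs with
  | nil =>
    have : xs = [] := List.length_eq_zero_iff.mp hlen
    subst this
    exact ⟨1, (fixG H F).one_mem, List.Forall₂.nil⟩
  | cons L Ls ih =>
    match xs, hlen with
    | x :: xs, hlen =>
      rw [chainOK, Bool.and_eq_true, Bool.and_eq_true, Bool.and_eq_true] at hok
      obtain ⟨⟨⟨h1, _⟩, h3⟩, h4⟩ := hok
      have hb : L.b < 24 := by simpa [Nat.blt_eq] using h3
      rw [fullOK, Bool.and_eq_true, List.all_eq_true] at hfull
      obtain ⟨hf1, hf2⟩ := hfull
      have hq := hf1 (idx x) (List.mem_range.mpr (idx_lt x))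
      rw [Bool.or_eq_true, Bool.or_eq_true] at hq
      have hxorb : idx x ∈ L.orb := by
        rcases hq with (hq | hq) | hq
        · rw [hxS x (List.mem_cons_self ..)] at hq
          simp at hq
        · exact absurd (by simpa using hq) (hxF x (List.mem_cons_self ..))
        · simpa using hq
      obtain ⟨l, _, t, ht, _, htq⟩ :=
        Level.cover (fun l hl => hT L (List.mem_cons_self ..) l hl) h1 hb _ hxorb
      rw [pt_idx] at htq
      have hnd' := List.nodup_cons.mp hnd
      obtain ⟨g', hg', hall⟩ := ih (F := L.b :: F) (xs := xs.map (fun y => t⁻¹ y))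
        (fun L' hL' => hT L' (List.mem_cons_of_mem _ hL')) h4 hf2
        (by
          intro i hi
          rw [List.mem_cons] at hi
          rcases hi with rfl | hi
          · exact hb
          · exact hF24 i hi)
        (by simpa using hlen)
        (hnd'.2.map (t⁻¹).injective)
        (by
          intro y hy
          rw [List.mem_map] at hy
          obtain ⟨z, hz, rfl⟩ := hy
          exact hS _ (H.inv_mem ht.1) z (hxS z (List.mem_cons_of_mem _ hz)))
        (by
          intro y hy
          rw [List.mem_map] at hy
          obtain ⟨z, hz, rfl⟩ := hy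
          intro hmem
          rw [List.mem_cons] at hmem
          rcases hmem with hmem | hmem
          · -- t⁻¹ z = pt b, so z = t (pt b) = x
            have h5 : t⁻¹ z = pt L.b := by rw [← hmem, pt_idx]
            have h6 : z = x := by
              rw [← htq, ← h5]
              simp
            exact hnd'.1 (h6 ▸ hz)
          · have h5 := ht.2 _ hmem
            rw [pt_idx] at h5
            have h6 : t (t⁻¹ z) = z := by simp
            rw [h6] at h5
            have h7 : idx z = idx (t⁻¹ z) := by rw [← h5]
            exact hxF z (List.mem_cons_of_mem _ hz) (h7 ▸ hmem))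
      refine ⟨t * g', ?_, ?_⟩
      · refine ⟨H.mul_mem ht.1 hg'.1, fun i hi => ?_⟩
        rw [Equiv.Perm.mul_apply, hg'.2 i (List.mem_cons_of_mem _ hi), ht.2 i hi]
      · apply List.Forall₂.cons
        · rw [Equiv.Perm.mul_apply, hg'.2 L.b (List.mem_cons_self ..), htq]
        · rw [List.forall₂_map_right_iff] at hall
          refine hall.imp ?_
          intro L' y hy
          rw [Equiv.Perm.mul_apply, hy]
          simp

end Cfsg.Agent.Helper7
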