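import Cfsg.Agent.Helper7.Dodecad
import Cfsg.Agent.Helper7.ChainTrans

/-!
# Transitivity properties of the dodecad stabiliser; the stabiliser of a dodecad and a point
-/

set_option autoImplicit false

namespace Cfsg.Agent.Helper7

open Cfsg
open scoped Pointwise

theorem chainOK_take (n : ℕ) {F : List ℕ} {Ls : List Level} (h : chainOK F Ls = true) :
    chainOK F (Ls.take n) = true := by
  induction n generalizing F Ls with
  | zero => simp [chainOK]
  | succ n ih =>
    cases Ls with
    | nil => simp [chainOK]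
    | cons L Ls =>
      rw [chainOK, Bool.and_eq_true] at h
      rw [List.take_succ_cons, chainOK, Bool.and_eq_true]
      exact ⟨h.1, ih h.2⟩

theorem fullOK_take (S : ℕ) (n : ℕ) {F : List ℕ} {Ls : List Level} (h : fullOK S F Ls = true) :
    fullOK S F (Ls.take n) = true := by
  induction n generalizing F Ls with
  | zero => simp [fullOK]
  | succ n ih =>
    cases Ls with
    | nil => simp [fullOK]
    | cons L Ls =>
      rw [fullOK, Bool.and_eq_true] at h
      rw [List.take_succ_cons, fullOK, Bool.and_eq_true]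
      exact ⟨h.1, ih h.2⟩

theorem m12_full : fullOK d0 [] m12Levels = true := by decide +kernel

theorem m12_b : m12Levels.map (fun L => L.b) = [0, 1, 2, 3, 4] := by decide +kernel

theorem mem_d0F_iff (p : GolayPt) : p ∈ d0F ↔ d0.testBit (idx p) = true :=
  mem_support₂_word d0 p

theorem M12_inv : ∀ g ∈ M12, ∀ p, d0.testBit (idx p) = true → d0.testBit (idx (g p)) = true := by
  intro g hg p hp
  rw [hg.2 p]
  exact hp

/-- Every injective tuple (of length at most 5) of points of the standard dodecad is the image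
of the initial segment of the base `0,1,2,3,4` under an element of `M12`. -/
theorem m12_exists_of_list (xs : List GolayPt) (hnd : xs.Nodup) (hx : ∀ x ∈ xs, x ∈ d0F)
    (hlen : xs.length ≤ 5) :
    ∃ g ∈ M12, List.Forall₂ (fun b x => g (pt b) = x) ([0, 1, 2, 3, 4].take xs.length) xs := by
  obtain ⟨g, hg, hall⟩ := chain_trans (H := M12) d0 M12_inv (F := [])
    (Ls := m12Levels.take xs.length)
    (fun L hL l hl => tabled_m12Levels L (List.mem_of_mem_take hL) l hl)
    (chainOK_take _ m12_chainOK) (fullOK_take _ _ m12_full) (by simp) xs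
    (by
      rw [List.length_take]
      have : m12Levels.length = 5 := by decide +kernel
      omega)
    hnd (fun x hx' => (mem_d0F_iff x).mp (hx x hx')) (by simp)
  refine ⟨g, hg.1, ?_⟩
  have h2 : List.Forall₂ (fun b y => g (pt b) = y) ((m12Levels.take xs.length).map (fun L => L.b))
      xs := by
    rw [List.forall₂_map_left_iff]
    exact hall
  rwa [List.map_take, m12_b] at h2

theorem m12_exists_map₁ {p : GolayPt} (hp : p ∈ d0F) : ∃ g ∈ M12, g (pt 0) = p := by
  obtain ⟨g, hg, h⟩ := m12_exists_of_list [p] (by simp) (by simpa using hp) (by simp)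
  simp only [List.length_cons, List.length_nil, List.take, List.forall₂_cons,
    List.forall₂_nil_right_iff] at h
  exact ⟨g, hg, h.1⟩

/-- Every injective 5-tuple of points of the standard dodecad is the image of `(0,1,2,3,4)`. -/
theorem m12_exists_of_tuple (x : Fin 5 ↪ GolayPt) (hx : ∀ i, x i ∈ d0F) :
    ∃ g ∈ M12, ∀ i : Fin 5, g (pt i.val) = x i := by
  obtain ⟨g, hg, h⟩ := m12_exists_of_list (List.ofFn x) (List.nodup_ofFn.mpr x.injective)
    (by
      intro y hy
      rw [List.mem_ofFn] at hy
      obtain ⟨i, rfl⟩ := hy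
      exact hx i) (by simp)
  refine ⟨g, hg, ?_⟩
  have h' : List.Forall₂ (fun b y => g (pt b) = y) [0, 1, 2, 3, 4] [x 0, x 1, x 2, x 3, x 4] := by
    simpa [List.ofFn_succ] using h
  simp only [List.forall₂_cons, List.forall₂_nil_right_iff] at h'
  obtain ⟨h0, h1, h2, h3, h4, -⟩ := h'
  intro i
  fin_cases i
  · exact h0
  · exact h1
  · exact h2
  · exact h3
  · exact h4

/-- The stabiliser of five points of the standard dodecad in `M12` is trivial. -/
theorem m12_fix5_trivial : ∀ g ∈ fixG M12 [4, 3, 2, 1, 0], g = 1 := by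
  have h1 : baseRev m12Levels 5 ++ [] = [4, 3, 2, 1, 0] := by decide +kernel
  have h2 : m12Levels.drop 5 = [] := by decide +kernel
  have := bounds_drop 5 m12_bounds
  rw [h1, h2] at this
  exact this

/-- Conjugation between intersections of two stabilisers. -/
def stabInfConj {G α β : Type*} [Group G] [MulAction G α] [MulAction G β] (g : G) (a : α) (b : β) :
    ↥(MulAction.stabilizer G (g • a) ⊓ MulAction.stabilizer G (g • b)) ≃*
      ↥(MulAction.stabilizer G a ⊓ MulAction.stabilizer G b) where
  toFun k := ⟨g⁻¹ * k.1 * g, by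
    have h1 : k.1 • g • a = g • a := k.2.1
    have h2 : k.1 • g • b = g • b := k.2.2
    constructor
    · show (g⁻¹ * k.1 * g) • a = a
      rw [mul_smul, mul_smul, h1, inv_smul_smul]
    · show (g⁻¹ * k.1 * g) • b = b
      rw [mul_smul, mul_smul, h2, inv_smul_smul]⟩
  invFun k := ⟨g * k.1 * g⁻¹, by
    have h1 : k.1 • a = a := k.2.1
    have h2 : k.1 • b = b := k.2.2
    constructor
    · show (g * k.1 * g⁻¹) • g • a = g • a
      rw [mul_smul, mul_smul, inv_smul_smul, h1]
    · show (g * k.1 * g⁻¹) • g • b = g • b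
      rw [mul_smul, mul_smul, inv_smul_smul, h2]⟩
  left_inv k := by
    apply Subtype.ext
    simp [mul_assoc]
  right_inv k := by
    apply Subtype.ext
    simp [mul_assoc]
  map_mul' k k' := by
    apply Subtype.ext
    simp [mul_assoc]

/-- The stabiliser of the support of `word S` and of a point, inside `H`. -/
def stabInfEquiv (H : Subgroup (Equiv.Perm GolayPt)) (S : ℕ) (p : GolayPt) :
    ↥(MulAction.stabilizer H (support₂ (word S)) ⊓ MulAction.stabilizer H p) ≃*
      fixG (setStab H S) [idx p] where
  toFun k := ⟨k.1.1, by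
    refine ⟨⟨k.1.2, fun q => ?_⟩, fun i hi => ?_⟩
    · have h1 : (k.1.1 : Equiv.Perm GolayPt) • support₂ (word S) = support₂ (word S) := k.2.1
      have h2 := (smul_finset_eq_iff _ _).mp h1 q
      rw [mem_support₂_word, mem_support₂_word] at h2
      exact Bool.eq_iff_iff.mpr h2
    · rw [List.mem_singleton] at hi
      subst hi
      rw [pt_idx]
      exact k.2.2⟩
  invFun k := ⟨⟨k.1, k.2.1.1⟩, by
    constructor
    · show (k.1 : Equiv.Perm GolayPt) • support₂ (word S) = support₂ (word S)
      rw [smul_finset_eq_iff]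
      intro q
      rw [mem_support₂_word, mem_support₂_word, k.2.1.2 q]
    · have := k.2.2 (idx p) (List.mem_singleton.mpr rfl)
      rw [pt_idx] at this
      exact this⟩
  left_inv k := rfl
  right_inv k := rfl
  map_mul' k k' := rfl

/-- The stabiliser of a dodecad and of one of its points is isomorphic to the standard one. -/
theorem m11StabEquiv {d : Finset GolayPt} (hd : d ∈ dodecads) {p : GolayPt} (hp : p ∈ d) :
    Nonempty (↥(MulAction.stabilizer M24 d ⊓ MulAction.stabilizer M24 p) ≃* fixG M12 [0]) := by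
  obtain ⟨g, rfl⟩ := exists_smul_d0F_eq hd
  have hp' : g⁻¹ • p ∈ d0F := by
    rw [← Finset.smul_mem_smul_finset_iff g, smul_inv_smul]
    exact hp
  obtain ⟨h, hh, h0⟩ := m12_exists_map₁ hp'
  have e1 := stabInfConj g d0F (g⁻¹ • p)
  rw [smul_inv_smul] at e1
  have e2 := stabInfEquiv M24 d0 (g⁻¹ • p)
  have e3 := fixGConj hh [0] [idx (g⁻¹ • p)] (by simp [h0])
  exact ⟨e1.trans (e2.trans e3.symm)⟩

/-- The stabiliser of a dodecad and of one of its points has order 7920. -/
theorem card_stabilizer_dodecad_point {d : Finset GolayPt} (hd : d ∈ dodecads) {p : GolayPt}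
    (hp : p ∈ d) :
    Nat.card ↥(MulAction.stabilizer M24 d ⊓ MulAction.stabilizer M24 p) = 7920 := by
  obtain ⟨e⟩ := m11StabEquiv hd hp
  rw [Nat.card_congr e.toEquiv, card_fixG_m12_1]

end Cfsg.Agent.Helper7
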