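import Cfsg.Agent.Helper7.Chain

/-!
# Point stabilisers as `fixG`, conjugation between them, tails of chains
-/

set_option autoImplicit false

namespace Cfsg.Agent.Helper7

open Cfsg

/-- Conjugation by `g ∈ H` identifies the stabilisers of `F` and of its image under `g`. -/
def fixGConj {H : Subgroup (Equiv.Perm GolayPt)} {g : Equiv.Perm GolayPt} (hg : g ∈ H)
    (F F' : List ℕ) (hF' : F' = F.map (fun i => idx (g (pt i)))) :
    fixG H F ≃* fixG H F' where
  toFun k := ⟨g * k.1 * g⁻¹, by
    refine ⟨H.mul_mem (H.mul_mem hg k.2.1) (H.inv_mem hg), fun j hj => ?_⟩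
    rw [hF', List.mem_map] at hj
    obtain ⟨i, hi, rfl⟩ := hj
    rw [pt_idx, Equiv.Perm.mul_apply, Equiv.Perm.mul_apply]
    have : g⁻¹ (g (pt i)) = pt i := by simp
    rw [this, k.2.2 i hi]⟩
  invFun k := ⟨g⁻¹ * k.1 * g, by
    refine ⟨H.mul_mem (H.mul_mem (H.inv_mem hg) k.2.1) hg, fun i hi => ?_⟩
    have hj : idx (g (pt i)) ∈ F' := by
      rw [hF', List.mem_map]
      exact ⟨i, hi, rfl⟩
    rw [Equiv.Perm.mul_apply, Equiv.Perm.mul_apply]
    have := k.2.2 _ hj
    rw [pt_idx] at this
    rw [this]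
    simp⟩
  left_inv k := by
    apply Subtype.ext
    simp [mul_assoc]
  right_inv k := by
    apply Subtype.ext
    simp [mul_assoc]
  map_mul' k k' := by
    apply Subtype.ext
    simp [mul_assoc]

/-- The stabiliser of a point in `H` (a subgroup of `↥H`) is `fixG H [idx p]`. -/
def stabEquiv (H : Subgroup (Equiv.Perm GolayPt)) (p : GolayPt) :
    MulAction.stabilizer H p ≃* fixG H [idx p] where
  toFun k := ⟨k.1.1, by
    refine ⟨k.1.2, fun i hi => ?_⟩
    rw [List.mem_singleton] at hi
    subst hi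
    rw [pt_idx]
    exact k.2⟩
  invFun k := ⟨⟨k.1, k.2.1⟩, by
    have := k.2.2 (idx p) (List.mem_singleton.mpr rfl)
    rw [pt_idx] at this
    exact this⟩
  left_inv k := rfl
  right_inv k := rfl
  map_mul' k k' := rfl

/-- The stabiliser of two points in `H` is `fixG H [idx q, idx p]`. -/
def stabEquiv₂ (H : Subgroup (Equiv.Perm GolayPt)) (p q : GolayPt) :
    ↥(MulAction.stabilizer H p ⊓ MulAction.stabilizer H q) ≃* fixG H [idx q, idx p] where
  toFun k := ⟨k.1.1, by
    refine ⟨k.1.2, fun i hi => ?_⟩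
    rw [List.mem_cons, List.mem_singleton] at hi
    rcases hi with rfl | rfl
    · rw [pt_idx]
      exact k.2.2
    · rw [pt_idx]
      exact k.2.1⟩
  invFun k := ⟨⟨k.1, k.2.1⟩, by
    have h1 := k.2.2 (idx p) (by simp)
    have h2 := k.2.2 (idx q) (by simp)
    rw [pt_idx] at h1 h2
    exact ⟨h1, h2⟩⟩
  left_inv k := rfl
  right_inv k := rfl
  map_mul' k k' := rfl

/-- The stabiliser of three points in `H` is `fixG H [idx r, idx q, idx p]`. -/
def stabEquiv₃ (H : Subgroup (Equiv.Perm GolayPt)) (p q r : GolayPt) :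
    ↥(MulAction.stabilizer H p ⊓ MulAction.stabilizer H q ⊓ MulAction.stabilizer H r) ≃*
      fixG H [idx r, idx q, idx p] where
  toFun k := ⟨k.1.1, by
    refine ⟨k.1.2, fun i hi => ?_⟩
    rw [List.mem_cons, List.mem_cons, List.mem_singleton] at hi
    rcases hi with rfl | rfl | rfl
    · rw [pt_idx]
      exact k.2.2
    · rw [pt_idx]
      exact k.2.1.2
    · rw [pt_idx]
      exact k.2.1.1⟩
  invFun k := ⟨⟨k.1, k.2.1⟩, by
    have h1 := k.2.2 (idx p) (by simp)
    have h2 := k.2.2 (idx q) (by simp)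
    have h3 := k.2.2 (idx r) (by simp)
    rw [pt_idx] at h1 h2 h3
    exact ⟨⟨h1, h2⟩, h3⟩⟩
  left_inv k := rfl
  right_inv k := rfl
  map_mul' k k' := rfl

/-- Base points of the first `n` levels, most recent first. -/
def baseRev (Ls : List Level) (n : ℕ) : List ℕ := ((Ls.take n).map (fun L => L.b)).reverse

theorem bounds_drop {H : Subgroup (Equiv.Perm GolayPt)} (n : ℕ) {F : List ℕ} {Ls : List Level}
    (h : Bounds H F Ls) : Bounds H (baseRev Ls n ++ F) (Ls.drop n) := by
  induction n generalizing F Ls with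
  | zero => simpa [baseRev] using h
  | succ n ih =>
    cases Ls with
    | nil => simpa [baseRev] using h
    | cons L Ls =>
      have := ih h.2
      simpa [baseRev] using this

theorem chainOK_drop (n : ℕ) {F : List ℕ} {Ls : List Level}
    (h : chainOK F Ls = true) : chainOK (baseRev Ls n ++ F) (Ls.drop n) = true := by
  induction n generalizing F Ls with
  | zero => simpa [baseRev] using h
  | succ n ih =>
    cases Ls with
    | nil => simp [chainOK]
    | cons L Ls =>
      rw [chainOK, Bool.and_eq_true] at h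
      have := ih h.2
      simpa [baseRev] using this

end Cfsg.Agent.Helper7
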