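import Cfsg.Agent.Helper7.M24Trans
import Cfsg.Agent.Helper7.Stab

/-!
# Orders of the point stabilisers of `M24`
-/

set_option autoImplicit false

namespace Cfsg.Agent.Helper7

open Cfsg

theorem pt_injOn {i j : ℕ} (hi : i < 24) (hj : j < 24) (h : pt i = pt j) : i = j := by
  rw [← idx_pt hi, ← idx_pt hj, h]

/-- For `n ≤ 5`, every injective `n`-tuple is the image of `(0, 1, …, n-1)` under `M24`. -/
theorem m24_exists_map (n : ℕ) (hn : n ≤ 5) (y : Fin n ↪ GolayPt) :
    ∃ g ∈ M24, ∀ i : Fin n, g (pt i.val) = y i := by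
  have := m24_five_transitive
  have : MulAction.IsMultiplyPretransitive M24 GolayPt n :=
    MulAction.isMultiplyPretransitive_of_le hn (by
      rw [Nat.card_eq_fintype_card]
      decide)
  let x : Fin n ↪ GolayPt := ⟨fun i => pt i.val, fun i j h =>
    Fin.ext (pt_injOn (by omega) (by omega) h)⟩
  obtain ⟨g, hg⟩ := MulAction.exists_smul_eq M24 x y
  refine ⟨g.1, g.2, fun i => ?_⟩
  have := congrArg (fun f : Fin n ↪ GolayPt => f i) hg
  exact this

theorem m24_exists_map₁ (p : GolayPt) : ∃ g ∈ M24, g (pt 0) = p := by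
  obtain ⟨g, hg, h⟩ := m24_exists_map 1 (by norm_num) ⟨fun _ => p, fun i j _ => Subsingleton.elim i j⟩
  exact ⟨g, hg, h 0⟩

theorem m24_exists_map₂ {p q : GolayPt} (hpq : p ≠ q) :
    ∃ g ∈ M24, g (pt 0) = p ∧ g (pt 1) = q := by
  obtain ⟨g, hg, h⟩ := m24_exists_map 2 (by norm_num) ⟨![p, q], by
    intro i j hij
    fin_cases i <;> fin_cases j <;> simp_all⟩
  exact ⟨g, hg, h 0, h 1⟩

theorem m24_exists_map₃ {p q r : GolayPt} (hpq : p ≠ q) (hpr : p ≠ r) (hqr : q ≠ r) :
    ∃ g ∈ M24, g (pt 0) = p ∧ g (pt 1) = q ∧ g (pt 2) = r := by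
  obtain ⟨g, hg, h⟩ := m24_exists_map 3 (by norm_num) ⟨![p, q, r], by
    intro i j hij
    fin_cases i <;> fin_cases j <;> simp_all [Ne.symm]⟩
  exact ⟨g, hg, h 0, h 1, h 2⟩

theorem card_fixG_m24 (n : ℕ) :
    Nat.card (fixG M24 (baseRev m24Levels n ++ [])) =
      ((m24Levels.drop n).map (fun L => L.orb.length)).prod :=
  chain_card (fun L hL l hl => tabled_m24Levels L (List.mem_of_mem_drop hL) l hl)
    (chainOK_drop n m24_chainOK) (bounds_drop n m24_bounds)

theorem card_fixG_m24_1 : Nat.card (fixG M24 [0]) = 10200960 := by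
  have := card_fixG_m24 1
  have h1 : baseRev m24Levels 1 ++ [] = [0] := by decide +kernel
  rw [h1] at this
  rw [this]
  decide +kernel

theorem card_fixG_m24_2 : Nat.card (fixG M24 [1, 0]) = 443520 := by
  have := card_fixG_m24 2
  have h1 : baseRev m24Levels 2 ++ [] = [1, 0] := by decide +kernel
  rw [h1] at this
  rw [this]
  decide +kernel

theorem card_fixG_m24_3 : Nat.card (fixG M24 [2, 1, 0]) = 20160 := by
  have := card_fixG_m24 3
  have h1 : baseRev m24Levels 3 ++ [] = [2, 1, 0] := by decide +kernel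
  rw [h1] at this
  rw [this]
  decide +kernel

/-- A point stabiliser of `M24` is isomorphic to the stabiliser of the point `0`. -/
theorem m24StabEquiv₁ (p : GolayPt) : Nonempty (MulAction.stabilizer M24 p ≃* fixG M24 [0]) := by
  obtain ⟨g, hg, h0⟩ := m24_exists_map₁ p
  exact ⟨(stabEquiv M24 p).trans (fixGConj hg [0] [idx p] (by simp [h0])).symm⟩

/-- A two-point stabiliser of `M24` is isomorphic to the stabiliser of the points `0, 1`. -/
theorem m24StabEquiv₂ {p q : GolayPt} (hpq : p ≠ q) :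
    Nonempty (↥(MulAction.stabilizer M24 p ⊓ MulAction.stabilizer M24 q) ≃* fixG M24 [1, 0]) := by
  obtain ⟨g, hg, h0, h1⟩ := m24_exists_map₂ hpq
  exact ⟨(stabEquiv₂ M24 p q).trans (fixGConj hg [1, 0] [idx q, idx p] (by simp [h0, h1])).symm⟩

/-- A three-point stabiliser of `M24` is isomorphic to the stabiliser of the points `0, 1, 2`. -/
theorem m24StabEquiv₃ {p q r : GolayPt} (hpq : p ≠ q) (hpr : p ≠ r) (hqr : q ≠ r) :
    Nonempty (↥(MulAction.stabilizer M24 p ⊓ MulAction.stabilizer M24 q ⊓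
      MulAction.stabilizer M24 r) ≃* fixG M24 [2, 1, 0]) := by
  obtain ⟨g, hg, h0, h1, h2⟩ := m24_exists_map₃ hpq hpr hqr
  exact ⟨(stabEquiv₃ M24 p q r).trans
    (fixGConj hg [2, 1, 0] [idx r, idx q, idx p] (by simp [h0, h1, h2])).symm⟩

theorem card_stabilizer_m24 (p : GolayPt) : Nat.card (MulAction.stabilizer M24 p) = 10200960 := by
  obtain ⟨e⟩ := m24StabEquiv₁ p
  rw [Nat.card_congr e.toEquiv, card_fixG_m24_1]

theorem card_stabilizer₂_m24 {p q : GolayPt} (hpq : p ≠ q) :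
    Nat.card ↥(MulAction.stabilizer M24 p ⊓ MulAction.stabilizer M24 q) = 443520 := by
  obtain ⟨e⟩ := m24StabEquiv₂ hpq
  rw [Nat.card_congr e.toEquiv, card_fixG_m24_2]

theorem card_stabilizer₃_m24 {p q r : GolayPt} (hpq : p ≠ q) (hpr : p ≠ r) (hqr : q ≠ r) :
    Nat.card ↥(MulAction.stabilizer M24 p ⊓ MulAction.stabilizer M24 q ⊓
      MulAction.stabilizer M24 r) = 20160 := by
  obtain ⟨e⟩ := m24StabEquiv₃ hpq hpr hqr
  rw [Nat.card_congr e.toEquiv, card_fixG_m24_3]

end Cfsg.Agent.Helper7
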