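import Cfsg.Agent.Helper7.Table

/-!
# Stabiliser chains with explicit transversal tables (generic part)
-/

set_option autoImplicit false

namespace Cfsg.Agent.Helper7

open Cfsg

/-- `l` is the table of some element of `H`. -/
def Tabled (H : Subgroup (Equiv.Perm GolayPt)) (l : List ℕ) : Prop := ∃ g ∈ H, IsTable l g

theorem tabled_idT (H : Subgroup (Equiv.Perm GolayPt)) : Tabled H idT := ⟨1, H.one_mem, isTable_one⟩

theorem Tabled.mul {H : Subgroup (Equiv.Perm GolayPt)} {l l' : List ℕ} (h : Tabled H l)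
    (h' : Tabled H l') : Tabled H (compT l l') := by
  obtain ⟨g, hg, hl⟩ := h
  obtain ⟨g', hg', hl'⟩ := h'
  exact ⟨g * g', H.mul_mem hg hg', hl.mul hl'⟩

theorem Tabled.mono {H K : Subgroup (Equiv.Perm GolayPt)} (hHK : H ≤ K) {l : List ℕ}
    (h : Tabled H l) : Tabled K l := by
  obtain ⟨g, hg, hl⟩ := h
  exact ⟨g, hHK hg, hl⟩

/-- The table, as a list, is `idx ∘ g ∘ pt` on `0..23`. -/
theorem IsTable.eq_map {l : List ℕ} {g : Equiv.Perm GolayPt} (h : IsTable l g) :
    l = (List.range 24).map (fun i => idx (g (pt i))) := by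
  apply List.ext_getElem
  · simp [h.1]
  · intro i h1 h2
    have hi : i < 24 := by rw [h.1] at h1; exact h1
    rw [List.getElem_map, List.getElem_range]
    have := h.2 (pt i)
    rw [idx_pt hi, List.getD_eq_getElem _ _ h1] at this
    exact this.symm

theorem IsTable.nodup {l : List ℕ} {g : Equiv.Perm GolayPt} (h : IsTable l g) : l.Nodup := by
  rw [h.eq_map]
  apply List.Nodup.map_on _ List.nodup_range
  intro i hi j hj hij
  rw [List.mem_range] at hi hj
  have := g.injective (idx_injective hij)
  rw [← idx_pt hi, ← idx_pt hj, this]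

/-- Table of the inverse. -/
def invT (l : List ℕ) : List ℕ := (List.range 24).map (fun j => l.idxOf j)

theorem IsTable.inv {l : List ℕ} {g : Equiv.Perm GolayPt} (h : IsTable l g) :
    IsTable (invT l) g⁻¹ := by
  refine ⟨by simp [invT], fun p => ?_⟩
  have hp : idx p < (List.range 24).length := by simpa using idx_lt p
  have hp' : idx p < ((List.range 24).map (fun j => l.idxOf j)).length := by simpa using idx_lt p
  rw [invT, List.getD_eq_getElem _ _ hp', List.getElem_map, List.getElem_range]
  -- l[idx (g⁻¹ p)] = idx p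
  have hq : idx (g⁻¹ p) < l.length := by rw [h.1]; exact idx_lt _
  have h1 : l[idx (g⁻¹ p)] = idx p := by
    have := h.2 (g⁻¹ p)
    rw [List.getD_eq_getElem _ _ hq] at this
    rw [← this]
    simp
  rw [← h1, h.nodup.idxOf_getElem]

theorem Tabled.inv {H : Subgroup (Equiv.Perm GolayPt)} {l : List ℕ} (h : Tabled H l) :
    Tabled H (invT l) := by
  obtain ⟨g, hg, hl⟩ := h
  exact ⟨g⁻¹, H.inv_mem hg, hl.inv⟩

/-- Straight-line program instructions. -/
inductive Op where
  | mul (i j : ℕ) : Op
  | inv (i : ℕ) : Op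

/-- Run a straight-line program, appending the new tables to the accumulator. -/
def runSLP : List Op → List (List ℕ) → List (List ℕ)
  | [], acc => acc
  | Op.mul i j :: ps, acc =>
    match acc[i]?, acc[j]? with
    | some x, some y => runSLP ps (acc ++ [compT x y])
    | _, _ => runSLP ps acc
  | Op.inv i :: ps, acc =>
    match acc[i]? with
    | some x => runSLP ps (acc ++ [invT x])
    | none => runSLP ps acc

theorem tabled_runSLP (H : Subgroup (Equiv.Perm GolayPt)) (prog : List Op) (acc : List (List ℕ))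
    (h : ∀ l ∈ acc, Tabled H l) : ∀ l ∈ runSLP prog acc, Tabled H l := by
  induction prog generalizing acc with
  | nil => exact h
  | cons op ps ih =>
    cases op with
    | mul i j =>
      rw [runSLP]
      split
      · rename_i x y hx hy
        apply ih
        intro l hl
        rw [List.mem_append, List.mem_singleton] at hl
        rcases hl with hl | rfl
        · exact h l hl
        · exact (h x (List.mem_of_getElem? hx)).mul (h y (List.mem_of_getElem? hy))
      · exact ih acc h
    | inv i =>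
      rw [runSLP]
      split
      · rename_i x hx
        apply ih
        intro l hl
        rw [List.mem_append, List.mem_singleton] at hl
        rcases hl with hl | rfl
        · exact h l hl
        · exact (h x (List.mem_of_getElem? hx)).inv
      · exact ih acc h

/-- The subgroup of `H` fixing the points with indices in `F`. -/
def fixG (H : Subgroup (Equiv.Perm GolayPt)) (F : List ℕ) : Subgroup (Equiv.Perm GolayPt) where
  carrier := {g | g ∈ H ∧ ∀ i ∈ F, g (pt i) = pt i}
  mul_mem' := by
    rintro g g' ⟨hg, hF⟩ ⟨hg', hF'⟩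
    refine ⟨H.mul_mem hg hg', fun i hi => ?_⟩
    rw [Equiv.Perm.mul_apply, hF' i hi, hF i hi]
  one_mem' := ⟨H.one_mem, fun _ _ => rfl⟩
  inv_mem' := by
    rintro g ⟨hg, hF⟩
    refine ⟨H.inv_mem hg, fun i hi => ?_⟩
    rw [Equiv.Perm.inv_eq_iff_eq, hF i hi]

theorem mem_fixG {H : Subgroup (Equiv.Perm GolayPt)} {F : List ℕ} {g : Equiv.Perm GolayPt} :
    g ∈ fixG H F ↔ g ∈ H ∧ ∀ i ∈ F, g (pt i) = pt i := Iff.rfl

theorem fixG_nil (H : Subgroup (Equiv.Perm GolayPt)) : fixG H [] = H := by
  ext g
  simp [mem_fixG]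

theorem fixG_le (H : Subgroup (Equiv.Perm GolayPt)) (F : List ℕ) : fixG H F ≤ H :=
  fun _ hg => hg.1

/-- One level of a stabiliser chain: base point, its orbit, tables of transversal elements. -/
structure Level where
  b : ℕ
  orb : List ℕ
  T : List (List ℕ)

/-- Table-level check of a level: the transversal tables fix `F` and cover the orbit. -/
def Level.ok (F : List ℕ) (L : Level) : Bool :=
  L.T.all (fun l => F.all (fun i => Nat.beq (l.getD i 0) i)) &&
  L.orb.all (fun q => L.T.any (fun l => Nat.beq (l.getD L.b 0) q))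

theorem Level.cover {H : Subgroup (Equiv.Perm GolayPt)} {F : List ℕ} {L : Level}
    (hT : ∀ l ∈ L.T, Tabled H l) (hok : L.ok F = true) (hb : L.b < 24) :
    ∀ q ∈ L.orb, ∃ l ∈ L.T, ∃ t ∈ fixG H F, IsTable l t ∧ t (pt L.b) = pt q := by
  intro q hq
  rw [Level.ok, Bool.and_eq_true, List.all_eq_true, List.all_eq_true] at hok
  have h2 := hok.2 q hq
  rw [List.any_eq_true] at h2
  obtain ⟨l, hl, hlq⟩ := h2
  have hlq' := Nat.eq_of_beq_eq_true hlq
  obtain ⟨t, ht, hlt⟩ := hT l hl
  refine ⟨l, hl, t, ⟨ht, fun i hi => ?_⟩, hlt, ?_⟩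
  · have h1 := hok.1 l hl
    rw [List.all_eq_true] at h1
    have h3 := Nat.eq_of_beq_eq_true (h1 i hi)
    have hi24 : i < 24 := by
      by_contra hcon
      have : l.getD i 0 = 0 := by
        rw [List.getD_eq_default]
        rw [hlt.1]; omega
      omega
    rw [hlt.apply, idx_pt hi24, h3]
  · rw [hlt.apply, idx_pt hb, hlq']


theorem card_subtype_mem_list (l : List ℕ) (h : l.Nodup) : Nat.card {q // q ∈ l} = l.length := by
  have e : {q // q ∈ l} ≃ {q // q ∈ l.toFinset} :=
    Equiv.subtypeEquivRight (fun q => by simp)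
  rw [Nat.card_congr e, Nat.card_eq_fintype_card, Fintype.card_coe, List.toFinset_card_of_nodup h]

/-- Orbit–stabiliser for one level. -/
theorem level_card {H : Subgroup (Equiv.Perm GolayPt)} {F : List ℕ} {L : Level}
    (hT : ∀ l ∈ L.T, Tabled H l) (hok : L.ok F = true) (hb : L.b < 24) (hnd : L.orb.Nodup)
    (hbound : ∀ g ∈ fixG H F, idx (g (pt L.b)) ∈ L.orb) :
    Nat.card (fixG H F) = L.orb.length * Nat.card (fixG H (L.b :: F)) := by
  classical
  have hcov : ∀ q, ∃ t : Equiv.Perm GolayPt, q ∈ L.orb → t ∈ fixG H F ∧ t (pt L.b) = pt q := by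
    intro q
    by_cases hq : q ∈ L.orb
    · obtain ⟨l, _, t, ht, _, htq⟩ := Level.cover hT hok hb q hq
      exact ⟨t, fun _ => ⟨ht, htq⟩⟩
    · exact ⟨1, fun h => absurd h hq⟩
  choose t ht using hcov
  have horb24 : ∀ q ∈ L.orb, q < 24 := by
    intro q hq
    have h1 := (ht q hq).2
    have h2 : idx (t q (pt L.b)) < 24 := idx_lt _
    rw [h1] at h2
    by_contra hcon
    have : pt q = none := by
      unfold pt
      rw [dif_neg (by omega)]
    rw [this] at h2 h1
    -- idx none = 23, fine; need q = 23?  derive from injectivity instead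
    have h3 : idx (pt q) = 23 := by rw [this]; rfl
    -- cover gives a table with entry q
    obtain ⟨l, _, t', _, hlt, htq⟩ := Level.cover hT hok hb q hq
    have h4 := hlt.2 (pt L.b)
    rw [idx_pt hb] at h4
    rw [Level.ok, Bool.and_eq_true, List.all_eq_true, List.all_eq_true] at hok
    have h5 := hok.2 q hq
    rw [List.any_eq_true] at h5
    obtain ⟨l', hl', hlq⟩ := h5
    have hlq' := Nat.eq_of_beq_eq_true hlq
    obtain ⟨t'', _, hlt''⟩ := hT l' hl'
    have h6 := hlt''.2 (pt L.b)
    rw [idx_pt hb, hlq'] at h6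
    have : idx (t'' (pt L.b)) < 24 := idx_lt _
    omega
  let e : fixG H F ≃ {q // q ∈ L.orb} × fixG H (L.b :: F) :=
    { toFun := fun g => (⟨idx (g.1 (pt L.b)), hbound g.1 g.2⟩,
        ⟨(t (idx (g.1 (pt L.b))))⁻¹ * g.1, by
          have hq := hbound g.1 g.2
          have htq := ht _ hq
          refine ⟨H.mul_mem (H.inv_mem htq.1.1) g.2.1, fun i hi => ?_⟩
          rw [List.mem_cons] at hi
          rw [Equiv.Perm.mul_apply, Equiv.Perm.inv_eq_iff_eq]
          rcases hi with rfl | hi
          · rw [htq.2, pt_idx]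
          · rw [g.2.2 i hi, htq.1.2 i hi]⟩)
      invFun := fun x => ⟨t x.1.1 * x.2.1, by
          have htq := ht _ x.1.2
          refine ⟨H.mul_mem htq.1.1 x.2.2.1, fun i hi => ?_⟩
          rw [Equiv.Perm.mul_apply, x.2.2.2 i (List.mem_cons_of_mem _ hi), htq.1.2 i hi]⟩
      left_inv := by
        intro g
        apply Subtype.ext
        simp
      right_inv := by
        rintro ⟨⟨q, hq⟩, ⟨k, hk⟩⟩
        have htq := ht _ hq
        have h1 : idx ((t q * k) (pt L.b)) = q := by
          rw [Equiv.Perm.mul_apply, hk.2 L.b (List.mem_cons_self ..), htq.2, idx_pt (horb24 q hq)]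
        apply Prod.ext
        · apply Subtype.ext
          exact h1
        · apply Subtype.ext
          show (t (idx ((t q * k) (pt L.b))))⁻¹ * (t q * k) = k
          rw [h1]
          simp }
  rw [Nat.card_congr e, Nat.card_prod, card_subtype_mem_list _ hnd]

/-- The upper-bound hypotheses of a chain. -/
def Bounds (H : Subgroup (Equiv.Perm GolayPt)) : List ℕ → List Level → Prop
  | F, [] => ∀ g ∈ fixG H F, g = 1
  | F, L :: Ls => (∀ g ∈ fixG H F, idx (g (pt L.b)) ∈ L.orb) ∧ Bounds H (L.b :: F) Ls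

/-- The table-level checks of a chain. -/
def chainOK : List ℕ → List Level → Bool
  | _, [] => true
  | F, L :: Ls => L.ok F && decide (L.orb.Nodup) && Nat.blt L.b 24 && chainOK (L.b :: F) Ls

theorem chain_card {H : Subgroup (Equiv.Perm GolayPt)} {F : List ℕ} {Ls : List Level}
    (hT : ∀ L ∈ Ls, ∀ l ∈ L.T, Tabled H l) (hok : chainOK F Ls = true) (hB : Bounds H F Ls) :
    Nat.card (fixG H F) = (Ls.map (fun L => L.orb.length)).prod := by
  induction Ls generalizing F with
  | nil =>
    have : fixG H F = ⊥ := by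
      rw [eq_bot_iff]
      intro g hg
      rw [Subgroup.mem_bot]
      exact hB g hg
    rw [this]
    simp
  | cons L Ls ih =>
    rw [chainOK, Bool.and_eq_true, Bool.and_eq_true, Bool.and_eq_true] at hok
    obtain ⟨⟨⟨h1, h2⟩, h3⟩, h4⟩ := hok
    have hb : L.b < 24 := by simpa [Nat.blt_eq] using h3
    have hnd : L.orb.Nodup := of_decide_eq_true h2
    rw [level_card (fun l hl => hT L (List.mem_cons_self ..) l hl) h1 hb hnd hB.1,
      ih (fun L' hL' => hT L' (List.mem_cons_of_mem _ hL')) h4 hB.2]
    simp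

/-- All products of transversal tables. -/
def prodTables : List Level → List (List ℕ)
  | [] => [idT]
  | L :: Ls => L.T.flatMap (fun l => (prodTables Ls).map (compT l))

/-- Sifting: every element of the chain group is a product of transversal elements. -/
theorem chain_sift {H : Subgroup (Equiv.Perm GolayPt)} {F : List ℕ} {Ls : List Level}
    (hT : ∀ L ∈ Ls, ∀ l ∈ L.T, Tabled H l) (hok : chainOK F Ls = true) (hB : Bounds H F Ls) :
    ∀ g ∈ fixG H F, ∃ l ∈ prodTables Ls, IsTable l g := by
  induction Ls generalizing F with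
  | nil =>
    intro g hg
    rw [hB g hg]
    exact ⟨idT, List.mem_singleton.mpr rfl, isTable_one⟩
  | cons L Ls ih =>
    intro g hg
    rw [chainOK, Bool.and_eq_true, Bool.and_eq_true, Bool.and_eq_true] at hok
    obtain ⟨⟨⟨h1, _⟩, h3⟩, h4⟩ := hok
    have hb : L.b < 24 := by simpa [Nat.blt_eq] using h3
    obtain ⟨l, hl, t, ht, hlt, htq⟩ := Level.cover (fun l hl => hT L (List.mem_cons_self ..) l hl)
      h1 hb _ (hB.1 g hg)
    have hg' : t⁻¹ * g ∈ fixG H (L.b :: F) := by
      refine ⟨H.mul_mem (H.inv_mem ht.1) hg.1, fun i hi => ?_⟩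
      rw [List.mem_cons] at hi
      rw [Equiv.Perm.mul_apply, Equiv.Perm.inv_eq_iff_eq]
      rcases hi with rfl | hi
      · rw [htq, pt_idx]
      · rw [hg.2 i hi, ht.2 i hi]
    obtain ⟨l', hl', hlt'⟩ := ih (fun L' hL' => hT L' (List.mem_cons_of_mem _ hL')) h4 hB.2 _ hg'
    refine ⟨compT l l', ?_, ?_⟩
    · rw [prodTables, List.mem_flatMap]
      exact ⟨l, hl, List.mem_map.mpr ⟨l', hl', rfl⟩⟩
    · have := hlt.mul hlt'
      simpa using this

/-- Every element of the chain group lies in any subgroup containing all transversal elements. -/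
theorem chain_le {H K : Subgroup (Equiv.Perm GolayPt)} {F : List ℕ} {Ls : List Level}
    (hT : ∀ L ∈ Ls, ∀ l ∈ L.T, Tabled H l) (hok : chainOK F Ls = true) (hB : Bounds H F Ls)
    (hK : ∀ L ∈ Ls, ∀ l ∈ L.T, Tabled K l) : fixG H F ≤ K := by
  induction Ls generalizing F with
  | nil =>
    intro g hg
    rw [hB g hg]
    exact K.one_mem
  | cons L Ls ih =>
    intro g hg
    rw [chainOK, Bool.and_eq_true, Bool.and_eq_true, Bool.and_eq_true] at hok
    obtain ⟨⟨⟨h1, _⟩, h3⟩, h4⟩ := hok
    have hb : L.b < 24 := by simpa [Nat.blt_eq] using h3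
    obtain ⟨l, hl, t, ht, hlt, htq⟩ := Level.cover (fun l hl => hT L (List.mem_cons_self ..) l hl)
      h1 hb _ (hB.1 g hg)
    have hg' : t⁻¹ * g ∈ fixG H (L.b :: F) := by
      refine ⟨H.mul_mem (H.inv_mem ht.1) hg.1, fun i hi => ?_⟩
      rw [List.mem_cons] at hi
      rw [Equiv.Perm.mul_apply, Equiv.Perm.inv_eq_iff_eq]
      rcases hi with rfl | hi
      · rw [htq, pt_idx]
      · rw [hg.2 i hi, ht.2 i hi]
    have h5 := ih (fun L' hL' => hT L' (List.mem_cons_of_mem _ hL')) h4 hB.2
      (fun L' hL' => hK L' (List.mem_cons_of_mem _ hL')) hg'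
    obtain ⟨t', ht', hlt'⟩ := hK L (List.mem_cons_self ..) l hl
    have : t = t' := hlt.inj hlt'
    subst this
    have : g = t * (t⁻¹ * g) := by simp
    rw [this]
    exact K.mul_mem ht' h5

end Cfsg.Agent.Helper7
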