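import Cfsg.Agent.Helper7.Code

/-!
# Permutations of the 24 points given by tables
-/

set_option autoImplicit false

namespace Cfsg.Agent.Helper7

open Cfsg

/-- `l` is the table of the permutation `g`: `idx (g p) = l[idx p]`. -/
def IsTable (l : List ℕ) (g : Equiv.Perm GolayPt) : Prop :=
  l.length = 24 ∧ ∀ p, idx (g p) = l.getD (idx p) 0

/-- Table of a product: `(g * g') p = g (g' p)`. -/
def compT (l l' : List ℕ) : List ℕ := l'.map (fun j => l.getD j 0)

theorem IsTable.apply {l : List ℕ} {g : Equiv.Perm GolayPt} (h : IsTable l g) (p : GolayPt) :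
    g p = pt (l.getD (idx p) 0) := by
  rw [← h.2 p, pt_idx]

theorem IsTable.mul {l l' : List ℕ} {g g' : Equiv.Perm GolayPt} (h : IsTable l g)
    (h' : IsTable l' g') : IsTable (compT l l') (g * g') := by
  refine ⟨by simp [compT, h'.1], fun p => ?_⟩
  rw [Equiv.Perm.mul_apply, h.2, h'.2, compT]
  have hp : idx p < l'.length := by rw [h'.1]; exact idx_lt p
  have hp' : idx p < (l'.map (fun j => l.getD j 0)).length := by simpa using hp
  rw [List.getD_eq_getElem (l'.map (fun j => l.getD j 0)) 0 hp', List.getElem_map,
    List.getD_eq_getElem l' 0 hp]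

theorem IsTable.inj {l : List ℕ} {g g' : Equiv.Perm GolayPt} (h : IsTable l g)
    (h' : IsTable l g') : g = g' := by
  ext p
  rw [h.apply, h'.apply]

theorem IsTable.getD_lt {l : List ℕ} {g : Equiv.Perm GolayPt} (h : IsTable l g) {i : ℕ}
    (hi : i < 24) : l.getD i 0 < 24 := by
  have := h.2 (pt i)
  rw [idx_pt hi] at this
  rw [← this]
  exact idx_lt _

/-- Table of the identity. -/
def idT : List ℕ := List.range 24

theorem isTable_one : IsTable idT 1 := by
  refine ⟨by simp [idT], fun p => ?_⟩
  have hp : idx p < (List.range 24).length := by simpa using idx_lt p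
  rw [idT, List.getD_eq_getElem _ _ hp, List.getElem_range]
  rfl

/-- Pull back a mask along a table: bit `i` of the result is bit `l[i]` of `N`. -/
def pullMask : List ℕ → ℕ → ℕ
  | [], _ => 0
  | j :: js, N => Nat.bit (N.testBit j) (pullMask js N)

theorem testBit_pullMask (l : List ℕ) (N i : ℕ) (hi : i < l.length) :
    (pullMask l N).testBit i = N.testBit (l.getD i 0) := by
  induction l generalizing i with
  | nil => simp at hi
  | cons j js ih =>
    cases i with
    | zero => simp [pullMask]
    | succ i =>
      have hi' : i < js.length := by simpa using hi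
      simp [pullMask, Nat.testBit_bit_succ, ih i hi']

theorem pullMask_lt (l : List ℕ) (N : ℕ) : pullMask l N < 2 ^ l.length := by
  induction l with
  | nil => simp [pullMask]
  | cons j js ih =>
    rw [pullMask, List.length_cons, pow_succ]
    cases N.testBit j <;> simp [Nat.bit] <;> omega

theorem word_comp_of_isTable {l : List ℕ} {g : Equiv.Perm GolayPt} (h : IsTable l g) (N : ℕ) :
    (fun p => word N (g p)) = word (pullMask l N) := by
  funext p
  rw [word_apply, word_apply, h.2 p, testBit_pullMask l N (idx p) (by rw [h.1]; exact idx_lt p)]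

theorem permL_inv_apply (g : Equiv.Perm GolayPt) (w : V) : permL g⁻¹ w = fun p => w (g p) := by
  funext p
  rw [permL_apply]
  rfl

/-- A permutation given by a table lies in `M24` as soon as the pulled back masks of the 24
generating words are code words. -/
theorem mem_M24_of_isTable {l : List ℕ} {g : Equiv.Perm GolayPt} (h : IsTable l g)
    (hc : ∀ x ∈ gmasks, enc (pullMask l x % 4096) = pullMask l x) : g ∈ M24 := by
  have hinv : g⁻¹ ∈ M24 := by
    apply mem_M24_of_gens
    intro t
    rw [permL_inv_apply, qrWord_eq, word_comp_of_isTable h]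
    have hlt : pullMask l (qmasks.getD (ZMod.val t) 0) < 2 ^ 24 := by
      have := pullMask_lt l (qmasks.getD (ZMod.val t) 0)
      rwa [h.1] at this
    rw [word_mem_golayCode_iff hlt]
    apply hc
    rw [gmasks, List.mem_append]
    left
    have ht : ZMod.val t < 23 := ZMod.val_lt t
    rw [List.getD_eq_getElem _ _ (by exact ht)]
    exact List.getElem_mem _
  simpa using M24.inv_mem hinv

/-- Tables of the three generators. -/
def tA : List ℕ := [1, 2, 3, 4, 5, 6, 7, 8, 9, 10, 11, 12, 13, 14, 15, 16, 17, 18, 19, 20, 21, 22, 0, 23]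
def tB : List ℕ := [23, 22, 11, 15, 17, 9, 19, 13, 20, 5, 16, 2, 21, 7, 18, 3, 10, 4, 14, 6, 8, 12, 1, 0]
def tC : List ℕ := [0, 18, 6, 3, 2, 21, 1, 5, 16, 12, 7, 19, 8, 9, 17, 15, 13, 11, 4, 22, 10, 20, 14, 23]

/-- The generator `x ↦ x + 1`. -/
def gA : Equiv.Perm GolayPt := Equiv.optionCongr (Equiv.addRight (1 : ZMod 23))

set_option maxRecDepth 100000 in
theorem isTable_gA : IsTable tA gA := by
  refine ⟨rfl, ?_⟩
  decide +kernel

set_option maxRecDepth 100000 in
theorem isTable_projInv : IsTable tB projInv := by
  refine ⟨rfl, ?_⟩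
  decide +kernel

set_option maxRecDepth 100000 in
theorem isTable_cubeTwist : IsTable tC cubeTwist := by
  refine ⟨rfl, ?_⟩
  decide +kernel

theorem projInv_mem_M24 : projInv ∈ M24 :=
  mem_M24_of_isTable isTable_projInv (by decide +kernel)

theorem cubeTwist_mem_M24 : cubeTwist ∈ M24 :=
  mem_M24_of_isTable isTable_cubeTwist (by decide +kernel)

theorem gA_mem_M24 : gA ∈ M24 :=
  mem_M24_of_isTable isTable_gA (by decide +kernel)

end Cfsg.Agent.Helper7
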