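import Cfsg.Prelude.Def_Sporadic_a

set_option autoImplicit false

namespace Cfsg.Agent.Helper7

open Cfsg
open scoped Pointwise

/-- The ambient space of binary words of length 24. -/
abbrev V : Type := GolayPt → ZMod 2

/-- Permuting the coordinates of a word: `(permWord g w) (g p) = w p`. -/
def permL (g : Equiv.Perm GolayPt) : V ≃ₗ[ZMod 2] V :=
  LinearEquiv.funCongrLeft (ZMod 2) (ZMod 2) g.symm

theorem permL_apply (g : Equiv.Perm GolayPt) (w : V) (p : GolayPt) :
    permL g w p = w (g.symm p) := rfl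

theorem permL_apply_apply (g : Equiv.Perm GolayPt) (w : V) (p : GolayPt) :
    permL g w (g p) = w p := by
  simp [permL_apply]

theorem support₂_injective : Function.Injective (support₂ : V → Finset GolayPt) := by
  intro w w' h
  funext p
  have h1 : p ∈ support₂ w ↔ p ∈ support₂ w' := by rw [h]
  simp only [support₂, Finset.mem_filter, Finset.mem_univ, true_and] at h1
  have : ∀ a b : ZMod 2, (a ≠ 0 ↔ b ≠ 0) → a = b := by decide
  exact this _ _ h1

theorem mem_support₂ (w : V) (p : GolayPt) : p ∈ support₂ w ↔ w p ≠ 0 := by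
  simp [support₂]

theorem mem_support₂' (w : V) (p : GolayPt) : p ∈ support₂ w ↔ w p = 1 := by
  rw [mem_support₂]
  have : ∀ a : ZMod 2, a ≠ 0 ↔ a = 1 := by decide
  exact this _

theorem smul_support₂ (g : Equiv.Perm GolayPt) (w : V) :
    g • support₂ w = support₂ (permL g w) := by
  ext p
  rw [Finset.mem_smul_finset]
  constructor
  · rintro ⟨q, hq, rfl⟩
    rw [mem_support₂] at hq ⊢
    rw [Equiv.Perm.smul_def, permL_apply_apply]
    exact hq
  · intro hp
    refine ⟨g.symm p, ?_, by simp⟩
    rw [mem_support₂] at hp ⊢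
    exact hp

theorem smul_supports (g : Equiv.Perm GolayPt) (C : Set V) :
    g • supports C = supports (permL g '' C) := by
  ext s
  simp only [supports, Set.mem_smul_set, Set.mem_image]
  constructor
  · rintro ⟨_, ⟨w, hw, rfl⟩, rfl⟩
    exact ⟨permL g w, ⟨w, hw, rfl⟩, (smul_support₂ g w).symm⟩
  · rintro ⟨_, ⟨w, hw, rfl⟩, rfl⟩
    exact ⟨support₂ w, ⟨w, hw, rfl⟩, smul_support₂ g w⟩

theorem mem_M24_iff_image (g : Equiv.Perm GolayPt) :
    g ∈ M24 ↔ permL g '' (golayCode : Set V) = (golayCode : Set V) := by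
  rw [M24, setSystemAut, MulAction.mem_stabilizer_iff, smul_supports]
  unfold supports
  exact (Set.image_injective.mpr support₂_injective).eq_iff

theorem mem_M24_iff_map (g : Equiv.Perm GolayPt) :
    g ∈ M24 ↔ golayCode.map (permL g : V →ₗ[ZMod 2] V) = golayCode := by
  rw [mem_M24_iff_image]
  constructor
  · intro h
    apply SetLike.coe_injective
    rw [Submodule.map_coe]
    exact h
  · intro h
    have := congrArg (fun C : Submodule (ZMod 2) V => (C : Set V)) h
    simp only [Submodule.map_coe] at this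
    exact this

theorem map_eq_of_map_le (C : Submodule (ZMod 2) V) (e : V ≃ₗ[ZMod 2] V)
    (h : C.map (e : V →ₗ[ZMod 2] V) ≤ C) : C.map (e : V →ₗ[ZMod 2] V) = C := by
  apply Submodule.eq_of_le_of_finrank_eq h
  exact LinearEquiv.finrank_map_eq e C

theorem mem_M24_iff_le (g : Equiv.Perm GolayPt) :
    g ∈ M24 ↔ golayCode.map (permL g : V →ₗ[ZMod 2] V) ≤ golayCode := by
  rw [mem_M24_iff_map]
  exact ⟨fun h => h.le, map_eq_of_map_le _ _⟩

/-- Sufficient (and necessary) criterion: a permutation lies in `M24` as soon as it maps the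
generating words of the code into the code. -/
theorem mem_M24_of_gens (g : Equiv.Perm GolayPt)
    (h : ∀ t : ZMod 23, permL g (qrWord t) ∈ golayCode) : g ∈ M24 := by
  rw [mem_M24_iff_le, golayCode, Submodule.map_span, Submodule.span_le]
  rintro _ ⟨w, hw, rfl⟩
  rcases hw with ⟨t, rfl⟩ | hw
  · exact h t
  · rw [Set.mem_singleton_iff] at hw
    subst hw
    have : (permL g : V →ₗ[ZMod 2] V) 1 = 1 := by
      funext p
      rfl
    rw [this]
    exact Submodule.subset_span (Or.inr rfl)

theorem permL_mem_of_mem_M24 {g : Equiv.Perm GolayPt} (hg : g ∈ M24) {w : V}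
    (hw : w ∈ golayCode) : permL g w ∈ golayCode := by
  rw [mem_M24_iff_le] at hg
  exact hg ⟨w, hw, rfl⟩

theorem qrWord_mem (t : ZMod 23) : qrWord t ∈ golayCode :=
  Submodule.subset_span (Or.inl ⟨t, rfl⟩)

theorem one_mem_golayCode : (1 : V) ∈ golayCode :=
  Submodule.subset_span (Or.inr rfl)

end Cfsg.Agent.Helper7
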