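import Cfsg.Agent.Helper7.M24Trans

/-!
# `M24` is transitive on octads; Steiner property of the octads
-/

set_option autoImplicit false

namespace Cfsg.Agent.Helper7

open Cfsg
open scoped Pointwise

theorem mem_octads_iff (o : Finset GolayPt) :
    o ∈ octads ↔ ∃ w ∈ golayCode, support₂ w = o ∧ o.card = 8 := by
  constructor
  · rintro ⟨⟨w, hw, rfl⟩, h8⟩
    exact ⟨w, hw, rfl, h8⟩
  · rintro ⟨w, hw, rfl, h8⟩
    exact ⟨⟨w, hw, rfl⟩, h8⟩

theorem mem_dodecads_iff (o : Finset GolayPt) :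
    o ∈ dodecads ↔ ∃ w ∈ golayCode, support₂ w = o ∧ o.card = 12 := by
  constructor
  · rintro ⟨⟨w, hw, rfl⟩, h8⟩
    exact ⟨w, hw, rfl, h8⟩
  · rintro ⟨w, hw, rfl, h8⟩
    exact ⟨⟨w, hw, rfl⟩, h8⟩

/-- Elements of `M24` map octads to octads. -/
theorem smul_mem_octads {g : Equiv.Perm GolayPt} (hg : g ∈ M24) {o : Finset GolayPt}
    (ho : o ∈ octads) : g • o ∈ octads := by
  rw [mem_octads_iff] at ho ⊢
  obtain ⟨w, hw, rfl, h8⟩ := ho
  exact ⟨permL g w, permL_mem_of_mem_M24 hg hw, (smul_support₂ g w).symm,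
    by rw [Finset.card_smul_finset]; exact h8⟩

/-- Elements of `M24` map dodecads to dodecads. -/
theorem smul_mem_dodecads {g : Equiv.Perm GolayPt} (hg : g ∈ M24) {o : Finset GolayPt}
    (ho : o ∈ dodecads) : g • o ∈ dodecads := by
  rw [mem_dodecads_iff] at ho ⊢
  obtain ⟨w, hw, rfl, h8⟩ := ho
  exact ⟨permL g w, permL_mem_of_mem_M24 hg hw, (smul_support₂ g w).symm,
    by rw [Finset.card_smul_finset]; exact h8⟩

/-- Two octads with five common points coincide. -/
theorem octad_eq_of_five {o o' : Finset GolayPt} (ho : o ∈ octads) (ho' : o' ∈ octads)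
    (A : Finset GolayPt) (hA : 5 ≤ A.card) (hAo : A ⊆ o) (hAo' : A ⊆ o') : o' = o := by
  rw [mem_octads_iff] at ho ho'
  obtain ⟨w, hw, rfl, h8⟩ := ho
  obtain ⟨w', hw', rfl, h8'⟩ := ho'
  rw [eq_of_five_common hw hw' h8 h8' A hA hAo hAo']

/-- `M24` is 5-homogeneous: any 5-set can be mapped onto any other. -/
theorem exists_smul_eq_of_card_five (s s' : Finset GolayPt) (hs : s.card = 5) (hs' : s'.card = 5) :
    ∃ g ∈ M24, g • s = s' := by
  have e : Fin 5 ≃ s := (Finset.equivFinOfCardEq hs).symm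
  have e' : Fin 5 ≃ s' := (Finset.equivFinOfCardEq hs').symm
  let x : Fin 5 ↪ GolayPt := e.toEmbedding.trans (Function.Embedding.subtype _)
  let y : Fin 5 ↪ GolayPt := e'.toEmbedding.trans (Function.Embedding.subtype _)
  obtain ⟨gx, hgx, hx⟩ := m24_exists_of_tuple x
  obtain ⟨gy, hgy, hy⟩ := m24_exists_of_tuple y
  refine ⟨gy * gx⁻¹, M24.mul_mem hgy (M24.inv_mem hgx), ?_⟩
  have hsub : (gy * gx⁻¹) • s ⊆ s' := by
    intro p hp
    rw [Finset.mem_smul_finset] at hp
    obtain ⟨q, hq, rfl⟩ := hp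
    obtain ⟨i, hi⟩ := e.surjective ⟨q, hq⟩
    have hq' : q = x i := by
      show q = ((e i : s) : GolayPt)
      rw [hi]
    rw [hq', Equiv.Perm.smul_def, Equiv.Perm.mul_apply, ← hx i]
    have : gx⁻¹ (gx (pt i.val)) = pt i.val := by simp
    rw [this, hy i]
    exact (e' i).2
  exact Finset.eq_of_subset_of_card_le hsub (by rw [Finset.card_smul_finset, hs, hs'])

/-- `M24` is transitive on octads. -/
theorem exists_smul_octad_eq {o o' : Finset GolayPt} (ho : o ∈ octads) (ho' : o' ∈ octads) :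
    ∃ g ∈ M24, g • o = o' := by
  have h8 : o.card = 8 := ho.2
  have h8' : o'.card = 8 := ho'.2
  obtain ⟨s, hso, hs⟩ := Finset.exists_subset_card_eq (s := o) (n := 5) (by omega)
  obtain ⟨s', hso', hs'⟩ := Finset.exists_subset_card_eq (s := o') (n := 5) (by omega)
  obtain ⟨g, hg, hgs⟩ := exists_smul_eq_of_card_five s s' hs hs'
  refine ⟨g, hg, ?_⟩
  have h1 : g • o ∈ octads := smul_mem_octads hg ho
  have h2 : s' ⊆ g • o := by
    rw [← hgs]
    exact Finset.smul_finset_subset_smul_finset hso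
  exact octad_eq_of_five ho' h1 s' (by omega) hso' h2

end Cfsg.Agent.Helper7
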