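import Cfsg.Agent.Helper7.M24Chain
import Cfsg.Agent.Helper7.ChainTrans

/-!
# `M24` is 5-transitive
-/

set_option autoImplicit false

namespace Cfsg.Agent.Helper7

open Cfsg

theorem m24_take5_ok : chainOK [] (m24Levels.take 5) = true := by decide +kernel

theorem m24_take5_full : fullOK 16777215 [] (m24Levels.take 5) = true := by decide +kernel

theorem m24_take5_b : (m24Levels.take 5).map (fun L => L.b) = [0, 1, 2, 3, 4] := by decide +kernel

/-- Every injective 5-tuple is the image of the base tuple `(0,1,2,3,4)` under `M24`. -/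
theorem m24_exists_of_tuple (x : Fin 5 ↪ GolayPt) :
    ∃ g ∈ M24, ∀ i : Fin 5, g (pt i.val) = x i := by
  obtain ⟨g, hg, hall⟩ := chain_trans (H := M24) 16777215 (fun g _ p => full_mask_inv g p)
    (F := []) (Ls := m24Levels.take 5)
    (fun L hL l hl => tabled_m24Levels L (List.mem_of_mem_take hL) l hl)
    m24_take5_ok m24_take5_full (by simp) (List.ofFn x)
    (by simp; decide +kernel)
    (List.nodup_ofFn.mpr x.injective)
    (fun y _ => by
      have : ∀ i < 24, (16777215 : ℕ).testBit i = true := by decide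
      exact this _ (idx_lt _))
    (by simp)
  refine ⟨g, hg.1, ?_⟩
  have h2 : List.Forall₂ (fun b y => g (pt b) = y) ((m24Levels.take 5).map (fun L => L.b))
      (List.ofFn x) := by
    rw [List.forall₂_map_left_iff]
    exact hall
  rw [m24_take5_b] at h2
  simp only [List.ofFn_succ, List.ofFn_zero, List.forall₂_cons, List.forall₂_nil_right_iff] at h2
  obtain ⟨h0, h1, h2, h3, h4, -⟩ := h2
  intro i
  fin_cases i
  · exact h0
  · exact h1
  · exact h2
  · exact h3
  · exact h4

/-- `M24` is 5-transitive on the 24 points. -/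
theorem m24_five_transitive : MulAction.IsMultiplyPretransitive M24 GolayPt 5 := by
  constructor
  intro x y
  obtain ⟨gx, hgx, hx⟩ := m24_exists_of_tuple x
  obtain ⟨gy, hgy, hy⟩ := m24_exists_of_tuple y
  refine ⟨⟨gy * gx⁻¹, M24.mul_mem hgy (M24.inv_mem hgx)⟩, ?_⟩
  refine Function.Embedding.ext (fun i => ?_)
  show (gy * gx⁻¹) (x i) = y i
  rw [← hx i, ← hy i]
  simp

end Cfsg.Agent.Helper7
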