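import Cfsg.Agent.Helper7.Basic

/-!
# A computational (bitmask) model of the length-24 code

Points are numbered `0..23` (`idx`), words over `ZMod 2` are encoded by natural numbers `< 2^24`
(`word`), and the code is the image of the systematic encoder `enc` on `[0, 4096)`.
-/

set_option autoImplicit false

namespace Cfsg.Agent.Helper7

open Cfsg

/-- Index of a point: residues `0..22`, the extra point is `23`. -/
def idx : GolayPt → ℕ
  | none => 23
  | some x => ZMod.val x

/-- The point with a given index. -/
def pt (i : ℕ) : GolayPt := if h : i < 23 then some (⟨i, h⟩ : Fin 23) else none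

theorem idx_lt (p : GolayPt) : idx p < 24 := by
  cases p with
  | none => decide
  | some x => exact Nat.lt_succ_of_lt (ZMod.val_lt x)

theorem pt_idx (p : GolayPt) : pt (idx p) = p := by
  cases p with
  | none => rfl
  | some x =>
    have h : ZMod.val x < 23 := ZMod.val_lt x
    show pt (ZMod.val x) = some x
    unfold pt
    rw [dif_pos h]
    rfl

theorem idx_pt {i : ℕ} (h : i < 24) : idx (pt i) = i := by
  unfold pt
  split
  · rfl
  · simp only [idx]; omega

theorem idx_injective : Function.Injective idx := by
  intro p q h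
  rw [← pt_idx p, ← pt_idx q, h]

/-- The word with given bitmask. -/
def word (N : ℕ) : V := fun p => if N.testBit (idx p) then 1 else 0

theorem word_apply (N : ℕ) (p : GolayPt) : word N p = if N.testBit (idx p) then 1 else 0 := rfl

theorem word_zero : word 0 = 0 := by
  funext p
  simp [word]

theorem word_xor (N M : ℕ) : word (N ^^^ M) = word N + word M := by
  funext p
  simp only [word, Nat.testBit_xor, Pi.add_apply]
  cases N.testBit (idx p) <;> cases M.testBit (idx p) <;> decide

theorem word_all : word 16777215 = 1 := by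
  funext p
  have : ∀ p : GolayPt, (16777215 : ℕ).testBit (idx p) = true := by decide
  simp [word, this]

theorem word_inj {N M : ℕ} (hN : N < 2 ^ 24) (hM : M < 2 ^ 24) (h : word N = word M) : N = M := by
  apply Nat.eq_of_testBit_eq
  intro i
  by_cases hi : i < 24
  · have := congrFun h (pt i)
    simp only [word, idx_pt hi] at this
    cases h1 : N.testBit i <;> cases h2 : M.testBit i <;> simp_all
  · have h24 : 2 ^ 24 ≤ 2 ^ i := Nat.pow_le_pow_right (by norm_num) (by omega)
    rw [Nat.testBit_lt_two_pow (lt_of_lt_of_le hN h24), Nat.testBit_lt_two_pow (lt_of_lt_of_le hM h24)]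

/-- The bitmask of a word. -/
def toMask (w : V) : ℕ := Nat.ofBits (fun i : Fin 24 => decide (w (pt i.val) ≠ 0))

theorem toMask_lt (w : V) : toMask w < 2 ^ 24 := Nat.ofBits_lt_two_pow _

theorem word_toMask (w : V) : word (toMask w) = w := by
  funext p
  show (if (toMask w).testBit (idx p) then (1 : ZMod 2) else 0) = w p
  have hb : (toMask w).testBit (idx p) = decide (w p ≠ 0) := by
    unfold toMask
    rw [Nat.testBit_ofBits_lt _ _ (idx_lt p)]
    simp only [pt_idx]
  rw [hb]
  have : ∀ a : ZMod 2, (if decide (a ≠ 0) = true then (1 : ZMod 2) else 0) = a := by decide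
  exact this _

theorem toMask_word {N : ℕ} (hN : N < 2 ^ 24) : toMask (word N) = N :=
  word_inj (toMask_lt _) hN (word_toMask _)

theorem exists_word (w : V) : ∃ N, N < 2 ^ 24 ∧ word N = w := ⟨toMask w, toMask_lt w, word_toMask w⟩

/-- Number of set bits among the lowest `k` (arithmetic form, fast in the kernel). -/
def wtB : ℕ → ℕ → ℕ
  | 0, _ => 0
  | k + 1, N => wtB k N + N / 2 ^ k % 2

/-- Weight of a mask: number of set bits among the lowest 24. -/
def wt (N : ℕ) : ℕ := wtB 24 N

theorem wtB_eq (k N : ℕ) : wtB k N = ((List.range k).filter (fun i => N.testBit i)).length := by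
  induction k with
  | zero => rfl
  | succ k ih =>
    rw [wtB, ih, List.range_succ, List.filter_append, List.length_append]
    congr 1
    have hb : N.testBit k = decide (N / 2 ^ k % 2 = 1) := Nat.testBit_eq_decide_div_mod_eq
    rcases Nat.mod_two_eq_zero_or_one (N / 2 ^ k) with h | h <;> simp [List.filter, hb, h]

theorem mem_support₂_word (N : ℕ) (p : GolayPt) :
    p ∈ support₂ (word N) ↔ N.testBit (idx p) = true := by
  rw [mem_support₂, word_apply]
  split <;> simp_all

theorem card_support₂_word (N : ℕ) : (support₂ (word N)).card = wt N := by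
  have h1 : (support₂ (word N)).card =
      ((Finset.range 24).filter (fun i => N.testBit i = true)).card := by
    apply Finset.card_nbij' idx pt
    · intro p hp
      simp only [Finset.coe_filter, Finset.mem_range, Set.mem_ofPred_eq]
      exact ⟨idx_lt p, (mem_support₂_word N p).mp hp⟩
    · intro i hi
      simp only [Finset.coe_filter, Finset.mem_range, Set.mem_ofPred_eq] at hi
      simp only [Finset.mem_coe, mem_support₂_word, idx_pt hi.1]
      exact hi.2
    · intro p _
      exact pt_idx p
    · intro i hi
      simp only [Finset.coe_filter, Finset.mem_range, Set.mem_ofPred_eq] at hi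
      exact idx_pt hi.1
  rw [h1, wt, wtB_eq]
  simp only [Finset.card_def, Finset.filter_val, Finset.range_val, Multiset.range,
    Multiset.filter_coe, Multiset.coe_card, Bool.decide_eq_true]

/-- Bounded universal quantifier as a Boolean, evaluated iteratively. -/
def allLt (n : ℕ) (p : ℕ → Bool) : Bool := (List.range n).all p

theorem allLt_spec {n : ℕ} {p : ℕ → Bool} (h : allLt n p = true) : ∀ m < n, p m = true := by
  intro m hm
  unfold allLt at h
  rw [List.all_eq_true] at h
  exact h m (List.mem_range.mpr hm)

/-- XOR of the rows selected by the bits of `m` (arithmetic form, fast in the kernel). -/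
def encAux : List ℕ → ℕ → ℕ
  | [], _ => 0
  | r :: rs, m => (m % 2 * r) ^^^ encAux rs (m / 2)

theorem encAux_xor (rs : List ℕ) (m m' : ℕ) :
    encAux rs (m ^^^ m') = encAux rs m ^^^ encAux rs m' := by
  induction rs generalizing m m' with
  | nil => simp [encAux]
  | cons r rs ih =>
    simp only [encAux, Nat.xor_div_two, ih, Nat.xor_mod_two_eq]
    rcases Nat.mod_two_eq_zero_or_one m with h | h <;>
      rcases Nat.mod_two_eq_zero_or_one m' with h' | h' <;>
      simp [Nat.add_mod, h, h', Nat.xor_assoc, Nat.xor_left_comm]

/-- The 12 rows of a generator matrix in systematic form (information positions `0..11`). -/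
def rows : List ℕ := [13062145, 4845570, 13938692, 7221256, 10170384, 11952160, 15515712,
  2019456, 4038912, 8077824, 11654144, 14919680]

/-- The systematic encoder: `enc m` for `m < 4096` is the code word whose low 12 bits are `m`. -/
def enc (m : ℕ) : ℕ := encAux rows m

/-- Masks of the words `qrWord t`, `t = 0..22`. -/
def qmasks : List ℕ := [340831, 681662, 1363324, 2726648, 5453296, 2517985, 5035970, 1683333,
  3366666, 6733332, 5078057, 1767507, 3535014, 7070028, 5751449, 3114291, 6228582, 4068557,
  8137114, 7885621, 7382635, 6376663, 4364719]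

set_option maxRecDepth 100000 in
theorem qrWord_eq_aux : ∀ t : ZMod 23, ∀ p : GolayPt,
    qrWord t p = word (qmasks.getD (ZMod.val t) 0) p := by
  decide +kernel

theorem qrWord_eq (t : ZMod 23) : qrWord t = word (qmasks.getD (ZMod.val t) 0) :=
  funext (qrWord_eq_aux t)

/-- Masks of the 24 generating words. -/
def gmasks : List ℕ := qmasks ++ [16777215]

theorem word_gmask_mem : ∀ x ∈ gmasks, word x ∈ golayCode := by
  intro x hx
  rw [gmasks, List.mem_append] at hx
  rcases hx with hx | hx
  · obtain ⟨i, hi, rfl⟩ := List.getElem_of_mem hx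
    have hi' : i < 23 := hi
    have h1 : word (qmasks[i]'hi) = qrWord ((i : ℕ) : ZMod 23) := by
      rw [qrWord_eq, ZMod.val_natCast, Nat.mod_eq_of_lt hi', List.getD_eq_getElem _ _ hi]
    rw [h1]
    exact qrWord_mem _
  · rw [List.mem_singleton] at hx
    subst hx
    rw [word_all]
    exact one_mem_golayCode

theorem word_encAux_mem (C : Submodule (ZMod 2) V) (rs : List ℕ) (h : ∀ r ∈ rs, word r ∈ C)
    (m : ℕ) : word (encAux rs m) ∈ C := by
  induction rs generalizing m with
  | nil => simp only [encAux, word_zero]; exact C.zero_mem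
  | cons r rs ih =>
    simp only [encAux, word_xor]
    apply C.add_mem
    · rcases Nat.mod_two_eq_zero_or_one m with h' | h'
      · rw [h', Nat.zero_mul, word_zero]; exact C.zero_mem
      · rw [h', Nat.one_mul]; exact h r (List.mem_cons_self ..)
    · exact ih (fun r' hr' => h r' (List.mem_cons_of_mem _ hr')) _

/-- Certificates: row `i` is the XOR of the generating words selected by `certs[i]`. -/
def certs : List ℕ := [8390313, 280, 8389785, 1400, 8390330, 8390551, 8390093, 2000, 1347, 101,
  8390243, 8390181]

theorem rows_eq : rows = certs.map (encAux gmasks) := by decide +kernel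

theorem word_row_mem : ∀ r ∈ rows, word r ∈ golayCode := by
  intro r hr
  rw [rows_eq, List.mem_map] at hr
  obtain ⟨c, _, rfl⟩ := hr
  exact word_encAux_mem _ _ word_gmask_mem _

theorem word_enc_mem (m : ℕ) : word (enc m) ∈ golayCode :=
  word_encAux_mem _ _ word_row_mem _

theorem enc_xor (m m' : ℕ) : enc (m ^^^ m') = enc m ^^^ enc m' := encAux_xor _ _ _

theorem enc_zero : enc 0 = 0 := by decide +kernel

/-- The code as a submodule, described by the encoder. -/
def codeSub : Submodule (ZMod 2) V where
  carrier := {w | ∃ m, m < 4096 ∧ w = word (enc m)}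
  add_mem' := by
    rintro _ _ ⟨m, hm, rfl⟩ ⟨m', hm', rfl⟩
    refine ⟨m ^^^ m', Nat.xor_lt_two_pow (n := 12) hm hm', ?_⟩
    rw [enc_xor, word_xor]
  zero_mem' := ⟨0, by norm_num, by rw [enc_zero, word_zero]⟩
  smul_mem' := by
    rintro c _ ⟨m, hm, rfl⟩
    have hc : c = 0 ∨ c = 1 := by revert c; decide
    rcases hc with rfl | rfl
    · exact ⟨0, by norm_num, by rw [enc_zero, word_zero, zero_smul]⟩
    · exact ⟨m, hm, by rw [one_smul]⟩

theorem gmasks_enc : ∀ x ∈ gmasks, enc (x % 4096) = x := by decide +kernel

theorem golayCode_le_codeSub : golayCode ≤ codeSub := by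
  rw [golayCode, Submodule.span_le]
  rintro w (⟨t, rfl⟩ | hw)
  · refine ⟨qmasks.getD (ZMod.val t) 0 % 4096, Nat.mod_lt _ (by norm_num), ?_⟩
    rw [qrWord_eq]
    congr 1
    symm
    apply gmasks_enc
    rw [gmasks, List.mem_append]
    left
    have ht : ZMod.val t < 23 := ZMod.val_lt t
    rw [List.getD_eq_getElem _ _ (by exact ht)]
    exact List.getElem_mem _
  · rw [Set.mem_singleton_iff] at hw
    subst hw
    refine ⟨16777215 % 4096, Nat.mod_lt _ (by norm_num), ?_⟩
    rw [← word_all]
    congr 1

/-- The code is exactly the image of the encoder. -/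
theorem mem_golayCode_iff (w : V) : w ∈ golayCode ↔ ∃ m, m < 4096 ∧ w = word (enc m) := by
  constructor
  · intro h
    exact golayCode_le_codeSub h
  · rintro ⟨m, _, rfl⟩
    exact word_enc_mem m

theorem enc_lt_aux : allLt 4096 (fun m => Nat.blt (enc m) 16777216) = true := by decide +kernel

theorem enc_lt {m : ℕ} (hm : m < 4096) : enc m < 2 ^ 24 := by
  have := allLt_spec enc_lt_aux m hm
  simpa [Nat.blt_eq] using this

theorem enc_mod_aux : allLt 4096 (fun m => Nat.beq (enc m % 4096) m) = true := by decide +kernel

theorem enc_mod {m : ℕ} (hm : m < 4096) : enc m % 4096 = m := by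
  have := allLt_spec enc_mod_aux m hm
  exact Nat.eq_of_beq_eq_true this

/-- Decision procedure for membership of a mask in the code. -/
theorem word_mem_golayCode_iff {N : ℕ} (hN : N < 2 ^ 24) :
    word N ∈ golayCode ↔ enc (N % 4096) = N := by
  rw [mem_golayCode_iff]
  constructor
  · rintro ⟨m, hm, h⟩
    have := word_inj hN (enc_lt hm) h
    rw [this, enc_mod hm]
  · intro h
    exact ⟨N % 4096, Nat.mod_lt _ (by norm_num), by rw [h]⟩

theorem enc_wt_aux : allLt 4096 (fun m => let k := wt (enc m);
    Nat.beq k 0 || Nat.beq k 8 || Nat.beq k 12 || Nat.beq k 16 || Nat.beq k 24) = true := by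
  decide +kernel

theorem enc_wt {m : ℕ} (hm : m < 4096) :
    wt (enc m) = 0 ∨ wt (enc m) = 8 ∨ wt (enc m) = 12 ∨ wt (enc m) = 16 ∨ wt (enc m) = 24 := by
  have := allLt_spec enc_wt_aux m hm
  simp only [Bool.or_eq_true] at this
  rcases this with (((h | h) | h) | h) | h
  · exact Or.inl (Nat.eq_of_beq_eq_true h)
  · exact Or.inr (Or.inl (Nat.eq_of_beq_eq_true h))
  · exact Or.inr (Or.inr (Or.inl (Nat.eq_of_beq_eq_true h)))
  · exact Or.inr (Or.inr (Or.inr (Or.inl (Nat.eq_of_beq_eq_true h))))
  · exact Or.inr (Or.inr (Or.inr (Or.inr (Nat.eq_of_beq_eq_true h))))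

theorem wt_eq_zero {N : ℕ} (hN : N < 2 ^ 24) (h : wt N = 0) : N = 0 := by
  rw [← card_support₂_word, Finset.card_eq_zero] at h
  have : word N = word 0 := by
    rw [word_zero]
    funext p
    by_contra hp
    have : p ∈ support₂ (word N) := (mem_support₂ _ _).mpr hp
    rw [h] at this
    exact absurd this (Finset.notMem_empty _)
  exact word_inj hN (by norm_num) this

/-- The weights of the code words are `0, 8, 12, 16, 24`. -/
theorem golayCode_card_support {w : V} (hw : w ∈ golayCode) :
    (support₂ w).card = 0 ∨ (support₂ w).card = 8 ∨ (support₂ w).card = 12 ∨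
      (support₂ w).card = 16 ∨ (support₂ w).card = 24 := by
  obtain ⟨m, hm, rfl⟩ := (mem_golayCode_iff w).mp hw
  rw [card_support₂_word]
  exact enc_wt hm

theorem support₂_eq_empty_iff (w : V) : support₂ w = ∅ ↔ w = 0 := by
  constructor
  · intro h
    funext p
    by_contra hp
    have : p ∈ support₂ w := (mem_support₂ _ _).mpr hp
    rw [h] at this
    exact absurd this (Finset.notMem_empty _)
  · rintro rfl
    ext p
    simp [mem_support₂]

/-- The minimum weight of the code is 8. -/
theorem golayCode_min_weight {w : V} (hw : w ∈ golayCode) (h0 : w ≠ 0) : 8 ≤ (support₂ w).card := by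
  have h1 : (support₂ w).card ≠ 0 := by
    rw [Ne, Finset.card_eq_zero, support₂_eq_empty_iff]
    exact h0
  rcases golayCode_card_support hw with h | h | h | h | h <;> omega

end Cfsg.Agent.Helper7
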