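import Cfsg.Agent.Helper7.M24Octad

/-!
# The octads span the code; `M24` is the automorphism group of the octad system
-/

set_option autoImplicit false

namespace Cfsg.Agent.Helper7

open Cfsg
open scoped Pointwise

/-- The code words of weight 8. -/
def octW : Set V := {w | w ∈ golayCode ∧ (support₂ w).card = 8}

/-- For each of the 24 generating words, octads whose sum it is. -/
def octCerts : List (List ℕ) := [[3416079, 3216208], [421910, 792232], [843820, 1584464],
  [2207772, 535268], [10170384, 13108704], [11952160, 9440193], [4845570, 337856],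
  [1302533, 675712], [2605066, 1351424], [13938692, 11669008], [13062145, 9055272],
  [4845570, 5441617], [4845570, 8126628], [4845570, 2232654], [13062145, 9474712],
  [9347075, 10560816], [10305542, 12733024], [5902343, 6554826], [7221256, 1186194],
  [5902343, 2245426], [14716939, 9451104], [12656663, 10513600], [5902343, 1608104],
  [13062145, 1613974, 2101096]]

/-- A mask is (the mask of) an octad. -/
def isOctadMask (o : ℕ) : Bool :=
  Nat.blt o 16777216 && Nat.beq (enc (o % 4096)) o && Nat.beq (wt o) 8

theorem word_mem_octW {o : ℕ} (h : isOctadMask o = true) : word o ∈ octW := by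
  simp only [isOctadMask, Bool.and_eq_true] at h
  obtain ⟨⟨h1, h2⟩, h3⟩ := h
  have h1' : o < 2 ^ 24 := by simpa [Nat.blt_eq] using h1
  refine ⟨(word_mem_golayCode_iff h1').mpr (Nat.eq_of_beq_eq_true h2), ?_⟩
  rw [card_support₂_word]
  exact Nat.eq_of_beq_eq_true h3

theorem octCerts_ok : (gmasks.zip octCerts).all (fun xo =>
    xo.2.all isOctadMask && Nat.beq (xo.2.foldr (· ^^^ ·) 0) xo.1) = true := by decide +kernel

theorem octCerts_len : octCerts.length = gmasks.length := by decide

theorem word_foldr_xor_mem (C : Submodule (ZMod 2) V) (os : List ℕ) (h : ∀ o ∈ os, word o ∈ C) :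
    word (os.foldr (· ^^^ ·) 0) ∈ C := by
  induction os with
  | nil => simp only [List.foldr_nil, word_zero]; exact C.zero_mem
  | cons o os ih =>
    simp only [List.foldr_cons, word_xor]
    exact C.add_mem (h o (List.mem_cons_self ..)) (ih (fun o' ho' => h o' (List.mem_cons_of_mem _ ho')))

theorem word_gmask_mem_span : ∀ x ∈ gmasks, word x ∈ Submodule.span (ZMod 2) octW := by
  intro x hx
  obtain ⟨i, hi, rfl⟩ := List.getElem_of_mem hx
  have hi' : i < octCerts.length := by rw [octCerts_len]; exact hi
  have hlen : i < (gmasks.zip octCerts).length := by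
    rw [List.length_zip]
    exact lt_min hi hi'
  have hmem : (gmasks.zip octCerts)[i]'hlen ∈ gmasks.zip octCerts := List.getElem_mem _
  rw [List.getElem_zip] at hmem
  have hok := octCerts_ok
  rw [List.all_eq_true] at hok
  have h1 := hok _ hmem
  simp only [Bool.and_eq_true, List.all_eq_true] at h1
  obtain ⟨h2, h3⟩ := h1
  rw [← Nat.eq_of_beq_eq_true h3]
  apply word_foldr_xor_mem
  intro o ho
  exact Submodule.subset_span (word_mem_octW (h2 o ho))

/-- The code is spanned by its words of weight 8. -/
theorem golayCode_eq_span_octW : golayCode = Submodule.span (ZMod 2) octW := by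
  apply le_antisymm
  · rw [golayCode, Submodule.span_le]
    rintro w (⟨t, rfl⟩ | hw)
    · rw [qrWord_eq]
      apply word_gmask_mem_span
      rw [gmasks, List.mem_append]
      left
      have ht : ZMod.val t < 23 := ZMod.val_lt t
      rw [List.getD_eq_getElem _ _ (by exact ht)]
      exact List.getElem_mem _
    · rw [Set.mem_singleton_iff] at hw
      subst hw
      rw [← word_all]
      apply word_gmask_mem_span
      simp [gmasks]
  · rw [Submodule.span_le]
    intro w hw
    exact hw.1

/-- `M24` is the automorphism group of the system of octads. -/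
theorem M24_eq_setSystemAut_octads : M24 = setSystemAut octads := by
  ext g
  constructor
  · intro hg
    show g • octads = octads
    apply Set.Subset.antisymm
    · rintro _ ⟨o, ho, rfl⟩
      exact smul_mem_octads hg ho
    · intro o ho
      refine ⟨g⁻¹ • o, smul_mem_octads (M24.inv_mem hg) ho, ?_⟩
      simp
  · intro h
    have h : g • octads = octads := h
    rw [mem_M24_iff_le]
    nth_rewrite 1 [golayCode_eq_span_octW]
    rw [Submodule.map_span, Submodule.span_le]
    rintro _ ⟨w, hw, rfl⟩
    have h1 : support₂ w ∈ octads := (mem_octads_iff _).mpr ⟨w, hw.1, rfl, hw.2⟩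
    have h2 : g • support₂ w ∈ octads := by
      rw [← h]
      exact ⟨_, h1, rfl⟩
    rw [smul_support₂, mem_octads_iff] at h2
    obtain ⟨w', hw', hs, _⟩ := h2
    have := support₂_injective hs
    show permL g w ∈ golayCode
    rw [← this]
    exact hw'

end Cfsg.Agent.Helper7
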