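import Cfsg.Agent.Helper7.SimpleCert
import Cfsg.Agent.Helper7.M12Trans

/-!
# Simplicity certificate for the stabiliser of a dodecad and one of its points (generated data)
-/

set_option autoImplicit false

namespace Cfsg.Agent.Helper7

open Cfsg

/-- An element of order 11. -/
def m11sY : List ℕ := [0, 2, 18, 16, 3, 5, 9, 11, 12, 8, 14, 22, 4, 1, 15, 19, 13, 23, 6, 7, 17, 10, 20, 21]

/-- A conjugating element. -/
def m11sH : List ℕ := [0, 3, 13, 12, 4, 15, 6, 5, 2, 9, 23, 21, 18, 16, 19, 22, 8, 10, 1, 14, 17, 11, 7, 20]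

theorem m11sY_eq : powT (prodIdx m12Tabs [58, 74, 79, 90]) 1 = m11sY := by
  decide +kernel

theorem m11sH_eq : prodIdx m12Tabs [52, 68, 79, 87] = m11sH := by
  decide +kernel

/-- The straight-line program in `y` and `h y h⁻¹` (node 0 is the identity). -/
def m11sProg : List Op := [
  .mul 1 1, .mul 1 2, .mul 2 3, .mul 1 4, .mul 1 5, .mul 2 5, .mul 2 6, .mul 2 7,
  .mul 1 7, .mul 9 11, .mul 2 10, .mul 13 12, .mul 13 13, .mul 12 14, .mul 13 14, .mul 12 17,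
  .mul 13 17, .mul 12 19, .mul 13 15, .mul 20 21, .mul 13 20, .mul 16 23, .mul 22 22, .mul 22 24,
  .mul 24 24, .mul 22 25, .mul 22 27, .mul 24 29, .mul 24 22, .mul 28 31, .mul 24 26, .mul 32 32,
  .mul 33 32, .mul 32 33, .mul 32 34, .mul 33 34
]

/-- The tables of all nodes of the straight-line program. -/
def m11sTabs : List (List ℕ) := [
  [0, 1, 2, 3, 4, 5, 6, 7, 8, 9, 10, 11, 12, 13, 14, 15, 16, 17, 18, 19, 20, 21, 22, 23],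
  [0, 2, 18, 16, 3, 5, 9, 11, 12, 8, 14, 22, 4, 1, 15, 19, 13, 23, 6, 7, 17, 10, 20, 21],
  [0, 6, 18, 13, 12, 21, 9, 17, 16, 2, 20, 23, 8, 1, 5, 15, 3, 10, 4, 22, 11, 7, 14, 19],
  [0, 18, 6, 13, 16, 5, 8, 22, 4, 12, 15, 20, 3, 2, 19, 7, 1, 21, 9, 11, 23, 14, 17, 10],
  [0, 9, 6, 1, 4, 10, 8, 23, 13, 18, 17, 21, 12, 2, 5, 19, 16, 14, 3, 20, 22, 11, 15, 7],
  [0, 4, 9, 1, 3, 21, 16, 14, 12, 8, 15, 11, 13, 18, 22, 17, 6, 7, 2, 23, 19, 5, 10, 20],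
  [0, 8, 9, 2, 3, 14, 12, 21, 1, 6, 23, 10, 4, 18, 5, 7, 13, 15, 16, 17, 20, 22, 19, 11],
  [0, 3, 8, 2, 16, 10, 13, 15, 4, 12, 19, 22, 1, 6, 20, 23, 9, 11, 18, 21, 7, 5, 14, 17],
  [0, 12, 2, 6, 13, 7, 3, 5, 8, 16, 15, 23, 1, 4, 14, 10, 9, 17, 18, 19, 22, 21, 20, 11],
  [0, 16, 2, 18, 13, 5, 8, 7, 6, 9, 19, 20, 12, 4, 21, 17, 1, 15, 3, 10, 11, 14, 22, 23],
  [0, 13, 16, 18, 3, 20, 1, 15, 12, 8, 22, 14, 6, 9, 11, 19, 2, 23, 4, 7, 17, 21, 5, 10],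
  [0, 16, 12, 18, 13, 14, 1, 19, 3, 4, 7, 20, 2, 9, 17, 21, 8, 22, 6, 10, 11, 5, 15, 23],
  [0, 1, 12, 3, 4, 21, 16, 10, 18, 13, 7, 11, 2, 9, 15, 14, 6, 22, 8, 19, 20, 5, 17, 23],
  [0, 1, 3, 4, 13, 11, 6, 15, 8, 16, 14, 5, 9, 2, 23, 22, 18, 19, 12, 17, 10, 7, 21, 20],
  [0, 1, 9, 4, 13, 7, 18, 14, 12, 2, 15, 5, 3, 16, 22, 23, 6, 21, 8, 17, 10, 11, 19, 20],
  [0, 1, 4, 13, 2, 5, 6, 22, 8, 18, 23, 11, 16, 3, 20, 21, 12, 17, 9, 19, 14, 15, 7, 10],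
  [0, 1, 13, 4, 9, 10, 8, 15, 2, 12, 14, 21, 3, 6, 17, 23, 16, 5, 18, 22, 7, 11, 19, 20],
  [0, 1, 16, 13, 2, 15, 12, 23, 9, 3, 22, 11, 4, 18, 21, 20, 6, 7, 8, 19, 14, 5, 17, 10],
  [0, 1, 6, 9, 12, 14, 2, 23, 13, 3, 17, 11, 4, 8, 5, 20, 16, 10, 18, 19, 15, 21, 22, 7],
  [0, 1, 18, 2, 3, 22, 9, 20, 16, 4, 21, 5, 13, 12, 7, 10, 6, 15, 8, 17, 23, 11, 19, 14],
  [0, 1, 8, 12, 3, 17, 13, 20, 6, 4, 5, 21, 9, 2, 10, 7, 16, 14, 18, 22, 23, 11, 19, 15],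
  [0, 1, 13, 2, 3, 11, 6, 21, 8, 12, 20, 5, 18, 4, 10, 7, 9, 19, 16, 17, 23, 22, 15, 14],
  [0, 1, 2, 8, 12, 21, 13, 11, 6, 9, 23, 17, 18, 3, 5, 20, 4, 22, 16, 14, 15, 19, 7, 10],
  [0, 1, 8, 9, 4, 19, 2, 10, 6, 13, 11, 7, 16, 3, 14, 15, 18, 23, 12, 21, 20, 5, 17, 22],
  [0, 1, 2, 12, 9, 22, 13, 14, 8, 6, 21, 15, 16, 4, 17, 23, 18, 20, 3, 11, 7, 10, 5, 19],
  [0, 1, 2, 6, 18, 19, 3, 17, 13, 9, 10, 22, 16, 8, 21, 15, 12, 7, 4, 5, 20, 14, 11, 23],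
  [0, 1, 2, 18, 9, 7, 3, 5, 6, 13, 19, 20, 4, 12, 22, 10, 16, 15, 8, 17, 11, 23, 21, 14],
  [0, 1, 2, 16, 6, 5, 4, 17, 8, 13, 10, 23, 18, 9, 20, 19, 3, 7, 12, 15, 14, 21, 22, 11],
  [0, 1, 2, 13, 16, 14, 8, 22, 3, 9, 23, 7, 4, 6, 19, 20, 18, 11, 12, 21, 15, 5, 17, 10],
  [0, 1, 2, 4, 13, 21, 12, 22, 6, 3, 23, 10, 16, 9, 15, 14, 8, 11, 18, 20, 5, 19, 7, 17],
  [0, 1, 2, 9, 4, 10, 16, 5, 13, 12, 19, 21, 18, 6, 23, 17, 8, 15, 3, 7, 22, 11, 14, 20],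
  [0, 1, 2, 8, 16, 10, 4, 15, 13, 6, 19, 20, 3, 12, 22, 7, 9, 5, 18, 17, 23, 11, 14, 21],
  [0, 1, 2, 3, 18, 23, 16, 20, 6, 8, 21, 15, 13, 4, 17, 22, 9, 14, 12, 11, 10, 7, 19, 5],
  [0, 1, 2, 3, 6, 14, 12, 22, 13, 4, 11, 7, 9, 16, 5, 21, 18, 23, 8, 20, 15, 19, 10, 17],
  [0, 1, 2, 3, 12, 5, 9, 10, 16, 6, 7, 22, 4, 18, 14, 19, 8, 17, 13, 15, 21, 20, 11, 23],
  [0, 1, 2, 3, 8, 17, 18, 15, 12, 13, 19, 21, 16, 6, 23, 10, 4, 5, 9, 7, 11, 22, 20, 14],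
  [0, 1, 2, 3, 16, 17, 13, 19, 4, 18, 15, 20, 8, 9, 23, 7, 12, 5, 6, 10, 22, 11, 21, 14],
  [0, 1, 2, 3, 13, 23, 8, 21, 9, 16, 20, 19, 18, 12, 17, 11, 6, 14, 4, 22, 7, 10, 15, 5],
  [0, 1, 2, 3, 9, 14, 4, 11, 18, 12, 22, 10, 6, 8, 5, 20, 13, 23, 16, 21, 19, 15, 7, 17]
]

theorem m11sTabs_eq :
    runSLP m11sProg [idT, m11sY, compT m11sH (compT m11sY (invT m11sH))] = m11sTabs := by
  decide +kernel

/-- Base point, orbit, node numbers of the transversal, for each level. -/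
def m11sSpecs : List (ℕ × List ℕ × List ℕ) := [
  (1, [1, 2, 3, 4, 6, 8, 9, 12, 13, 16, 18],
    [0, 1, 7, 5, 2, 6, 4, 8, 10, 9, 3]),
  (2, [2, 3, 4, 6, 8, 9, 12, 13, 16, 18],
    [0, 13, 15, 18, 20, 14, 12, 16, 17, 19]),
  (3, [3, 4, 6, 8, 9, 12, 13, 16, 18],
    [0, 29, 25, 22, 30, 24, 28, 27, 26]),
  (4, [4, 6, 8, 9, 12, 13, 16, 18],
    [0, 33, 35, 38, 34, 37, 36, 32])
]

/-- The levels of the chain. -/
def m11sLevels : List Level := m11sSpecs.map (mkLevel m11sTabs)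

theorem m11sLevels_mem : ∀ L ∈ m11sLevels, ∀ l ∈ L.T, l ∈ m11sTabs := by
  intro L hL l hl
  rw [m11sLevels, List.mem_map] at hL
  obtain ⟨s, _, rfl⟩ := hL
  exact mkLevel_T_mem _ _ l hl

theorem tabled_m11sY : Tabled (fixG M12 [0]) m11sY := by
  rw [← m11sY_eq]
  exact (((tabled_prodIdx tabled_m12Tabs _).pow _).setStab (by decide +kernel)).fixG
    (by decide +kernel) (by decide)

theorem tabled_m11sH : Tabled (fixG M12 [0]) m11sH := by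
  rw [← m11sH_eq]
  exact ((tabled_prodIdx tabled_m12Tabs _).setStab (by decide +kernel)).fixG
    (by decide +kernel) (by decide)

theorem d0_faithful : ∀ g ∈ M12, (∀ q, d0.testBit (idx q) = true → g q = q) → g = 1 := by
  intro g hg hfix
  apply m12_fix5_trivial
  refine ⟨hg, fun i hi => ?_⟩
  apply hfix
  have h : ∀ i ∈ [4, 3, 2, 1, 0], d0.testBit (idx (pt i)) = true := by decide +kernel
  exact h i hi

/-- The stabiliser of a point in the stabiliser of the standard dodecad is simple. -/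
theorem m11_simple : IsSimpleGroup (fixG M12 [0]) := by
  have h1 : baseRev m12Levels 1 ++ [] = [0] := by decide +kernel
  have hB := bounds_drop 1 m12_bounds
  have hok := chainOK_drop (F := []) 1 m12_chainOK
  rw [h1] at hB hok
  have hmask : ∀ i < 24, (340830 : ℕ).testBit i = (d0.testBit i && !(List.contains [0] i)) := by
    decide +kernel
  exact simple_of_sylow_cert (Ls := m12Levels.drop 1)
    (fun L hL l hl => tabled_m12Levels L (List.mem_of_mem_drop hL) l hl) hok hB (by decide)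
    (p := 11) (m := 720) (by norm_num) (by rw [card_fixG_m12_1]) (by norm_num)
    tabled_m11sY tabled_m11sH (by decide +kernel) (by decide +kernel)
    m11sTabs_eq m11sLevels_mem (by decide +kernel) (by decide +kernel)
    340830 (diff_mask_inv M12 [0] d0 340830 M12_inv hmask)
    (by decide +kernel) (by decide) (by decide +kernel)
    (diff_mask_faithful M12 [0] d0 340830 hmask d0_faithful)
    (by decide +kernel)

end Cfsg.Agent.Helper7
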