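import Cfsg.Agent.Helper7.M23Simple
import Cfsg.Agent.Helper7.M11Simple

/-!
# Simplicity of `M24` and of the dodecad stabiliser
-/

set_option autoImplicit false

namespace Cfsg.Agent.Helper7

open Cfsg
open scoped Pointwise

/-- `M24` is simple. -/
theorem m24_simple : IsSimpleGroup M24 := by
  have h := simple_of_stab_cert (H := M24) (F := []) (Ls := m24Levels) tabled_m24Levels
    m24_chainOK (by simp) 16777215 (fun g _ => full_mask_inv g) (by decide +kernel) (by simp)
    (by decide +kernel) (fun g hg => full_mask_faithful M24 g hg.1) 0 (by decide) (by decide)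
    m23_simple (p := 2) (q := 3) (by norm_num) (by norm_num) (by norm_num)
    (by decide +kernel) (by decide +kernel)
  rwa [fixG_nil] at h

/-- The stabiliser of the standard dodecad is simple. -/
theorem m12_simple : IsSimpleGroup M12 := by
  have h := simple_of_stab_cert (H := M12) (F := []) (Ls := m12Levels) tabled_m12Levels
    m12_chainOK (by simp) d0 (fun g hg => M12_inv g hg.1)
    (fullOK_take d0 2 m12_full) (by simp)
    (by decide +kernel) (fun g hg => d0_faithful g hg.1) 0 (by decide) (by decide +kernel)
    m11_simple (p := 2) (q := 3) (by norm_num) (by norm_num) (by norm_num)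
    (by decide +kernel) (by decide +kernel)
  rwa [fixG_nil] at h

/-- The stabiliser of any dodecad in `M24` is simple. -/
theorem dodecad_stab_simple {d : Finset GolayPt} (hd : d ∈ dodecads) :
    IsSimpleGroup (MulAction.stabilizer M24 d) := by
  obtain ⟨g, rfl⟩ := exists_smul_d0F_eq hd
  have e1 := MulAction.stabilizerEquivStabilizer (G := M24) (g := g) (a := d0F) (b := g • d0F) rfl
  have e2 : MulAction.stabilizer M24 d0F ≃* M12 := stabFinsetEquiv M24 d0
  have := m12_simple
  exact (e1.symm.trans e2).isSimpleGroup

end Cfsg.Agent.Helper7
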