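import Mathlib
import Cfsg.Prelude.Def_KGroupFacts
import Cfsg.Agent.Helper7.Table

/-!
# Invariance of the outer automorphism group under isomorphism; code check for tables of `M24`
-/

set_option autoImplicit false

namespace Cfsg.Agent.Helper7

open Cfsg

/-- Isomorphic groups have inner automorphism groups of the same index. -/
theorem inn_index_congr {G H : Type*} [Group G] [Group H] (e : G ≃* H) :
    (Cfsg.Inn G).index = (Cfsg.Inn H).index := by
  have hmap : (Cfsg.Inn G).map ((MulAut.congr e : MulAut G ≃* MulAut H) : MulAut G →* MulAut H) =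
      Cfsg.Inn H := by
    ext φ
    constructor
    · rintro ⟨_, ⟨g, rfl⟩, rfl⟩
      refine ⟨e g, ?_⟩
      ext x
      simp [MulAut.congr]
    · rintro ⟨h, rfl⟩
      refine ⟨MulAut.conj (e.symm h), ⟨e.symm h, rfl⟩, ?_⟩
      ext x
      simp [MulAut.congr]
  rw [← hmap, Subgroup.index_map_equiv]

/-- The tables of the elements of `M24` preserve the code. -/
theorem enc_pullMask_of_mem_M24 {l : List ℕ} {g : Equiv.Perm GolayPt} (h : IsTable l g)
    (hg : g ∈ M24) {N : ℕ} (hN : N < 2 ^ 24) (hc : enc (N % 4096) = N) :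
    enc (pullMask l N % 4096) = pullMask l N := by
  have hinv : g⁻¹ ∈ M24 := M24.inv_mem hg
  rw [mem_M24_iff_le] at hinv
  have hw : word N ∈ golayCode := (word_mem_golayCode_iff hN).mpr hc
  have h1 : permL g⁻¹ (word N) ∈ golayCode := hinv ⟨word N, hw, rfl⟩
  rw [permL_inv_apply, word_comp_of_isTable h] at h1
  have hlt : pullMask l N < 2 ^ 24 := by
    have := pullMask_lt l N
    rwa [h.1] at this
  exact (word_mem_golayCode_iff hlt).mp h1

end Cfsg.Agent.Helper7
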