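import Cfsg.Agent.Helper7.SimpleCert
import Cfsg.Agent.Helper7.M24Stab

/-!
# Simplicity certificate for the two-point stabiliser of `M24` (generated data)
-/

set_option autoImplicit false

namespace Cfsg.Agent.Helper7

open Cfsg

/-- An element of order 11. -/
def m22sY : List ℕ := [0, 1, 6, 15, 8, 22, 13, 18, 3, 12, 9, 5, 21, 14, 10, 17, 20, 19, 16, 7, 23, 11, 2, 4]

/-- A conjugating element. -/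
def m22sH : List ℕ := [0, 1, 23, 7, 17, 2, 8, 10, 16, 5, 22, 15, 11, 12, 21, 18, 9, 19, 14, 3, 20, 13, 4, 6]

theorem m22sY_eq : powT (prodIdx m24Tabs [60, 87, 103, 136, 141]) 1 = m22sY := by
  decide +kernel

theorem m22sH_eq : prodIdx m24Tabs [57, 80, 102, 0, 141] = m22sH := by
  decide +kernel

/-- The straight-line program in `y` and `h y h⁻¹` (node 0 is the identity). -/
def m22sProg : List Op := [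
  .mul 1 1, .mul 2 1, .mul 1 2, .mul 2 2, .mul 1 3, .mul 2 3, .mul 1 4, .mul 2 4,
  .mul 1 5, .mul 2 5, .mul 1 7, .mul 2 7, .mul 1 9, .mul 1 10, .mul 1 12, .mul 1 15,
  .mul 1 17, .mul 2 17, .mul 1 19, .inv 6, .mul 1 16, .mul 22 23, .mul 2 8, .mul 24 24,
  .mul 25 24, .mul 24 25, .mul 24 26, .mul 25 26, .mul 24 27, .mul 25 27, .mul 24 28, .mul 24 29,
  .mul 25 29, .mul 24 30, .mul 24 31, .mul 25 31, .mul 24 32, .mul 24 36, .mul 25 38, .mul 25 40,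
  .mul 25 41, .inv 43, .mul 24 43, .mul 44 45, .mul 25 32, .mul 46 46, .mul 47 46, .mul 46 47,
  .mul 47 47, .mul 46 48, .mul 47 48, .mul 46 49, .mul 47 49, .mul 46 50, .mul 47 50, .mul 46 51,
  .mul 46 52, .mul 46 53, .mul 47 54, .mul 46 56, .mul 47 56, .mul 47 59, .mul 47 57, .mul 57 65,
  .mul 46 60, .mul 61 67, .inv 62, .mul 47 61, .mul 69 70, .mul 66 66, .mul 68 66, .mul 71 66,
  .mul 66 68, .mul 68 68, .mul 71 68, .mul 66 71, .mul 68 71, .mul 71 71, .mul 66 73, .mul 66 74,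
  .mul 71 77, .mul 66 81, .mul 71 84, .mul 85 85
]

/-- The tables of all nodes of the straight-line program. -/
def m22sTabs : List (List ℕ) := [
  [0, 1, 2, 3, 4, 5, 6, 7, 8, 9, 10, 11, 12, 13, 14, 15, 16, 17, 18, 19, 20, 21, 22, 23],
  [0, 1, 6, 15, 8, 22, 13, 18, 3, 12, 9, 5, 21, 14, 10, 17, 20, 19, 16, 7, 23, 11, 2, 4],
  [0, 1, 4, 10, 23, 11, 17, 18, 12, 20, 14, 13, 21, 15, 9, 2, 7, 16, 19, 3, 6, 22, 5, 8],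
  [0, 1, 13, 17, 3, 2, 14, 16, 15, 21, 12, 22, 11, 10, 9, 19, 23, 7, 20, 18, 4, 5, 6, 8],
  [0, 1, 17, 2, 12, 5, 15, 19, 10, 21, 20, 11, 22, 9, 14, 16, 6, 3, 7, 18, 8, 13, 4, 23],
  [0, 1, 8, 9, 4, 5, 19, 16, 21, 23, 10, 14, 11, 17, 12, 6, 18, 20, 7, 15, 13, 2, 22, 3],
  [0, 1, 23, 14, 8, 13, 16, 19, 21, 6, 9, 15, 22, 2, 20, 4, 18, 7, 3, 10, 17, 5, 11, 12],
  [0, 1, 14, 19, 15, 6, 10, 20, 17, 11, 21, 2, 5, 9, 12, 7, 4, 18, 23, 16, 8, 22, 13, 3],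
  [0, 1, 15, 16, 10, 4, 9, 7, 2, 22, 21, 5, 13, 14, 20, 3, 8, 18, 6, 19, 23, 11, 17, 12],
  [0, 1, 19, 6, 21, 22, 17, 7, 9, 11, 23, 5, 2, 12, 10, 20, 13, 15, 18, 16, 3, 14, 8, 4],
  [0, 1, 16, 4, 21, 11, 2, 3, 14, 22, 6, 13, 5, 20, 9, 7, 17, 10, 18, 19, 12, 15, 23, 8],
  [0, 1, 3, 12, 8, 22, 7, 20, 11, 4, 9, 10, 5, 19, 21, 13, 16, 23, 18, 17, 14, 6, 2, 15],
  [0, 1, 12, 20, 23, 11, 3, 7, 22, 8, 14, 9, 13, 16, 21, 17, 19, 6, 18, 2, 15, 4, 5, 10],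
  [0, 1, 10, 7, 17, 13, 9, 23, 19, 5, 11, 6, 22, 12, 21, 18, 8, 16, 4, 20, 3, 2, 14, 15],
  [0, 1, 9, 3, 2, 17, 14, 6, 16, 13, 22, 4, 11, 20, 21, 18, 23, 19, 8, 7, 12, 5, 15, 10],
  [0, 1, 7, 13, 11, 2, 19, 18, 12, 5, 4, 22, 6, 21, 9, 23, 14, 17, 16, 20, 15, 10, 3, 8],
  [0, 1, 20, 8, 11, 5, 6, 15, 10, 2, 13, 14, 22, 23, 12, 18, 19, 9, 16, 7, 21, 17, 4, 3],
  [0, 1, 21, 23, 4, 5, 15, 18, 2, 3, 10, 12, 14, 20, 11, 19, 7, 13, 16, 6, 17, 8, 22, 9],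
  [0, 1, 18, 14, 5, 6, 7, 16, 21, 22, 8, 2, 13, 11, 12, 4, 10, 19, 20, 23, 17, 9, 15, 3],
  [0, 1, 11, 4, 8, 22, 17, 16, 6, 15, 9, 21, 10, 23, 5, 7, 18, 14, 20, 13, 19, 3, 2, 12],
  [0, 1, 22, 8, 23, 11, 2, 19, 4, 10, 14, 21, 9, 6, 13, 3, 18, 15, 7, 17, 16, 12, 5, 20],
  [0, 1, 5, 8, 3, 2, 19, 20, 13, 17, 12, 11, 9, 4, 22, 18, 16, 10, 23, 14, 7, 15, 6, 21],
  [0, 1, 13, 18, 15, 21, 9, 17, 4, 10, 19, 22, 23, 5, 3, 11, 6, 20, 16, 7, 14, 8, 12, 2],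
  [0, 1, 23, 3, 5, 22, 13, 17, 9, 6, 14, 10, 2, 4, 21, 16, 7, 12, 20, 18, 11, 19, 8, 15],
  [0, 1, 2, 18, 21, 12, 5, 20, 10, 9, 3, 19, 13, 15, 8, 6, 17, 23, 14, 16, 22, 7, 4, 11],
  [0, 1, 2, 7, 14, 23, 20, 18, 4, 5, 22, 11, 15, 9, 6, 10, 12, 19, 17, 3, 8, 13, 16, 21],
  [0, 1, 2, 14, 7, 13, 12, 22, 3, 9, 18, 16, 15, 6, 10, 5, 23, 11, 8, 17, 4, 20, 21, 19],
  [0, 1, 2, 17, 13, 15, 23, 8, 22, 5, 7, 3, 9, 10, 4, 20, 19, 21, 6, 12, 16, 18, 14, 11],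
  [0, 1, 2, 20, 8, 11, 22, 14, 21, 12, 4, 19, 6, 9, 5, 3, 13, 16, 23, 18, 10, 15, 17, 7],
  [0, 1, 2, 8, 20, 15, 13, 4, 18, 9, 14, 17, 6, 5, 3, 12, 11, 19, 10, 23, 21, 22, 7, 16],
  [0, 1, 2, 6, 18, 9, 15, 16, 7, 5, 17, 12, 10, 20, 22, 23, 21, 11, 4, 19, 14, 8, 13, 3],
  [0, 1, 2, 23, 15, 6, 11, 10, 4, 12, 20, 18, 9, 3, 21, 22, 16, 7, 5, 13, 17, 14, 8, 19],
  [0, 1, 2, 19, 9, 10, 21, 4, 16, 23, 18, 7, 5, 22, 14, 8, 3, 13, 20, 15, 12, 17, 6, 11],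
  [0, 1, 2, 22, 10, 19, 4, 8, 7, 13, 21, 16, 5, 9, 12, 18, 15, 17, 11, 14, 3, 6, 23, 20],
  [0, 1, 2, 10, 22, 6, 15, 21, 14, 9, 8, 23, 5, 12, 18, 13, 19, 16, 3, 11, 7, 4, 20, 17],
  [0, 1, 2, 4, 8, 10, 9, 14, 17, 5, 6, 19, 20, 23, 7, 15, 11, 3, 22, 21, 13, 16, 18, 12],
  [0, 1, 2, 5, 14, 9, 6, 17, 20, 12, 23, 13, 3, 22, 4, 11, 7, 19, 21, 16, 8, 10, 15, 18],
  [0, 1, 2, 11, 6, 5, 19, 3, 21, 13, 22, 14, 9, 18, 7, 4, 17, 20, 12, 15, 23, 8, 10, 16],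
  [0, 1, 2, 21, 10, 20, 11, 22, 14, 15, 8, 17, 5, 7, 13, 16, 12, 18, 23, 9, 19, 6, 4, 3],
  [0, 1, 2, 16, 9, 3, 7, 21, 17, 11, 14, 20, 12, 4, 8, 10, 18, 15, 22, 6, 13, 23, 5, 19],
  [0, 1, 2, 12, 8, 9, 5, 23, 22, 13, 11, 15, 18, 4, 21, 19, 20, 16, 7, 17, 10, 3, 6, 14],
  [0, 1, 2, 13, 22, 8, 11, 16, 6, 10, 4, 19, 23, 18, 9, 12, 15, 17, 21, 5, 3, 20, 14, 7],
  [0, 1, 2, 15, 4, 5, 23, 21, 16, 9, 11, 10, 17, 14, 13, 3, 8, 12, 18, 19, 22, 7, 20, 6],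
  [0, 1, 2, 9, 16, 4, 11, 12, 20, 22, 14, 3, 21, 17, 5, 15, 10, 19, 13, 23, 7, 8, 6, 18],
  [0, 1, 2, 11, 5, 14, 22, 20, 21, 3, 16, 6, 7, 18, 10, 15, 4, 13, 23, 17, 8, 12, 9, 19],
  [0, 1, 2, 9, 17, 21, 19, 13, 22, 4, 8, 18, 7, 23, 12, 6, 3, 16, 15, 11, 20, 10, 5, 14],
  [0, 1, 2, 3, 13, 12, 17, 18, 9, 5, 21, 23, 20, 19, 7, 22, 11, 4, 15, 6, 8, 16, 14, 10],
  [0, 1, 2, 3, 5, 22, 13, 14, 12, 21, 17, 18, 23, 16, 6, 4, 7, 9, 8, 10, 15, 19, 20, 11],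
  [0, 1, 2, 3, 19, 20, 4, 15, 5, 12, 16, 10, 8, 6, 18, 14, 23, 13, 22, 17, 9, 11, 7, 21],
  [0, 1, 2, 3, 16, 23, 9, 8, 21, 22, 19, 11, 15, 10, 14, 20, 18, 5, 4, 13, 12, 7, 6, 17],
  [0, 1, 2, 3, 12, 14, 19, 7, 20, 16, 4, 15, 10, 11, 17, 13, 18, 5, 9, 21, 22, 6, 8, 23],
  [0, 1, 2, 3, 22, 20, 16, 6, 23, 19, 9, 8, 11, 7, 13, 5, 14, 21, 12, 17, 4, 10, 15, 18],
  [0, 1, 2, 3, 6, 8, 13, 22, 12, 20, 11, 21, 9, 17, 15, 7, 10, 19, 14, 4, 5, 23, 18, 16],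
  [0, 1, 2, 3, 10, 15, 5, 4, 22, 23, 7, 17, 12, 13, 8, 6, 11, 16, 20, 9, 21, 18, 14, 19],
  [0, 1, 2, 3, 11, 10, 5, 9, 16, 14, 6, 23, 22, 21, 7, 8, 15, 12, 13, 19, 20, 18, 17, 4],
  [0, 1, 2, 3, 7, 11, 21, 12, 19, 20, 10, 18, 4, 17, 6, 15, 8, 22, 5, 16, 23, 14, 13, 9],
  [0, 1, 2, 3, 20, 7, 6, 18, 8, 11, 13, 22, 21, 23, 4, 19, 15, 12, 5, 16, 14, 17, 9, 10],
  [0, 1, 2, 3, 23, 6, 10, 14, 15, 7, 5, 4, 17, 18, 9, 16, 8, 22, 21, 19, 20, 13, 12, 11],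
  [0, 1, 2, 3, 14, 8, 11, 17, 10, 6, 5, 9, 23, 18, 19, 12, 7, 16, 20, 4, 13, 21, 22, 15],
  [0, 1, 2, 3, 17, 9, 19, 14, 20, 8, 23, 16, 5, 4, 22, 18, 21, 6, 7, 13, 12, 10, 15, 11],
  [0, 1, 2, 3, 21, 22, 12, 13, 14, 10, 18, 4, 20, 19, 9, 17, 23, 11, 8, 5, 16, 15, 7, 6],
  [0, 1, 2, 3, 18, 17, 22, 21, 7, 6, 13, 11, 20, 19, 14, 12, 4, 23, 16, 10, 15, 8, 9, 5],
  [0, 1, 2, 3, 8, 18, 17, 15, 9, 23, 19, 14, 16, 10, 13, 6, 22, 20, 12, 11, 7, 4, 5, 21],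
  [0, 1, 2, 3, 15, 14, 13, 8, 12, 18, 16, 20, 19, 11, 5, 10, 4, 23, 22, 7, 6, 9, 21, 17],
  [0, 1, 2, 3, 9, 21, 10, 6, 15, 12, 11, 7, 22, 5, 20, 8, 19, 13, 14, 16, 23, 17, 4, 18],
  [0, 1, 2, 3, 11, 13, 17, 6, 4, 14, 22, 5, 9, 8, 21, 7, 12, 20, 19, 10, 15, 16, 23, 18],
  [0, 1, 2, 3, 4, 18, 22, 10, 23, 9, 12, 6, 7, 15, 13, 14, 17, 20, 19, 5, 16, 8, 11, 21],
  [0, 1, 2, 3, 16, 14, 20, 19, 7, 21, 15, 13, 8, 6, 5, 4, 10, 23, 9, 12, 11, 22, 18, 17],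
  [0, 1, 2, 3, 4, 14, 15, 10, 21, 8, 12, 19, 7, 22, 17, 18, 13, 5, 6, 20, 11, 9, 16, 23],
  [0, 1, 2, 3, 21, 22, 15, 20, 4, 8, 13, 19, 18, 14, 11, 7, 12, 6, 5, 10, 17, 23, 16, 9],
  [0, 1, 2, 3, 8, 9, 20, 19, 14, 13, 16, 18, 15, 10, 6, 23, 5, 11, 7, 17, 4, 12, 21, 22],
  [0, 1, 2, 3, 4, 8, 17, 10, 11, 14, 12, 5, 7, 13, 15, 9, 22, 19, 20, 6, 21, 18, 23, 16],
  [0, 1, 2, 3, 4, 19, 11, 12, 21, 9, 7, 22, 10, 14, 15, 13, 20, 16, 5, 18, 17, 23, 6, 8],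
  [0, 1, 2, 3, 4, 6, 16, 12, 23, 8, 7, 15, 10, 18, 22, 17, 5, 11, 20, 14, 13, 21, 19, 9],
  [0, 1, 2, 3, 4, 20, 23, 12, 16, 14, 7, 17, 10, 9, 13, 15, 19, 21, 6, 8, 22, 11, 5, 18],
  [0, 1, 2, 3, 4, 13, 14, 12, 8, 23, 7, 5, 10, 11, 20, 19, 15, 18, 22, 16, 6, 9, 17, 21],
  [0, 1, 2, 3, 4, 17, 18, 12, 9, 21, 7, 20, 10, 16, 5, 6, 22, 14, 15, 11, 19, 8, 13, 23],
  [0, 1, 2, 3, 4, 15, 9, 12, 18, 11, 7, 6, 10, 23, 19, 20, 13, 8, 17, 21, 5, 14, 22, 16],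
  [0, 1, 2, 3, 4, 23, 20, 12, 6, 13, 7, 18, 10, 15, 14, 9, 11, 5, 16, 22, 8, 19, 21, 17],
  [0, 1, 2, 3, 4, 21, 5, 12, 19, 17, 7, 14, 10, 22, 18, 8, 16, 20, 11, 15, 9, 6, 23, 13],
  [0, 1, 2, 3, 4, 11, 19, 12, 5, 15, 7, 8, 10, 13, 9, 14, 23, 6, 21, 17, 18, 20, 16, 22],
  [0, 1, 2, 3, 4, 22, 17, 7, 21, 23, 10, 14, 12, 19, 11, 20, 18, 6, 16, 13, 15, 8, 5, 9],
  [0, 1, 2, 3, 4, 16, 21, 7, 17, 13, 10, 20, 12, 9, 15, 14, 5, 8, 22, 23, 11, 6, 18, 19],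
  [0, 1, 2, 3, 4, 9, 14, 7, 20, 5, 10, 17, 12, 16, 6, 21, 13, 11, 19, 18, 8, 15, 23, 22],
  [0, 1, 2, 3, 4, 11, 20, 10, 8, 21, 12, 13, 7, 5, 6, 16, 19, 22, 17, 15, 14, 23, 18, 9],
  [0, 1, 2, 3, 4, 5, 21, 12, 11, 18, 7, 13, 10, 8, 17, 22, 6, 23, 19, 9, 15, 16, 20, 14],
  [0, 1, 2, 3, 4, 5, 16, 10, 13, 19, 12, 8, 7, 11, 23, 20, 21, 14, 9, 18, 22, 6, 15, 17]
]

theorem m22sTabs_eq :
    runSLP m22sProg [idT, m22sY, compT m22sH (compT m22sY (invT m22sH))] = m22sTabs := by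
  decide +kernel

/-- Base point, orbit, node numbers of the transversal, for each level. -/
def m22sSpecs : List (ℕ × List ℕ × List ℕ) := [
  (2, [2, 3, 4, 5, 6, 7, 8, 9, 10, 11, 12, 13, 14, 15, 16, 17, 18, 19, 20, 21, 22, 23],
    [0, 11, 2, 21, 1, 15, 5, 14, 13, 19, 12, 3, 7, 8, 10, 4, 18, 9, 16, 17, 20, 6]),
  (3, [3, 4, 5, 6, 7, 8, 9, 10, 11, 12, 13, 14, 15, 16, 17, 18, 19, 20, 21, 22, 23],
    [0, 35, 36, 30, 25, 29, 43, 34, 37, 40, 41, 26, 42, 39, 27, 24, 32, 28, 38, 33, 31]),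
  (4, [4, 5, 6, 7, 8, 9, 10, 11, 12, 13, 14, 15, 16, 17, 18, 19, 20, 21, 22, 23],
    [0, 47, 52, 55, 62, 64, 53, 54, 50, 46, 58, 63, 49, 59, 61, 48, 56, 60, 51, 57]),
  (5, [5, 6, 8, 9, 11, 13, 14, 15, 16, 17, 18, 19, 20, 21, 22, 23],
    [0, 73, 71, 83, 80, 75, 68, 77, 82, 76, 66, 72, 74, 79, 81, 78]),
  (7, [7, 10, 12],
    [0, 86, 85])
]

/-- The levels of the chain. -/
def m22sLevels : List Level := m22sSpecs.map (mkLevel m22sTabs)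

theorem m22sLevels_mem : ∀ L ∈ m22sLevels, ∀ l ∈ L.T, l ∈ m22sTabs := by
  intro L hL l hl
  rw [m22sLevels, List.mem_map] at hL
  obtain ⟨s, _, rfl⟩ := hL
  exact mkLevel_T_mem _ _ l hl

theorem tabled_m22sY : Tabled (fixG M24 [1, 0]) m22sY := by
  rw [← m22sY_eq]
  exact ((tabled_prodIdx (fun l hl => (tabled_m24Tabs l hl).mono genGroup_le_M24) _).pow _).fixG
    (by decide +kernel) (by decide)

theorem tabled_m22sH : Tabled (fixG M24 [1, 0]) m22sH := by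
  rw [← m22sH_eq]
  exact (tabled_prodIdx (fun l hl => (tabled_m24Tabs l hl).mono genGroup_le_M24) _).fixG
    (by decide +kernel) (by decide)

/-- The stabiliser of two points in `M24` is simple. -/
theorem m22_simple : IsSimpleGroup (fixG M24 [1, 0]) := by
  have h1 : baseRev m24Levels 2 ++ [] = [1, 0] := by decide +kernel
  have hB := bounds_drop 2 m24_bounds
  have hok := chainOK_drop (F := []) 2 m24_chainOK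
  rw [h1] at hB hok
  have hmask : ∀ i < 24, (16777212 : ℕ).testBit i = ((16777215 : ℕ).testBit i && !(List.contains [1, 0] i)) := by
    decide
  exact simple_of_sylow_cert (Ls := m24Levels.drop 2)
    (fun L hL l hl => tabled_m24Levels L (List.mem_of_mem_drop hL) l hl) hok hB (by decide)
    (p := 11) (m := 40320) (by norm_num) (by rw [card_fixG_m24_2]) (by norm_num)
    tabled_m22sY tabled_m22sH (by decide +kernel) (by decide +kernel)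
    m22sTabs_eq m22sLevels_mem (by decide +kernel) (by decide +kernel)
    16777212 (diff_mask_inv M24 [1, 0] 16777215 16777212 (fun g _ => full_mask_inv g) hmask)
    (by decide +kernel) (by decide) (by decide +kernel)
    (diff_mask_faithful M24 [1, 0] 16777215 16777212 hmask (full_mask_faithful M24))
    (by decide +kernel)

end Cfsg.Agent.Helper7
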