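import Cfsg.Agent.Helper7.Code

/-!
# Counting code words by weight (and further mask-computable properties)
-/

set_option autoImplicit false

namespace Cfsg.Agent.Helper7

open Cfsg

/-- The support of the `m`-th code word. -/
def suppEnc (m : ℕ) : Finset GolayPt := support₂ (word (enc m))

theorem suppEnc_injOn : Set.InjOn suppEnc {m | m < 4096} := by
  intro m hm m' hm' h
  have h1 : word (enc m) = word (enc m') := support₂_injective h
  have h2 := word_inj (enc_lt hm) (enc_lt hm') h1
  rw [← enc_mod hm, ← enc_mod hm', h2]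

theorem mem_wordsOfWeight_iff (k : ℕ) (s : Finset GolayPt) :
    s ∈ wordsOfWeight (golayCode : Set V) k ↔ ∃ m, m < 4096 ∧ wt (enc m) = k ∧ s = suppEnc m := by
  constructor
  · rintro ⟨⟨w, hw, rfl⟩, hk⟩
    obtain ⟨m, hm, rfl⟩ := (mem_golayCode_iff w).mp hw
    rw [card_support₂_word] at hk
    exact ⟨m, hm, hk, rfl⟩
  · rintro ⟨m, hm, hk, rfl⟩
    refine ⟨⟨word (enc m), word_enc_mem m, rfl⟩, ?_⟩
    rw [suppEnc, card_support₂_word]
    exact hk

/-- Counting the members of `wordsOfWeight golayCode k` with a property `Q` that can be computed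
on masks by `P`. -/
theorem ncard_wordsOfWeight_filter (k : ℕ) (Q : Finset GolayPt → Prop) (P : ℕ → Bool)
    (hPQ : ∀ m, m < 4096 → (Q (suppEnc m) ↔ P (enc m) = true)) :
    {s | s ∈ wordsOfWeight (golayCode : Set V) k ∧ Q s}.ncard =
      ((List.range 4096).filter (fun m => Nat.beq (wt (enc m)) k && P (enc m))).length := by
  classical
  have hset : {s | s ∈ wordsOfWeight (golayCode : Set V) k ∧ Q s} =
      suppEnc '' (((List.range 4096).filter
        (fun m => Nat.beq (wt (enc m)) k && P (enc m))).toFinset : Set ℕ) := by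
    ext s
    simp only [Set.mem_ofPred_eq, Set.mem_image, Finset.mem_coe, List.mem_toFinset, List.mem_filter,
      List.mem_range, Bool.and_eq_true, mem_wordsOfWeight_iff]
    constructor
    · rintro ⟨⟨m, hm, hk, rfl⟩, hQ⟩
      exact ⟨m, ⟨hm, by rw [hk]; exact Nat.beq_refl k, (hPQ m hm).mp hQ⟩, rfl⟩
    · rintro ⟨m, ⟨hm, hk, hP⟩, rfl⟩
      exact ⟨⟨m, hm, Nat.eq_of_beq_eq_true hk, rfl⟩, (hPQ m hm).mpr hP⟩
  have hinj : Set.InjOn suppEnc (((List.range 4096).filter
      (fun m => Nat.beq (wt (enc m)) k && P (enc m))).toFinset : Set ℕ) := by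
    intro m hm m' hm' h
    simp only [Finset.mem_coe, List.mem_toFinset, List.mem_filter, List.mem_range] at hm hm'
    exact suppEnc_injOn hm.1 hm'.1 h
  rw [hset, hinj.ncard_image, Set.ncard_coe_finset, List.toFinset_card_of_nodup]
  exact List.Nodup.filter _ List.nodup_range

theorem ncard_wordsOfWeight (k : ℕ) :
    (wordsOfWeight (golayCode : Set V) k).ncard =
      ((List.range 4096).filter (fun m => Nat.beq (wt (enc m)) k)).length := by
  have := ncard_wordsOfWeight_filter k (fun _ => True) (fun _ => true) (fun _ _ => by simp)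
  simpa using this

theorem finite_wordsOfWeight (k : ℕ) : (wordsOfWeight (golayCode : Set V) k).Finite :=
  Set.toFinite _

theorem ncard_octads : octads.ncard = 759 := by
  rw [octads, ncard_wordsOfWeight]
  decide +kernel

theorem ncard_dodecads : dodecads.ncard = 2576 := by
  rw [dodecads, ncard_wordsOfWeight]
  decide +kernel

end Cfsg.Agent.Helper7
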