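import Cfsg.Agent.Helper7.M12Chain
import Cfsg.Agent.Helper7.M24Octad

/-!
# The pointwise stabiliser of an octad in `M24`: order 16 and exponent 2
-/

set_option autoImplicit false

namespace Cfsg.Agent.Helper7

open Cfsg
open scoped Pointwise

/-- Table-level check that a table fixes all points of a mask. -/
def fixesMask (S : ℕ) (l : List ℕ) : Bool :=
  (List.range 24).all (fun i => !S.testBit i || Nat.beq (l.getD i 0) i)

theorem fixesMask_iff {S : ℕ} {l : List ℕ} {g : Equiv.Perm GolayPt} (h : IsTable l g) :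
    fixesMask S l = true ↔ ∀ p, S.testBit (idx p) = true → g p = p := by
  rw [fixesMask, List.all_eq_true]
  constructor
  · intro hall p hp
    have := hall (idx p) (List.mem_range.mpr (idx_lt p))
    rw [hp] at this
    simp only [Bool.not_true, Bool.false_or] at this
    have h2 := Nat.eq_of_beq_eq_true this
    rw [h.apply, h2, pt_idx]
  · intro hp i hi
    rw [List.mem_range] at hi
    cases hS : S.testBit i with
    | false => simp
    | true =>
      have := hp (pt i) (by rw [idx_pt hi]; exact hS)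
      have h2 := h.2 (pt i)
      rw [this, idx_pt hi] at h2
      simp only [Bool.not_true, Bool.false_or]
      rw [← h2]
      exact Nat.beq_refl i

/-- The pointwise stabiliser in `H` of the points of a mask. -/
def ptFix (H : Subgroup (Equiv.Perm GolayPt)) (S : ℕ) : Subgroup (Equiv.Perm GolayPt) where
  carrier := {g | g ∈ H ∧ ∀ p, S.testBit (idx p) = true → g p = p}
  mul_mem' := by
    rintro g g' ⟨hg, hS⟩ ⟨hg', hS'⟩
    refine ⟨H.mul_mem hg hg', fun p hp => ?_⟩
    rw [Equiv.Perm.mul_apply, hS' p hp, hS p hp]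
  one_mem' := ⟨H.one_mem, fun _ _ => rfl⟩
  inv_mem' := by
    rintro g ⟨hg, hS⟩
    refine ⟨H.inv_mem hg, fun p hp => ?_⟩
    rw [Equiv.Perm.inv_eq_iff_eq, hS p hp]

/-- If a subgroup is described exactly by a duplicate-free list of tables, its order is the
length of the list. -/
theorem card_of_tables (K : Subgroup (Equiv.Perm GolayPt)) (tabs : List (List ℕ))
    (hnd : tabs.Nodup) (h1 : ∀ g ∈ K, ∃ l ∈ tabs, IsTable l g)
    (h2 : ∀ l ∈ tabs, ∃ g ∈ K, IsTable l g) : Nat.card K = tabs.length := by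
  classical
  choose f hf using h1
  choose g hg using h2
  have e : K ≃ {l // l ∈ tabs} :=
    { toFun := fun k => ⟨f k.1 k.2, (hf k.1 k.2).1⟩
      invFun := fun l => ⟨g l.1 l.2, (hg l.1 l.2).1⟩
      left_inv := by
        intro k
        apply Subtype.ext
        exact ((hg _ _).2).inj (hf k.1 k.2).2
      right_inv := by
        intro l
        apply Subtype.ext
        have h3 := (hf _ (hg l.1 l.2).1).2
        have h4 := (hg l.1 l.2).2
        show f (g l.1 l.2) (hg l.1 l.2).1 = l.1
        exact h3.eq_map.trans h4.eq_map.symm }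
  rw [Nat.card_congr e]
  have e2 : {l // l ∈ tabs} ≃ {l // l ∈ tabs.toFinset} :=
    Equiv.subtypeEquivRight (fun q => by simp)
  rw [Nat.card_congr e2, Nat.card_eq_fintype_card, Fintype.card_coe, List.toFinset_card_of_nodup hnd]

/-- The 16 tables of the elements fixing the standard octad pointwise. -/
def tabs16 : List (List ℕ) := (prodTables (m24Levels.drop 5)).filter (fixesMask m24O)

theorem tabs16_length : tabs16.length = 16 := by decide +kernel

theorem tabs16_nodup : tabs16.Nodup := by decide +kernel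

theorem tabs16_sq : tabs16.all (fun l => compT l l == idT) = true := by decide +kernel

theorem m24O_has5 : ∀ i ∈ [4, 3, 2, 1, 0], m24O.testBit i = true := by decide +kernel

theorem tabled_prodTables {H : Subgroup (Equiv.Perm GolayPt)} (Ls : List Level)
    (hT : ∀ L ∈ Ls, ∀ l ∈ L.T, Tabled H l) : ∀ l ∈ prodTables Ls, Tabled H l := by
  induction Ls with
  | nil =>
    intro l hl
    rw [prodTables, List.mem_singleton] at hl
    rw [hl]
    exact tabled_idT H
  | cons L Ls ih =>
    intro l hl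
    rw [prodTables, List.mem_flatMap] at hl
    obtain ⟨l1, hl1, hl⟩ := hl
    rw [List.mem_map] at hl
    obtain ⟨l2, hl2, rfl⟩ := hl
    exact (hT L (List.mem_cons_self ..) l1 hl1).mul
      (ih (fun L' hL' => hT L' (List.mem_cons_of_mem _ hL')) l2 hl2)

theorem ptFix_m24O_tables : ∀ g ∈ ptFix M24 m24O, ∃ l ∈ tabs16, IsTable l g := by
  intro g hg
  have h1 : g ∈ fixG M24 [4, 3, 2, 1, 0] := by
    refine ⟨hg.1, fun i hi => ?_⟩
    have hi5 : i < 24 := by
      simp only [List.mem_cons, List.not_mem_nil, or_false] at hi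
      omega
    exact hg.2 (pt i) (by rw [idx_pt hi5]; exact m24O_has5 i hi)
  obtain ⟨l, hl, hlt⟩ := m24_sift5 g h1
  refine ⟨l, ?_, hlt⟩
  rw [tabs16, List.mem_filter]
  exact ⟨hl, (fixesMask_iff hlt).mpr hg.2⟩

theorem tables_ptFix_m24O : ∀ l ∈ tabs16, ∃ g ∈ ptFix M24 m24O, IsTable l g := by
  intro l hl
  rw [tabs16, List.mem_filter] at hl
  obtain ⟨g, hg, hlt⟩ := tabled_prodTables (m24Levels.drop 5)
    (fun L hL l hl => tabled_m24Levels L (List.mem_of_mem_drop hL) l hl) l hl.1
  exact ⟨g, ⟨hg, (fixesMask_iff hlt).mp hl.2⟩, hlt⟩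

theorem card_ptFix_m24O : Nat.card (ptFix M24 m24O) = 16 := by
  rw [card_of_tables _ tabs16 tabs16_nodup ptFix_m24O_tables tables_ptFix_m24O, tabs16_length]

theorem sq_ptFix_m24O : ∀ g ∈ ptFix M24 m24O, g * g = 1 := by
  intro g hg
  obtain ⟨l, hl, hlt⟩ := ptFix_m24O_tables g hg
  have h := tabs16_sq
  rw [List.all_eq_true] at h
  have h1 : compT l l = idT := by simpa using h l hl
  have h2 := hlt.mul hlt
  rw [h1] at h2
  exact h2.inj isTable_one

/-- The standard octad. -/
def O0F : Finset GolayPt := support₂ (word m24O)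

theorem O0F_mem : O0F ∈ octads := by
  rw [mem_octads_iff]
  refine ⟨word m24O, (word_mem_golayCode_iff (by decide)).mpr (by decide +kernel), rfl, ?_⟩
  rw [O0F, card_support₂_word]
  decide +kernel

theorem inf_fixingSubgroup_eq (H : Subgroup (Equiv.Perm GolayPt)) (S : ℕ) :
    H ⊓ fixingSubgroup (Equiv.Perm GolayPt) ((support₂ (word S) : Finset GolayPt) : Set GolayPt)
      = ptFix H S := by
  ext g
  rw [Subgroup.mem_inf, mem_fixingSubgroup_iff]
  constructor
  · rintro ⟨h1, h2⟩
    exact ⟨h1, fun p hp => h2 p ((mem_support₂_word S p).mpr hp)⟩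
  · rintro ⟨h1, h2⟩
    exact ⟨h1, fun p hp => h2 p ((mem_support₂_word S p).mp hp)⟩

/-- Conjugation between pointwise stabilisers of a set and of its image. -/
def fixingConj {H : Subgroup (Equiv.Perm GolayPt)} {g : Equiv.Perm GolayPt} (hg : g ∈ H)
    (o : Finset GolayPt) :
    ↥(H ⊓ fixingSubgroup (Equiv.Perm GolayPt) ((g • o : Finset GolayPt) : Set GolayPt)) ≃*
      ↥(H ⊓ fixingSubgroup (Equiv.Perm GolayPt) (o : Set GolayPt)) where
  toFun k := ⟨g⁻¹ * k.1 * g, by
    refine Subgroup.mem_inf.mpr ⟨H.mul_mem (H.mul_mem (H.inv_mem hg) k.2.1) hg,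
      (mem_fixingSubgroup_iff _).mpr ?_⟩
    intro p hp
    have h1 : g p ∈ ((g • o : Finset GolayPt) : Set GolayPt) := by
      rw [Finset.mem_coe]
      exact Finset.smul_mem_smul_finset hp
    have h2 := (mem_fixingSubgroup_iff _).mp k.2.2 _ h1
    show (g⁻¹ * k.1 * g) p = p
    rw [Equiv.Perm.mul_apply, Equiv.Perm.mul_apply]
    have h3 : (k.1 : Equiv.Perm GolayPt) (g p) = g p := h2
    rw [h3]
    simp⟩
  invFun k := ⟨g * k.1 * g⁻¹, by
    refine Subgroup.mem_inf.mpr ⟨H.mul_mem (H.mul_mem hg k.2.1) (H.inv_mem hg),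
      (mem_fixingSubgroup_iff _).mpr ?_⟩
    intro p hp
    rw [Finset.mem_coe, Finset.mem_smul_finset] at hp
    obtain ⟨q, hq, rfl⟩ := hp
    have h2 := (mem_fixingSubgroup_iff _).mp k.2.2 q (Finset.mem_coe.mpr hq)
    show (g * k.1 * g⁻¹) (g q) = g q
    rw [Equiv.Perm.mul_apply, Equiv.Perm.mul_apply]
    have h3 : g⁻¹ (g q) = q := by simp
    have h4 : (k.1 : Equiv.Perm GolayPt) q = q := h2
    rw [h3, h4]⟩
  left_inv k := by
    apply Subtype.ext
    simp [mul_assoc]
  right_inv k := by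
    apply Subtype.ext
    simp [mul_assoc]
  map_mul' k k' := by
    apply Subtype.ext
    simp [mul_assoc]

/-- The pointwise stabiliser of any octad has order 16 and exponent 2. -/
theorem octad_fix_card_sq {o : Finset GolayPt} (ho : o ∈ octads) :
    Nat.card ↥(M24 ⊓ fixingSubgroup (Equiv.Perm GolayPt) (o : Set GolayPt)) = 16 ∧
      ∀ g ∈ M24 ⊓ fixingSubgroup (Equiv.Perm GolayPt) (o : Set GolayPt), g * g = 1 := by
  obtain ⟨g, hg, rfl⟩ := exists_smul_octad_eq O0F_mem ho
  have h0 : M24 ⊓ fixingSubgroup (Equiv.Perm GolayPt) (O0F : Set GolayPt) = ptFix M24 m24O :=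
    inf_fixingSubgroup_eq M24 m24O
  constructor
  · rw [Nat.card_congr (fixingConj hg O0F).toEquiv, h0]
    exact card_ptFix_m24O
  · intro k hk
    have h1 : g⁻¹ * k * g ∈ ptFix M24 m24O := by
      rw [← h0]
      exact (fixingConj hg O0F ⟨k, hk⟩).2
    have h2 := sq_ptFix_m24O _ h1
    have h3 : k * k = g * ((g⁻¹ * k * g) * (g⁻¹ * k * g)) * g⁻¹ := by simp [mul_assoc]
    rw [h3, h2]
    simp

end Cfsg.Agent.Helper7
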