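import Cfsg.Agent.Helper7.OctadFix

/-!
# Isomorphisms from a table-described subgroup to the units of a monoid, by a table of values
-/

set_option autoImplicit false

namespace Cfsg.Agent.Helper7

open Cfsg

/-- The table of a permutation. -/
def tableOf (g : Equiv.Perm GolayPt) : List ℕ := (List.range 24).map (fun i => idx (g (pt i)))

theorem isTable_tableOf (g : Equiv.Perm GolayPt) : IsTable (tableOf g) g := by
  refine ⟨by simp [tableOf], fun p => ?_⟩
  have hp : idx p < 24 := idx_lt p
  rw [tableOf, List.getD_eq_getElem _ _ (by simpa using hp), List.getElem_map,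
    List.getElem_range, pt_idx]

theorem IsTable.eq_tableOf {l : List ℕ} {g : Equiv.Perm GolayPt} (h : IsTable l g) :
    l = tableOf g := h.eq_map

/-- A subgroup described by a duplicate-free list of tables, with a multiplicative and injective
assignment of values in a monoid whose unit group has the same order, is isomorphic to that unit
group. -/
theorem nonempty_mulEquiv_units_of_table_values {M : Type*} [Monoid M] [Finite Mˣ]
    (G : Subgroup (Equiv.Perm GolayPt)) (tabs : List (List ℕ)) (hnd : tabs.Nodup)
    (h1 : ∀ g ∈ G, ∃ l ∈ tabs, IsTable l g) (h2 : ∀ l ∈ tabs, ∃ g ∈ G, IsTable l g)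
    (val : List ℕ → M) (hone : val idT = 1)
    (hmul : ∀ l ∈ tabs, ∀ l' ∈ tabs, val (compT l l') = val l * val l')
    (hinj : ∀ l ∈ tabs, ∀ l' ∈ tabs, val l = val l' → l = l')
    (hcard : Nat.card Mˣ = tabs.length) : Nonempty (G ≃* Mˣ) := by
  have hmem : ∀ g : G, tableOf g.1 ∈ tabs := by
    intro g
    obtain ⟨l, hl, hlt⟩ := h1 g.1 g.2
    rwa [← hlt.eq_tableOf]
  let f : G →* M :=
    { toFun := fun g => val (tableOf g.1)
      map_one' := by
        show val (tableOf 1) = 1
        rw [← isTable_one.eq_tableOf, hone]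
      map_mul' := by
        intro g g'
        show val (tableOf (g.1 * g'.1)) = val (tableOf g.1) * val (tableOf g'.1)
        rw [← hmul _ (hmem g) _ (hmem g'),
          ← ((isTable_tableOf g.1).mul (isTable_tableOf g'.1)).eq_tableOf] }
  have hfinj : Function.Injective f.toHomUnits := by
    intro g g' h
    have h3 : f g = f g' := by
      have := congrArg Units.val h
      simpa using this
    have h4 : tableOf g.1 = tableOf g'.1 := hinj _ (hmem g) _ (hmem g') h3
    apply Subtype.ext
    have h5 := isTable_tableOf g.1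
    rw [h4] at h5
    exact h5.inj (isTable_tableOf g'.1)
  have hcardG : Nat.card G = tabs.length := card_of_tables G tabs hnd h1 h2
  have hbij : Function.Bijective f.toHomUnits := by
    rw [Nat.bijective_iff_injective_and_card]
    exact ⟨hfinj, by rw [hcardG, hcard]⟩
  exact ⟨MulEquiv.ofBijective _ hbij⟩

/-- Variant for a group target: multiplicativity is only required against a list of generators,
provided all tables are given by a straight-line program in the generators. -/
theorem nonempty_mulEquiv_of_slp {M : Type*} [Group M] [Finite M]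
    (G : Subgroup (Equiv.Perm GolayPt)) (tabs : List (List ℕ)) (hnd : tabs.Nodup)
    (h1 : ∀ g ∈ G, ∃ l ∈ tabs, IsTable l g) (h2 : ∀ l ∈ tabs, ∃ g ∈ G, IsTable l g)
    (gens : List (List ℕ)) (hgens : ∀ s ∈ gens, s ∈ tabs)
    (prog : List Op) (hprog : ∀ l ∈ tabs, l ∈ runSLP prog (idT :: gens))
    (val : List ℕ → M) (hone : val idT = 1)
    (hmul : ∀ l ∈ tabs, ∀ s ∈ gens, val (compT l s) = val l * val s)
    (hker : ∀ l ∈ tabs, val l = 1 → l = idT)
    (hcard : Nat.card M = tabs.length) : Nonempty (G ≃* M) := by
  have hmem : ∀ g : G, tableOf g.1 ∈ tabs := by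
    intro g
    obtain ⟨l, hl, hlt⟩ := h1 g.1 g.2
    rwa [← hlt.eq_tableOf]
  let f : G → M := fun g => val (tableOf g.1)
  have hf1 : f 1 = 1 := by
    show val (tableOf 1) = 1
    rw [← isTable_one.eq_tableOf, hone]
  -- the subgroup of elements on which `f` is right-multiplicative
  let T : Subgroup G :=
    { carrier := {h | ∀ g : G, f (g * h) = f g * f h}
      mul_mem' := by
        intro h h' hh hh' g
        show f (g * (h * h')) = f g * f (h * h')
        rw [← mul_assoc, hh' (g * h), hh g, hh' h, mul_assoc]
      one_mem' := by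
        intro g
        show f (g * 1) = f g * f 1
        rw [mul_one, hf1, mul_one]
      inv_mem' := by
        intro h hh g
        show f (g * h⁻¹) = f g * f h⁻¹
        have e1 := hh (g * h⁻¹)
        rw [inv_mul_cancel_right] at e1
        have e2 := hh h⁻¹
        rw [inv_mul_cancel, hf1] at e2
        have e3 : f h⁻¹ = (f h)⁻¹ := eq_inv_of_mul_eq_one_left e2.symm
        rw [e3, e1, mul_inv_cancel_right] }
  have hT : ∀ l ∈ runSLP prog (idT :: gens), Tabled (T.map G.subtype) l := by
    apply tabled_runSLP
    intro l hl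
    rw [List.mem_cons] at hl
    rcases hl with rfl | hl
    · exact tabled_idT _
    · obtain ⟨h, hh, hlt⟩ := h2 l (hgens l hl)
      refine ⟨h, ⟨⟨h, hh⟩, ?_, rfl⟩, hlt⟩
      intro g
      show val (tableOf (g.1 * h)) = val (tableOf g.1) * val (tableOf h)
      rw [← hlt.eq_tableOf, ← hmul _ (hmem g) _ hl,
        ← ((isTable_tableOf g.1).mul hlt).eq_tableOf]
  have hTtop : ∀ h : G, h ∈ T := by
    intro h
    obtain ⟨h', ⟨h'', hh'', rfl⟩, hlt⟩ := hT _ (hprog _ (hmem h))
    have : h''.1 = h.1 := hlt.inj (isTable_tableOf h.1)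
    have : h'' = h := Subtype.ext this
    rwa [← this]
  let F : G →* M := MonoidHom.mk' f (fun g h => hTtop h g)
  have hFinj : Function.Injective F := by
    rw [injective_iff_map_eq_one]
    intro g h
    have h4 : tableOf g.1 = idT := hker _ (hmem g) h
    apply Subtype.ext
    have h5 := isTable_tableOf g.1
    rw [h4] at h5
    exact h5.inj isTable_one
  have hcardG : Nat.card G = tabs.length := card_of_tables G tabs hnd h1 h2
  have hbij : Function.Bijective F := by
    rw [Nat.bijective_iff_injective_and_card]
    exact ⟨hFinj, by rw [hcardG, hcard]⟩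
  exact ⟨MulEquiv.ofBijective F hbij⟩

/-- A homomorphism from a table-described subgroup to a group, from a table of values that is
right-multiplicative against a list of generators. -/
theorem exists_monoidHom_of_slp {M : Type*} [Group M]
    (G : Subgroup (Equiv.Perm GolayPt)) (tabs : List (List ℕ))
    (h1 : ∀ g ∈ G, ∃ l ∈ tabs, IsTable l g)
    (gens : List (List ℕ)) (hgens : ∀ s ∈ gens, Tabled G s)
    (prog : List Op) (hprog : ∀ l ∈ tabs, l ∈ runSLP prog (idT :: gens))
    (val : List ℕ → M) (hone : val idT = 1)
    (hmul : ∀ l ∈ tabs, ∀ s ∈ gens, val (compT l s) = val l * val s) :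
    ∃ F : G →* M, ∀ g : G, F g = val (tableOf g.1) := by
  have hmem : ∀ g : G, tableOf g.1 ∈ tabs := by
    intro g
    obtain ⟨l, hl, hlt⟩ := h1 g.1 g.2
    rwa [← hlt.eq_tableOf]
  let f : G → M := fun g => val (tableOf g.1)
  have hf1 : f 1 = 1 := by
    show val (tableOf 1) = 1
    rw [← isTable_one.eq_tableOf, hone]
  let T : Subgroup G :=
    { carrier := {h | ∀ g : G, f (g * h) = f g * f h}
      mul_mem' := by
        intro h h' hh hh' g
        show f (g * (h * h')) = f g * f (h * h')
        rw [← mul_assoc, hh' (g * h), hh g, hh' h, mul_assoc]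
      one_mem' := by
        intro g
        show f (g * 1) = f g * f 1
        rw [mul_one, hf1, mul_one]
      inv_mem' := by
        intro h hh g
        show f (g * h⁻¹) = f g * f h⁻¹
        have e1 := hh (g * h⁻¹)
        rw [inv_mul_cancel_right] at e1
        have e2 := hh h⁻¹
        rw [inv_mul_cancel, hf1] at e2
        have e3 : f h⁻¹ = (f h)⁻¹ := eq_inv_of_mul_eq_one_left e2.symm
        rw [e3, e1, mul_inv_cancel_right] }
  have hT : ∀ l ∈ runSLP prog (idT :: gens), Tabled (T.map G.subtype) l := by
    apply tabled_runSLP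
    intro l hl
    rw [List.mem_cons] at hl
    rcases hl with rfl | hl
    · exact tabled_idT _
    · obtain ⟨h, hh, hlt⟩ := hgens l hl
      refine ⟨h, ⟨⟨h, hh⟩, ?_, rfl⟩, hlt⟩
      intro g
      show val (tableOf (g.1 * h)) = val (tableOf g.1) * val (tableOf h)
      rw [← hlt.eq_tableOf, ← hmul _ (hmem g) _ hl,
        ← ((isTable_tableOf g.1).mul hlt).eq_tableOf]
  have hTtop : ∀ h : G, h ∈ T := by
    intro h
    obtain ⟨h', ⟨h'', hh'', rfl⟩, hlt⟩ := hT _ (hprog _ (hmem h))
    have : h''.1 = h.1 := hlt.inj (isTable_tableOf h.1)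
    have : h'' = h := Subtype.ext this
    rwa [← this]
  exact ⟨MonoidHom.mk' f (fun g h => hTtop h g), fun g => rfl⟩

/-- If every element of a subgroup has its table in a list whose length is the order of the
subgroup, then the list has no duplicates and consists of tables of elements of the subgroup. -/
theorem nodup_and_tabled_of_card (G : Subgroup (Equiv.Perm GolayPt)) (tabs : List (List ℕ))
    (h1 : ∀ g ∈ G, ∃ l ∈ tabs, IsTable l g) (hcard : Nat.card G = tabs.length) :
    tabs.Nodup ∧ ∀ l ∈ tabs, ∃ g ∈ G, IsTable l g := by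
  classical
  have hmem : ∀ g : G, tableOf g.1 ∈ tabs := by
    intro g
    obtain ⟨l, hl, hlt⟩ := h1 g.1 g.2
    rwa [← hlt.eq_tableOf]
  let τ : G → tabs.toFinset := fun g => ⟨tableOf g.1, List.mem_toFinset.mpr (hmem g)⟩
  have hinj : Function.Injective τ := by
    intro g g' h
    have h4 : tableOf g.1 = tableOf g'.1 := congrArg Subtype.val h
    apply Subtype.ext
    have h5 := isTable_tableOf g.1
    rw [h4] at h5
    exact h5.inj (isTable_tableOf g'.1)
  have hc : Nat.card tabs.toFinset = tabs.toFinset.card := by
    rw [Nat.card_eq_fintype_card, Fintype.card_coe]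
  have hle : Nat.card G ≤ Nat.card tabs.toFinset := Nat.card_le_card_of_injective τ hinj
  have hle2 : tabs.toFinset.card ≤ tabs.length := List.toFinset_card_le tabs
  have heq : tabs.toFinset.card = tabs.length := by omega
  have hnd : tabs.Nodup := Multiset.toFinset_card_eq_card_iff_nodup.mp heq
  refine ⟨hnd, fun l hl => ?_⟩
  have hbij : Function.Bijective τ := by
    rw [Nat.bijective_iff_injective_and_card]
    exact ⟨hinj, by rw [hc, heq, hcard]⟩
  obtain ⟨g, hg⟩ := hbij.2 ⟨l, List.mem_toFinset.mpr hl⟩
  refine ⟨g.1, g.2, ?_⟩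
  have : tableOf g.1 = l := congrArg Subtype.val hg
  rw [← this]
  exact isTable_tableOf g.1

/-- Lookup in an association list of tables. -/
def lookupT {α : Type*} (dflt : α) : List (List ℕ × α) → List ℕ → α
  | [], _ => dflt
  | (l, a) :: rest, x => if l == x then a else lookupT dflt rest x

theorem lookupT_eq_of_mem {α : Type*} (dflt : α) (L : List (List ℕ × α))
    (hnd : (L.map Prod.fst).Nodup) {l : List ℕ} {a : α} (h : (l, a) ∈ L) :
    lookupT dflt L l = a := by
  induction L with
  | nil => simp at h
  | cons e rest ih =>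
    obtain ⟨l0, a0⟩ := e
    rw [List.map_cons, List.nodup_cons] at hnd
    rw [lookupT]
    rw [List.mem_cons] at h
    rcases h with h | h
    · rw [Prod.mk.injEq] at h
      obtain ⟨rfl, rfl⟩ := h
      simp
    · have hne : l0 ≠ l := by
        rintro rfl
        exact hnd.1 (List.mem_map.mpr ⟨(l0, a), h, rfl⟩)
      have : (l0 == l) = false := by simpa using hne
      rw [this]
      exact ih hnd.2 h

end Cfsg.Agent.Helper7
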