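import Cfsg.Agent.Helper7.M11OutData

/-!
# The outer automorphism group of `M11` is trivial
-/

set_option autoImplicit false

namespace Cfsg.Agent.Helper7

open Cfsg MulAction
open scoped Pointwise

/-- If `G` is generated by `a` and `b`, every image of `a` under an automorphism is conjugate to `a`,
and every image of `b` under an automorphism fixing `a` is conjugate to `b` under the centraliser of
`a`, then all automorphisms of `G` are inner. -/
theorem inn_eq_top_of_gens {G : Type*} [Group G] (a b : G)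
    (hgen : Subgroup.closure ({a, b} : Set G) = ⊤)
    (h1 : ∀ φ : MulAut G, ∃ c : G, c * φ a * c⁻¹ = a)
    (h2 : ∀ φ : MulAut G, φ a = a → ∃ c : G, c * a * c⁻¹ = a ∧ c * b * c⁻¹ = φ b) :
    Cfsg.Inn G = ⊤ := by
  rw [eq_top_iff]
  intro φ _
  obtain ⟨c, hc⟩ := h1 φ
  have hφ1 : (MulAut.conj c * φ) a = a := by
    rw [MulAut.mul_apply, MulAut.conj_apply]
    exact hc
  obtain ⟨c', hc'a, hc'b⟩ := h2 (MulAut.conj c * φ) hφ1
  have key : ∀ x : G, (MulAut.conj c'⁻¹ * (MulAut.conj c * φ)) x = x := by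
    have hEq : Set.EqOn ((MulAut.conj c'⁻¹ * (MulAut.conj c * φ) : MulAut G) : G →* G)
        (MonoidHom.id G) (Subgroup.closure ({a, b} : Set G)) := by
      apply MonoidHom.eqOn_closure
      intro x hx
      rcases hx with hxa | hxb
      · rw [hxa]
        show (MulAut.conj c'⁻¹ * (MulAut.conj c * φ)) a = a
        rw [MulAut.mul_apply, hφ1, MulAut.conj_apply, inv_inv]
        calc c'⁻¹ * a * c' = c'⁻¹ * (c' * a * c'⁻¹) * c' := by rw [hc'a]
          _ = a := by group
      · have hxb' : x = b := hxb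
        rw [hxb']
        show (MulAut.conj c'⁻¹ * (MulAut.conj c * φ)) b = b
        rw [MulAut.mul_apply, ← hc'b, MulAut.conj_apply, inv_inv]
        group
    intro x
    exact hEq (by rw [hgen]; trivial)
  have hφ : φ = MulAut.conj (c⁻¹ * c') := by
    ext x
    have := key (φ⁻¹ x)
    rw [MulAut.mul_apply, MulAut.mul_apply, MulAut.apply_inv_self, MulAut.conj_apply,
      MulAut.conj_apply] at this
    rw [MulAut.conj_apply]
    have e : φ⁻¹ x = c'⁻¹ * (c * x * c⁻¹) * c'⁻¹⁻¹ := this.symm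
    have e2 : x = φ (c'⁻¹ * (c * x * c⁻¹) * c'⁻¹⁻¹) := by
      rw [← e, MulAut.apply_inv_self]
    -- use `key` directly on `x`
    have k2 := key x
    rw [MulAut.mul_apply, MulAut.mul_apply, MulAut.conj_apply, MulAut.conj_apply] at k2
    -- k2 : c'⁻¹ * (c * φ x * c⁻¹) * c'⁻¹⁻¹ = x
    calc φ x = c⁻¹ * c' * (c'⁻¹ * (c * φ x * c⁻¹) * c'⁻¹⁻¹) * (c⁻¹ * c')⁻¹ := by group
      _ = c⁻¹ * c' * x * (c⁻¹ * c')⁻¹ := by rw [k2]
  rw [hφ]
  exact ⟨c⁻¹ * c', rfl⟩

/-- The relations used to pin down the second generator. -/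
def Rel11 {G : Type*} [Group G] (x y : G) : Prop :=
  (y * y) * (y * y) = 1 ∧ y * y ≠ 1 ∧ (x * y) ^ 11 = 1 ∧
    (x * (y * (x * ((y * y) * (x * y⁻¹))))) ^ 3 = 1

theorem rel11_map_iff {G H : Type*} [Group G] [Group H] (f : G →* H) (hf : Function.Injective f)
    (x y : G) : Rel11 (f x) (f y) ↔ Rel11 x y := by
  unfold Rel11
  rw [← map_mul, ← map_mul, ← map_inv, ← map_mul, ← map_mul, ← map_mul, ← map_mul, ← map_mul,
    ← map_mul, ← map_pow, ← map_pow]
  constructor
  · rintro ⟨h1, h2, h3, h4⟩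
    refine ⟨hf (by rw [h1, map_one]), fun e => h2 (by rw [e, map_one]), hf (by rw [h3, map_one]),
      hf (by rw [h4, map_one])⟩
  · rintro ⟨h1, h2, h3, h4⟩
    refine ⟨by rw [h1, map_one], fun e => h2 (hf (by rw [e, map_one])), by rw [h3, map_one],
      by rw [h4, map_one]⟩

theorem IsTable.eq_idT_iff {l : List ℕ} {g : Equiv.Perm GolayPt} (h : IsTable l g) :
    l = idT ↔ g = 1 := by
  constructor
  · intro e
    rw [e] at h
    exact h.inj isTable_one
  · intro e
    rw [e] at h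
    rw [h.eq_tableOf, ← isTable_one.eq_tableOf]

theorem o11Cond_iff {l : List ℕ} {x y : Equiv.Perm GolayPt} (hx : IsTable invT0 x)
    (hy : IsTable l y) : o11Cond l = true ↔ Rel11 x y := by
  have t1 := (hy.mul hy).mul (hy.mul hy)
  have t2 := hy.mul hy
  have t3 := (hx.mul hy).pow 11
  have t4 := (hx.mul (hy.mul (hx.mul ((hy.mul hy).mul (hx.mul hy.inv))))).pow 3
  unfold o11Cond Rel11
  rw [Bool.and_eq_true, Bool.and_eq_true, Bool.and_eq_true, beq_iff_eq, beq_iff_eq, beq_iff_eq,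
    Bool.not_eq_true', beq_eq_false_iff_ne, t1.eq_idT_iff, t3.eq_idT_iff, t4.eq_idT_iff, Ne,
    t2.eq_idT_iff]
  tauto

theorem baseRev_m12_one : baseRev m12Levels 1 ++ [] = [0] := by decide +kernel

/-- All automorphisms of the stabiliser of the standard dodecad and the point `0` are inner. -/
theorem inn_fixG_m12_eq_top : Cfsg.Inn ↥(fixG M12 [0]) = ⊤ := by
  obtain ⟨ga, hga, hta⟩ := tabled_m11Tabs invT0 (by simpa using invT0_mem)
  obtain ⟨gb, hgb, htb⟩ := tabled_m11Tabs o11B (by simpa using o11B_mem)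
  have hrel : Rel11 ga gb := (o11Cond_iff hta htb).mp o11B_cond
  have haa : ga * ga = 1 := by
    have h := hta.mul hta
    have e : compT invT0 invT0 = idT := by decide +kernel
    rw [e] at h
    exact h.inj isTable_one
  have ha1 : ga ≠ 1 := by
    intro e
    rw [e] at hta
    have : invT0 = idT := by rw [hta.eq_tableOf, ← isTable_one.eq_tableOf]
    revert this
    decide +kernel
  apply inn_eq_top_of_gens (⟨ga, hga⟩ : ↥(fixG M12 [0])) ⟨gb, hgb⟩
  · -- generation
    set K : Subgroup (Equiv.Perm GolayPt) :=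
      (Subgroup.closure ({⟨ga, hga⟩, ⟨gb, hgb⟩} : Set ↥(fixG M12 [0]))).map (fixG M12 [0]).subtype
      with hKdef
    have hKa : Tabled K invT0 :=
      ⟨ga, ⟨⟨ga, hga⟩, Subgroup.subset_closure (by simp), rfl⟩, hta⟩
    have hKb : Tabled K o11B :=
      ⟨gb, ⟨⟨gb, hgb⟩, Subgroup.subset_closure (by simp), rfl⟩, htb⟩
    have hK : ∀ l ∈ o11Out, Tabled K l := by
      rw [← o11Out_eq]
      apply tabled_runSLP
      intro l hl
      simp only [List.mem_cons, List.not_mem_nil, or_false] at hl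
      rcases hl with rfl | rfl | rfl
      · exact tabled_idT _
      · exact hKa
      · exact hKb
    have hok := chainOK_drop (F := []) 1 m12_chainOK
    have hB := bounds_drop (F := []) 1 m12_bounds
    rw [baseRev_m12_one] at hok hB
    have hle : fixG M12 [0] ≤ K := by
      apply chain_le (H := M12) (F := [0]) (Ls := m12Levels.drop 1)
        (fun L hL l hl => tabled_m12Levels L (List.mem_of_mem_drop hL) l hl) hok hB
      intro L hL l hl
      have h := o11_trans
      rw [List.all_eq_true] at h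
      have h2 := h L hL
      rw [List.all_eq_true] at h2
      exact hK l (by simpa using h2 l hl)
    rw [eq_top_iff]
    intro x _
    obtain ⟨y, hy, hyx⟩ := hle x.2
    have : y = x := Subtype.ext hyx
    rwa [← this]
  · -- images of the involution
    intro φ
    have hy2 : (φ ⟨ga, hga⟩).1 * (φ ⟨ga, hga⟩).1 = 1 := by
      have : φ ⟨ga, hga⟩ * φ ⟨ga, hga⟩ = 1 := by
        rw [← map_mul]
        have : (⟨ga, hga⟩ : ↥(fixG M12 [0])) * ⟨ga, hga⟩ = 1 := Subtype.ext haa
        rw [this, map_one]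
      exact congrArg Subtype.val this
    have hy1 : (φ ⟨ga, hga⟩).1 ≠ 1 := by
      intro e
      have : φ ⟨ga, hga⟩ = 1 := Subtype.ext e
      have h1 : (⟨ga, hga⟩ : ↥(fixG M12 [0])) = 1 := by
        rw [← map_one φ] at this
        exact φ.injective this
      exact ha1 (congrArg Subtype.val h1)
    obtain ⟨c, hc, hct⟩ := invol_conj (φ ⟨ga, hga⟩).2 hy2 hy1
    refine ⟨⟨c, hc⟩, Subtype.ext ?_⟩
    exact hct.inj hta
  · -- images of the second generator
    intro φ hφa
    obtain ⟨l, hl, hlt⟩ := m11_sift (φ ⟨gb, hgb⟩).1 (φ ⟨gb, hgb⟩).2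
    have hrel' : Rel11 ga (φ ⟨gb, hgb⟩).1 := by
      have h1 : Rel11 (⟨ga, hga⟩ : ↥(fixG M12 [0])) ⟨gb, hgb⟩ :=
        (rel11_map_iff (fixG M12 [0]).subtype (fixG M12 [0]).subtype_injective _ _).mp hrel
      have h2 : Rel11 (φ ⟨ga, hga⟩) (φ ⟨gb, hgb⟩) :=
        (rel11_map_iff (φ : ↥(fixG M12 [0]) ≃* ↥(fixG M12 [0])).toMonoidHom φ.injective _ _).mpr h1
      rw [hφa] at h2
      exact (rel11_map_iff (fixG M12 [0]).subtype (fixG M12 [0]).subtype_injective _ _).mpr h2
    have hcond := (o11Cond_iff hta hlt).mpr hrel'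
    have hm := o11_main
    rw [List.all_eq_true] at hm
    have h3 := hm l hl
    rw [hcond] at h3
    have h4 : l ∈ o11Conj := by simpa using h3
    rw [← o11Conj_eq, List.mem_map] at h4
    obtain ⟨c, hc, hcl⟩ := h4
    rw [← c48Tabs_eq, List.mem_filter] at hc
    obtain ⟨gc, hgc, hgct⟩ := tabled_m11Tabs c hc.1
    have hcomm : gc * ga = ga * gc := by
      have e : compT c invT0 = compT invT0 c := by simpa using hc.2
      have e1 := hgct.mul hta
      rw [e] at e1
      exact e1.inj (hta.mul hgct)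
    refine ⟨⟨gc, hgc⟩, Subtype.ext ?_, Subtype.ext ?_⟩
    · show gc * ga * gc⁻¹ = ga
      rw [hcomm]
      group
    · show gc * gb * gc⁻¹ = (φ ⟨gb, hgb⟩).1
      have e1 := hgct.mul (htb.mul hgct.inv)
      rw [hcl] at e1
      rw [mul_assoc]
      exact e1.inj hlt

theorem squareDodecad_eq : Spor.squareDodecad = d0F := by
  rw [Spor.squareDodecad, qrWord_eq]
  rfl

theorem sporM11_eq : Spor.M11 = fixG M12 [0] := by
  ext g
  rw [Spor.M11, Spor.M12, Subgroup.mem_inf, Subgroup.mem_inf, mem_stabilizer_iff,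
    mem_stabilizer_iff, squareDodecad_eq, mem_fixG, mem_M12_iff]
  constructor
  · rintro ⟨⟨h1, h2⟩, h3⟩
    refine ⟨⟨h1, h2⟩, fun i hi => ?_⟩
    rw [List.mem_singleton] at hi
    subst hi
    exact h3
  · rintro ⟨⟨h1, h2⟩, h3⟩
    exact ⟨⟨h1, h2⟩, h3 0 (by simp)⟩

/-- The outer automorphism group of `M11` is trivial. -/
theorem card_out_M11 : Nat.card (Cfsg.Out ↥Spor.M11) = 1 := by
  rw [sporM11_eq]
  show (Cfsg.Inn ↥(fixG M12 [0])).index = 1
  rw [inn_fixG_m12_eq_top, Subgroup.index_top]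

end Cfsg.Agent.Helper7
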