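import Cfsg.Agent.Helper7.Octad

/-!
# Setwise stabilisers of masks
-/

set_option autoImplicit false

namespace Cfsg.Agent.Helper7

open Cfsg

/-- The subgroup of `H` stabilising (setwise) the set of points given by the mask `S`. -/
def setStab (H : Subgroup (Equiv.Perm GolayPt)) (S : ℕ) : Subgroup (Equiv.Perm GolayPt) where
  carrier := {g | g ∈ H ∧ ∀ p, S.testBit (idx (g p)) = S.testBit (idx p)}
  mul_mem' := by
    rintro g g' ⟨hg, hS⟩ ⟨hg', hS'⟩
    refine ⟨H.mul_mem hg hg', fun p => ?_⟩
    rw [Equiv.Perm.mul_apply, hS, hS']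
  one_mem' := ⟨H.one_mem, fun _ => rfl⟩
  inv_mem' := by
    rintro g ⟨hg, hS⟩
    refine ⟨H.inv_mem hg, fun p => ?_⟩
    have := hS (g⁻¹ p)
    rw [← this]
    simp

theorem mem_setStab {H : Subgroup (Equiv.Perm GolayPt)} {S : ℕ} {g : Equiv.Perm GolayPt} :
    g ∈ setStab H S ↔ g ∈ H ∧ ∀ p, S.testBit (idx (g p)) = S.testBit (idx p) := Iff.rfl

theorem setStab_le (H : Subgroup (Equiv.Perm GolayPt)) (S : ℕ) : setStab H S ≤ H :=
  fun _ hg => hg.1

/-- Table-level check that a table stabilises a mask. -/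
def maskStable (S : ℕ) (l : List ℕ) : Bool :=
  (List.range 24).all (fun i => S.testBit (l.getD i 0) == S.testBit i)

theorem maskStable_iff {S : ℕ} {l : List ℕ} {g : Equiv.Perm GolayPt} (h : IsTable l g) :
    maskStable S l = true ↔ ∀ p, S.testBit (idx (g p)) = S.testBit (idx p) := by
  rw [maskStable, List.all_eq_true]
  constructor
  · intro hall p
    have := hall (idx p) (List.mem_range.mpr (idx_lt p))
    rw [← h.2 p] at this
    simpa using this
  · intro hp i hi
    rw [List.mem_range] at hi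
    have := hp (pt i)
    rw [h.2 (pt i), idx_pt hi] at this
    simpa using this

theorem Tabled.setStab {H : Subgroup (Equiv.Perm GolayPt)} {S : ℕ} {l : List ℕ}
    (h : Tabled H l) (hS : maskStable S l = true) : Tabled (setStab H S) l := by
  obtain ⟨g, hg, hl⟩ := h
  exact ⟨g, ⟨hg, (maskStable_iff hl).mp hS⟩, hl⟩

theorem setStab_mask_inv (H : Subgroup (Equiv.Perm GolayPt)) (S : ℕ) (F : List ℕ) :
    ∀ g ∈ fixG (setStab H S) F, ∀ p, S.testBit (idx p) = true → S.testBit (idx (g p)) = true := by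
  intro g hg p hp
  rw [hg.1.2 p]
  exact hp

theorem fixG_setStab_le (H : Subgroup (Equiv.Perm GolayPt)) (S : ℕ) (F : List ℕ) :
    fixG (setStab H S) F ≤ fixG H F := fun _ hg => ⟨hg.1.1, hg.2⟩

/-- If among the finitely many tables describing `fixG H F` only the identity stabilises `S`,
then the stabiliser of `F` in `setStab H S` is trivial. -/
theorem eq_one_of_tables {H : Subgroup (Equiv.Perm GolayPt)} {S : ℕ} {F : List ℕ}
    (tabs : List (List ℕ)) (hsift : ∀ g ∈ fixG H F, ∃ l ∈ tabs, IsTable l g)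
    (hchk : tabs.all (fun l => !maskStable S l || l == idT) = true) :
    ∀ g ∈ fixG (setStab H S) F, g = 1 := by
  intro g hg
  obtain ⟨l, hl, hlt⟩ := hsift g (fixG_setStab_le H S F hg)
  rw [List.all_eq_true] at hchk
  have h1 := hchk l hl
  rw [Bool.or_eq_true] at h1
  rcases h1 with h1 | h1
  · have := (maskStable_iff hlt).mpr hg.1.2
    rw [this] at h1
    simp at h1
  · have : l = idT := by simpa using h1
    rw [this] at hlt
    exact hlt.inj isTable_one

end Cfsg.Agent.Helper7
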