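import Cfsg.Agent.Helper7.M24Stab
import Cfsg.Agent.Helper7.SetStab

/-!
# The stabiliser chain of the stabiliser of a dodecad in `M24` (generated data + proofs)

The dodecad is the support of `qrWord 0` (the squares modulo 23, zero included); base `0,1,2,3,4`.
-/

set_option autoImplicit false

namespace Cfsg.Agent.Helper7

open Cfsg

/-- Mask of the standard dodecad: the squares modulo 23 (zero included). -/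
def d0 : ℕ := 340831

/-- The stabiliser of the standard dodecad in `M24`. -/
def M12 : Subgroup (Equiv.Perm GolayPt) := setStab M24 d0

/-- Chain of the dodecad stabiliser: the straight-line program (node 0 is the identity, nodes 1,2,3 the generators). -/
def m12Prog : List Op := [
  .mul 1 1, .mul 1 2, .mul 1 4, .mul 2 5, .mul 1 6, .mul 2 6, .mul 3 6, .mul 1 7,
  .mul 1 8, .mul 3 9, .mul 1 10, .mul 1 11, .mul 2 12, .mul 1 13, .mul 1 14, .mul 2 15,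
  .mul 1 16, .mul 3 17, .mul 1 18, .mul 3 19, .mul 1 20, .mul 3 21, .mul 2 22, .mul 3 24,
  .mul 1 25, .mul 3 26, .mul 1 27, .mul 1 28, .inv 31, .mul 2 30, .mul 32 33, .inv 23,
  .mul 1 29, .mul 35 36, .mul 37 34, .mul 34 37, .mul 37 37, .mul 34 39, .mul 37 39, .mul 37 40,
  .mul 34 41, .mul 37 41, .mul 34 44, .inv 44, .mul 37 42, .mul 47 48, .inv 41, .mul 37 44,
  .mul 50 51, .inv 42, .mul 34 43, .mul 53 54, .mul 49 49, .mul 52 49, .mul 55 49, .mul 49 52,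
  .mul 49 55, .mul 55 58, .mul 49 60, .mul 55 56, .mul 49 63, .inv 57, .mul 55 61, .mul 65 66,
  .mul 64 64, .mul 67 64, .mul 64 67, .mul 64 68, .mul 64 70, .mul 67 71, .mul 64 72, .mul 64 69,
  .mul 69 75, .inv 74, .mul 67 72, .mul 77 78, .mul 76 76, .mul 76 79, .mul 79 79, .mul 76 80,
  .mul 76 81, .mul 79 83, .mul 76 82, .mul 82 86, .mul 79 82, .mul 83 88, .mul 87 87, .mul 89 87,
  .mul 87 89, .mul 87 90, .mul 89 90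
]

/-- Chain of the dodecad stabiliser: the tables of all nodes of the straight-line program. -/
def m12Tabs : List (List ℕ) := [
  [0, 1, 2, 3, 4, 5, 6, 7, 8, 9, 10, 11, 12, 13, 14, 15, 16, 17, 18, 19, 20, 21, 22, 23],
  [1, 2, 3, 4, 5, 6, 7, 8, 9, 10, 11, 12, 13, 14, 15, 16, 17, 18, 19, 20, 21, 22, 0, 23],
  [23, 22, 11, 15, 17, 9, 19, 13, 20, 5, 16, 2, 21, 7, 18, 3, 10, 4, 14, 6, 8, 12, 1, 0],
  [0, 18, 6, 3, 2, 21, 1, 5, 16, 12, 7, 19, 8, 9, 17, 15, 13, 11, 4, 22, 10, 20, 14, 23],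
  [2, 3, 4, 5, 6, 7, 8, 9, 10, 11, 12, 13, 14, 15, 16, 17, 18, 19, 20, 21, 22, 0, 1, 23],
  [23, 0, 12, 16, 18, 10, 20, 14, 21, 6, 17, 3, 22, 8, 19, 4, 11, 5, 15, 7, 9, 13, 2, 1],
  [3, 4, 5, 6, 7, 8, 9, 10, 11, 12, 13, 14, 15, 16, 17, 18, 19, 20, 21, 22, 0, 1, 2, 23],
  [0, 23, 21, 10, 14, 16, 8, 18, 12, 19, 4, 15, 1, 20, 6, 17, 2, 9, 3, 13, 5, 7, 11, 22],
  [4, 5, 6, 7, 8, 9, 10, 11, 12, 13, 14, 15, 16, 17, 18, 19, 20, 21, 22, 0, 1, 2, 3, 23],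
  [15, 17, 9, 19, 13, 20, 5, 16, 2, 21, 7, 18, 3, 10, 4, 14, 6, 8, 12, 1, 23, 22, 11, 0],
  [3, 2, 21, 1, 5, 16, 12, 7, 19, 8, 9, 17, 15, 13, 11, 4, 22, 10, 20, 14, 0, 18, 6, 23],
  [1, 23, 22, 11, 15, 17, 9, 19, 13, 20, 5, 16, 2, 21, 7, 18, 3, 10, 4, 14, 6, 8, 12, 0],
  [5, 6, 7, 8, 9, 10, 11, 12, 13, 14, 15, 16, 17, 18, 19, 20, 21, 22, 0, 1, 2, 3, 4, 23],
  [15, 11, 12, 22, 9, 10, 21, 13, 6, 20, 5, 4, 3, 7, 2, 17, 1, 16, 8, 18, 23, 14, 19, 0],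
  [4, 3, 22, 2, 6, 17, 13, 8, 20, 9, 10, 18, 16, 14, 12, 5, 0, 11, 21, 15, 1, 19, 7, 23],
  [2, 23, 0, 12, 16, 18, 10, 20, 14, 21, 6, 17, 3, 22, 8, 19, 4, 11, 5, 15, 7, 9, 13, 1],
  [9, 19, 13, 20, 5, 16, 2, 21, 7, 18, 3, 10, 4, 14, 6, 8, 12, 1, 23, 22, 11, 15, 17, 0],
  [16, 12, 13, 0, 10, 11, 22, 14, 7, 21, 6, 5, 4, 8, 3, 18, 2, 17, 9, 19, 23, 15, 20, 1],
  [5, 4, 0, 3, 7, 18, 14, 9, 21, 10, 11, 19, 17, 15, 13, 6, 1, 12, 22, 16, 2, 20, 8, 23],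
  [11, 0, 23, 21, 10, 14, 16, 8, 18, 12, 19, 4, 15, 1, 20, 6, 17, 2, 9, 3, 13, 5, 7, 22],
  [10, 20, 14, 21, 6, 17, 3, 22, 8, 19, 4, 11, 5, 15, 7, 9, 13, 2, 23, 0, 12, 16, 18, 1],
  [13, 8, 9, 0, 7, 19, 14, 17, 5, 20, 1, 21, 2, 16, 3, 4, 6, 11, 12, 22, 23, 15, 10, 18],
  [6, 5, 1, 4, 8, 19, 15, 10, 22, 11, 12, 20, 18, 16, 14, 7, 2, 13, 0, 17, 3, 21, 9, 23],
  [19, 0, 23, 20, 7, 17, 13, 16, 4, 8, 22, 2, 15, 18, 10, 1, 11, 6, 12, 3, 9, 21, 5, 14],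
  [11, 21, 15, 22, 7, 18, 4, 0, 9, 20, 5, 12, 6, 16, 8, 10, 14, 3, 23, 1, 13, 17, 19, 2],
  [9, 16, 12, 0, 5, 22, 17, 11, 21, 10, 18, 20, 6, 13, 3, 2, 1, 19, 8, 14, 23, 15, 7, 4],
  [19, 9, 22, 17, 20, 6, 3, 16, 1, 2, 21, 8, 14, 10, 18, 13, 11, 7, 23, 4, 15, 12, 5, 0],
  [19, 20, 15, 14, 5, 4, 2, 0, 12, 10, 21, 8, 1, 13, 16, 7, 17, 3, 23, 18, 9, 11, 22, 6],
  [10, 17, 13, 1, 6, 0, 18, 12, 22, 11, 19, 21, 7, 14, 4, 3, 2, 20, 9, 15, 23, 16, 8, 5],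
  [22, 12, 14, 11, 10, 1, 3, 13, 18, 6, 20, 16, 17, 7, 4, 9, 19, 5, 23, 2, 15, 8, 21, 0],
  [20, 21, 16, 15, 6, 5, 3, 1, 13, 11, 22, 9, 2, 14, 17, 8, 18, 4, 23, 19, 10, 12, 0, 7],
  [11, 18, 14, 2, 7, 1, 19, 13, 0, 12, 20, 22, 8, 15, 5, 4, 3, 21, 10, 16, 23, 17, 9, 6],
  [8, 5, 3, 16, 15, 14, 23, 4, 12, 22, 18, 0, 9, 7, 2, 13, 19, 21, 1, 6, 10, 17, 11, 20],
  [8, 12, 10, 3, 19, 9, 15, 22, 7, 2, 1, 5, 11, 18, 4, 20, 14, 17, 0, 6, 16, 21, 23, 13],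
  [12, 9, 18, 16, 6, 22, 13, 11, 4, 3, 5, 14, 0, 1, 15, 10, 2, 21, 8, 23, 19, 17, 20, 7],
  [1, 15, 11, 19, 8, 22, 17, 4, 9, 20, 14, 16, 18, 6, 23, 12, 7, 5, 13, 0, 3, 21, 10, 2],
  [0, 13, 15, 12, 11, 2, 4, 14, 19, 7, 21, 17, 18, 8, 5, 10, 20, 6, 23, 3, 16, 9, 22, 1],
  [1, 6, 12, 18, 16, 11, 8, 23, 0, 4, 21, 5, 13, 9, 22, 14, 3, 17, 2, 19, 7, 20, 10, 15],
  [13, 4, 2, 3, 8, 10, 9, 5, 16, 18, 11, 22, 1, 6, 14, 21, 12, 20, 0, 15, 19, 17, 7, 23],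
  [9, 13, 0, 8, 2, 14, 4, 7, 12, 6, 17, 22, 1, 3, 20, 15, 16, 21, 18, 23, 11, 19, 5, 10],
  [6, 8, 13, 2, 3, 5, 0, 15, 1, 16, 20, 11, 9, 4, 10, 22, 18, 17, 12, 19, 23, 7, 21, 14],
  [3, 1, 12, 4, 18, 15, 6, 11, 0, 13, 21, 20, 9, 16, 19, 10, 2, 17, 8, 7, 14, 23, 22, 5],
  [4, 9, 1, 0, 12, 22, 16, 23, 13, 8, 17, 10, 6, 18, 7, 14, 3, 20, 2, 15, 5, 19, 11, 21],
  [8, 0, 9, 12, 18, 11, 1, 14, 6, 3, 7, 5, 4, 16, 21, 10, 2, 17, 13, 19, 15, 23, 20, 22],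
  [16, 9, 0, 6, 8, 10, 13, 14, 12, 1, 17, 19, 3, 2, 23, 5, 18, 21, 4, 11, 15, 7, 20, 22],
  [18, 6, 13, 16, 2, 14, 8, 5, 1, 9, 20, 7, 4, 3, 19, 21, 12, 17, 0, 23, 22, 15, 10, 11],
  [2, 3, 12, 13, 4, 5, 1, 15, 0, 9, 21, 23, 16, 18, 7, 22, 8, 17, 6, 14, 10, 11, 19, 20],
  [2, 9, 13, 12, 18, 15, 3, 21, 4, 1, 5, 19, 8, 6, 7, 20, 0, 10, 16, 11, 22, 17, 23, 14],
  [16, 4, 6, 1, 13, 10, 3, 15, 9, 0, 17, 21, 8, 2, 23, 22, 18, 7, 12, 14, 11, 19, 5, 20],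
  [0, 18, 3, 9, 6, 5, 12, 20, 1, 2, 10, 17, 4, 13, 14, 23, 16, 21, 8, 7, 19, 11, 15, 22],
  [8, 1, 16, 0, 3, 23, 6, 19, 18, 12, 15, 7, 2, 9, 20, 5, 13, 17, 4, 14, 11, 10, 22, 21],
  [3, 4, 1, 8, 0, 21, 9, 22, 13, 6, 17, 19, 18, 12, 15, 11, 2, 20, 16, 5, 14, 23, 7, 10],
  [0, 3, 1, 18, 8, 10, 12, 22, 9, 6, 17, 14, 4, 2, 5, 7, 16, 11, 13, 23, 20, 21, 19, 15],
  [3, 2, 18, 16, 0, 20, 12, 14, 9, 1, 11, 22, 4, 8, 15, 19, 6, 10, 13, 21, 17, 23, 5, 7],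
  [4, 12, 3, 0, 8, 14, 9, 15, 13, 16, 11, 22, 6, 2, 17, 5, 18, 21, 1, 23, 10, 7, 19, 20],
  [0, 4, 16, 3, 9, 15, 1, 19, 8, 6, 22, 5, 12, 18, 10, 20, 13, 23, 2, 7, 11, 14, 21, 17],
  [0, 8, 9, 2, 12, 5, 4, 19, 18, 3, 10, 21, 6, 13, 14, 22, 16, 11, 1, 20, 7, 17, 23, 15],
  [0, 13, 18, 6, 12, 10, 4, 20, 3, 1, 17, 11, 8, 2, 5, 15, 16, 21, 9, 22, 23, 14, 7, 19],
  [0, 2, 3, 6, 1, 15, 12, 11, 4, 16, 22, 23, 9, 18, 10, 17, 13, 14, 8, 19, 7, 5, 20, 21],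
  [0, 9, 18, 8, 1, 10, 4, 15, 2, 12, 21, 14, 6, 3, 5, 20, 16, 17, 13, 22, 19, 11, 7, 23],
  [0, 6, 16, 9, 2, 23, 18, 7, 1, 12, 15, 5, 4, 8, 10, 19, 13, 22, 3, 20, 17, 14, 11, 21],
  [0, 16, 3, 1, 4, 20, 12, 5, 9, 13, 21, 17, 6, 2, 22, 23, 18, 10, 8, 7, 19, 15, 11, 14],
  [0, 12, 16, 2, 3, 22, 8, 20, 18, 4, 23, 5, 6, 1, 10, 7, 13, 15, 9, 19, 21, 14, 17, 11],
  [0, 8, 6, 16, 12, 15, 9, 7, 2, 3, 22, 14, 1, 18, 10, 21, 13, 5, 4, 11, 19, 23, 17, 20],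
  [0, 1, 12, 16, 4, 23, 2, 20, 3, 9, 15, 14, 18, 8, 10, 11, 13, 5, 6, 17, 7, 22, 21, 19],
  [0, 9, 13, 8, 6, 14, 3, 22, 12, 18, 5, 11, 4, 1, 21, 15, 16, 10, 2, 23, 7, 17, 19, 20],
  [0, 13, 3, 4, 9, 11, 12, 15, 6, 18, 14, 23, 1, 16, 21, 17, 2, 22, 8, 19, 7, 20, 5, 10],
  [0, 1, 8, 6, 18, 11, 4, 15, 3, 2, 21, 20, 9, 16, 17, 10, 13, 19, 12, 23, 22, 7, 14, 5],
  [0, 1, 18, 13, 4, 19, 12, 7, 16, 9, 11, 10, 6, 3, 15, 14, 8, 23, 2, 5, 20, 21, 22, 17],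
  [0, 1, 9, 13, 18, 5, 8, 22, 6, 2, 10, 17, 12, 3, 21, 20, 16, 11, 4, 19, 15, 14, 7, 23],
  [0, 1, 3, 2, 6, 14, 4, 11, 16, 12, 22, 7, 9, 13, 5, 15, 8, 17, 18, 19, 21, 20, 10, 23],
  [0, 1, 6, 8, 4, 17, 18, 20, 13, 9, 14, 15, 2, 16, 11, 10, 3, 19, 12, 23, 7, 22, 21, 5],
  [0, 1, 16, 12, 2, 10, 4, 14, 13, 18, 21, 20, 9, 8, 23, 11, 3, 5, 6, 17, 22, 7, 15, 19],
  [0, 1, 4, 3, 18, 19, 12, 22, 16, 2, 17, 10, 8, 13, 20, 21, 6, 23, 9, 5, 15, 14, 7, 11],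
  [0, 1, 13, 18, 12, 15, 4, 10, 8, 6, 22, 7, 9, 3, 19, 14, 16, 23, 2, 5, 21, 20, 11, 17],
  [0, 1, 9, 8, 6, 23, 3, 21, 2, 12, 15, 5, 18, 16, 22, 7, 13, 14, 4, 17, 11, 10, 20, 19],
  [0, 1, 2, 6, 8, 23, 13, 14, 9, 12, 20, 5, 4, 16, 7, 22, 3, 21, 18, 11, 17, 10, 15, 19],
  [0, 1, 18, 13, 6, 19, 9, 11, 8, 12, 7, 22, 4, 2, 15, 5, 16, 23, 3, 14, 21, 20, 10, 17],
  [0, 1, 13, 9, 8, 21, 18, 17, 16, 12, 7, 22, 2, 3, 5, 20, 6, 11, 4, 19, 14, 15, 10, 23],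
  [0, 1, 2, 12, 8, 20, 3, 23, 16, 4, 11, 10, 18, 13, 19, 21, 9, 22, 6, 14, 15, 5, 7, 17],
  [0, 1, 2, 13, 9, 19, 16, 7, 12, 4, 17, 23, 8, 3, 14, 15, 6, 10, 18, 5, 21, 20, 22, 11],
  [0, 1, 2, 4, 9, 17, 6, 19, 3, 8, 5, 20, 18, 16, 11, 10, 12, 15, 13, 7, 22, 23, 14, 21],
  [0, 1, 2, 18, 16, 15, 12, 17, 9, 8, 10, 11, 6, 13, 14, 5, 4, 7, 3, 19, 21, 20, 23, 22],
  [0, 1, 2, 16, 12, 11, 3, 14, 4, 8, 21, 19, 9, 6, 7, 22, 13, 20, 18, 23, 10, 17, 15, 5],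
  [0, 1, 2, 8, 12, 21, 13, 11, 6, 9, 23, 17, 18, 3, 5, 20, 4, 22, 16, 14, 15, 19, 7, 10],
  [0, 1, 2, 9, 18, 10, 12, 19, 8, 16, 5, 14, 4, 3, 23, 7, 13, 15, 6, 17, 11, 22, 21, 20],
  [0, 1, 2, 18, 3, 22, 4, 21, 12, 9, 20, 5, 13, 16, 7, 23, 8, 14, 6, 11, 10, 17, 19, 15],
  [0, 1, 2, 3, 18, 23, 16, 20, 6, 8, 21, 15, 13, 4, 17, 22, 9, 14, 12, 11, 10, 7, 19, 5],
  [0, 1, 2, 6, 9, 21, 18, 22, 4, 16, 11, 10, 3, 13, 19, 20, 8, 23, 12, 14, 5, 15, 17, 7],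
  [0, 1, 2, 3, 8, 17, 18, 15, 12, 13, 19, 21, 16, 6, 23, 10, 4, 5, 9, 7, 11, 22, 20, 14],
  [0, 1, 2, 3, 12, 5, 9, 10, 16, 6, 7, 22, 4, 18, 14, 19, 8, 17, 13, 15, 21, 20, 11, 23],
  [0, 1, 2, 3, 9, 14, 4, 11, 18, 12, 22, 10, 6, 8, 5, 20, 13, 23, 16, 21, 19, 15, 7, 17],
  [0, 1, 2, 3, 6, 14, 12, 22, 13, 4, 11, 7, 9, 16, 5, 21, 18, 23, 8, 20, 15, 19, 10, 17],
  [0, 1, 2, 3, 13, 23, 8, 21, 9, 16, 20, 19, 18, 12, 17, 11, 6, 14, 4, 22, 7, 10, 15, 5],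
  [0, 1, 2, 3, 16, 17, 13, 19, 4, 18, 15, 20, 8, 9, 23, 7, 12, 5, 6, 10, 22, 11, 21, 14]
]

theorem m12Tabs_eq : runSLP m12Prog [idT, tA, tB, tC] = m12Tabs := by decide +kernel

/-- Chain of the dodecad stabiliser: base point, orbit, node numbers of the transversal, for each level. -/
def m12Specs : List (ℕ × List ℕ × List ℕ) := [
  (0, [0, 1, 2, 3, 4, 6, 8, 9, 12, 13, 16, 18],
    [0, 37, 46, 41, 42, 40, 43, 39, 34, 38, 44, 45]),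
  (1, [1, 2, 3, 4, 6, 8, 9, 12, 13, 16, 18],
    [0, 58, 52, 55, 60, 56, 59, 62, 57, 61, 49]),
  (2, [2, 3, 4, 6, 8, 9, 12, 13, 16, 18],
    [0, 70, 73, 71, 67, 69, 64, 74, 72, 68]),
  (3, [3, 4, 6, 8, 9, 12, 13, 16, 18],
    [0, 81, 76, 84, 85, 79, 80, 83, 82]),
  (4, [4, 6, 8, 9, 12, 13, 16, 18],
    [0, 92, 89, 91, 90, 93, 94, 87])
]

/-- Chain of the dodecad stabiliser: the levels of the chain. -/
def m12Levels : List Level := m12Specs.map (mkLevel m12Tabs)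

theorem tabled_m12Tabs : ∀ l ∈ m12Tabs, Tabled M24 l := by
  rw [← m12Tabs_eq]
  apply tabled_runSLP
  intro l hl
  simp only [List.mem_cons, List.not_mem_nil, or_false] at hl
  rcases hl with rfl | rfl | rfl | rfl
  · exact tabled_idT _
  · exact ⟨gA, gA_mem_M24, isTable_gA⟩
  · exact ⟨projInv, projInv_mem_M24, isTable_projInv⟩
  · exact ⟨cubeTwist, cubeTwist_mem_M24, isTable_cubeTwist⟩

theorem tabled_m12Levels_M24 : ∀ L ∈ m12Levels, ∀ l ∈ L.T, Tabled M24 l := by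
  intro L hL l hl
  rw [m12Levels, List.mem_map] at hL
  obtain ⟨s, _, rfl⟩ := hL
  exact tabled_m12Tabs l (mkLevel_T_mem _ _ l hl)

theorem m12_stable : m12Levels.all (fun L => L.T.all (maskStable d0)) = true := by decide +kernel

theorem tabled_m12Levels : ∀ L ∈ m12Levels, ∀ l ∈ L.T, Tabled M12 l := by
  intro L hL l hl
  have h := m12_stable
  rw [List.all_eq_true] at h
  have h1 := h L hL
  rw [List.all_eq_true] at h1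
  exact (tabled_m12Levels_M24 L hL l hl).setStab (h1 l hl)

theorem m12_chainOK : chainOK [] m12Levels = true := by decide +kernel

theorem m24_sift5 : ∀ g ∈ fixG M24 [4, 3, 2, 1, 0], ∃ l ∈ prodTables (m24Levels.drop 5), IsTable l g := by
  have h1 : baseRev m24Levels 5 ++ [] = [4, 3, 2, 1, 0] := by decide +kernel
  have := chain_sift (H := M24) (F := baseRev m24Levels 5 ++ [])
    (fun L hL l hl => tabled_m24Levels L (List.mem_of_mem_drop hL) l hl)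
    (chainOK_drop 5 m24_chainOK) (bounds_drop 5 m24_bounds)
  rwa [h1] at this

theorem m12_bounds : Bounds M12 [] m12Levels := by
  simp only [m12Levels, m12Specs, List.map, mkLevel, Bounds]
  refine ⟨?_, ?_, ?_, ?_, ?_, ?_⟩
  · exact bound_of_mask d0 (setStab_mask_inv M24 d0 _) (by decide +kernel)
      (by decide) (by decide) (by decide)
  · exact bound_of_mask d0 (setStab_mask_inv M24 d0 _) (by decide +kernel)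
      (by decide) (by decide) (by decide)
  · exact bound_of_mask d0 (setStab_mask_inv M24 d0 _) (by decide +kernel)
      (by decide) (by decide) (by decide)
  · exact bound_of_mask d0 (setStab_mask_inv M24 d0 _) (by decide +kernel)
      (by decide) (by decide) (by decide)
  · exact bound_of_mask d0 (setStab_mask_inv M24 d0 _) (by decide +kernel)
      (by decide) (by decide) (by decide)
  · exact eq_one_of_tables _ m24_sift5 (by decide +kernel)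

/-- The order of the dodecad stabiliser. -/
theorem card_M12 : Nat.card M12 = 95040 := by
  have := chain_card tabled_m12Levels m12_chainOK m12_bounds
  rw [fixG_nil] at this
  rw [this]
  decide +kernel

theorem card_fixG_m12 (n : ℕ) :
    Nat.card (fixG M12 (baseRev m12Levels n ++ [])) =
      ((m12Levels.drop n).map (fun L => L.orb.length)).prod :=
  chain_card (fun L hL l hl => tabled_m12Levels L (List.mem_of_mem_drop hL) l hl)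
    (chainOK_drop n m12_chainOK) (bounds_drop n m12_bounds)

/-- The order of the stabiliser of the dodecad and the point `0`. -/
theorem card_fixG_m12_1 : Nat.card (fixG M12 [0]) = 7920 := by
  have := card_fixG_m12 1
  have h1 : baseRev m12Levels 1 ++ [] = [0] := by decide +kernel
  rw [h1] at this
  rw [this]
  decide +kernel

end Cfsg.Agent.Helper7
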