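import Cfsg.Agent.Helper7.M12Chain
import Cfsg.Agent.Helper7.M24Octad
import Cfsg.Agent.Helper7.Count

/-!
# `M24` is transitive on dodecads; dodecad stabilisers
-/

set_option autoImplicit false

namespace Cfsg.Agent.Helper7

open Cfsg
open scoped Pointwise

theorem smul_finset_eq_iff (g : Equiv.Perm GolayPt) (s : Finset GolayPt) :
    g • s = s ↔ ∀ p, g p ∈ s ↔ p ∈ s := by
  constructor
  · intro h p
    constructor
    · intro hp
      rw [← h] at hp
      exact Finset.smul_mem_smul_finset_iff g |>.mp hp
    · intro hp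
      rw [← h]
      exact Finset.smul_mem_smul_finset hp
  · intro h
    ext q
    rw [Finset.mem_smul_finset]
    constructor
    · rintro ⟨p, hp, rfl⟩
      exact (h p).mpr hp
    · intro hq
      refine ⟨g⁻¹ q, ?_, by simp⟩
      rw [← h]
      simpa using hq

/-- The setwise stabiliser of the support of `word S` in `H`, as a subgroup of `↥H`, is
`setStab H S`. -/
def stabFinsetEquiv (H : Subgroup (Equiv.Perm GolayPt)) (S : ℕ) :
    MulAction.stabilizer H (support₂ (word S)) ≃* setStab H S where
  toFun k := ⟨k.1.1, by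
    refine ⟨k.1.2, fun p => ?_⟩
    have h1 : (k.1.1 : Equiv.Perm GolayPt) • support₂ (word S) = support₂ (word S) := k.2
    have h2 := (smul_finset_eq_iff _ _).mp h1 p
    rw [mem_support₂_word, mem_support₂_word] at h2
    exact Bool.eq_iff_iff.mpr h2⟩
  invFun k := ⟨⟨k.1, k.2.1⟩, by
    rw [MulAction.mem_stabilizer_iff]
    show (k.1 : Equiv.Perm GolayPt) • support₂ (word S) = support₂ (word S)
    rw [smul_finset_eq_iff]
    intro p
    rw [mem_support₂_word, mem_support₂_word, k.2.2 p]⟩
  left_inv k := rfl
  right_inv k := rfl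
  map_mul' k k' := rfl

/-- The standard dodecad. -/
def d0F : Finset GolayPt := support₂ (word d0)

theorem d0F_mem : d0F ∈ dodecads := by
  rw [mem_dodecads_iff]
  refine ⟨word d0, (word_mem_golayCode_iff (by decide)).mpr (by decide +kernel), rfl, ?_⟩
  rw [d0F, card_support₂_word]
  decide +kernel

theorem card_stabilizer_d0F : Nat.card (MulAction.stabilizer M24 d0F) = 95040 := by
  have := Nat.card_congr (stabFinsetEquiv M24 d0).toEquiv
  rw [← card_M12]
  exact this

theorem orbit_d0F_subset : MulAction.orbit M24 d0F ⊆ dodecads := by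
  rintro _ ⟨g, rfl⟩
  exact smul_mem_dodecads g.2 d0F_mem

theorem ncard_orbit_d0F : (MulAction.orbit M24 d0F).ncard = 2576 := by
  have h := Subgroup.card_mul_index (MulAction.stabilizer M24 d0F)
  rw [card_stabilizer_d0F, card_M24, MulAction.index_stabilizer] at h
  omega

theorem orbit_d0F_eq : MulAction.orbit M24 d0F = dodecads := by
  apply Set.eq_of_subset_of_ncard_le orbit_d0F_subset
  · rw [ncard_orbit_d0F, ncard_dodecads]

/-- Every dodecad is the image of the standard one under an element of `M24`. -/
theorem exists_smul_d0F_eq {d : Finset GolayPt} (hd : d ∈ dodecads) : ∃ g : M24, g • d0F = d := by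
  rw [← orbit_d0F_eq] at hd
  exact hd

/-- `M24` is transitive on dodecads. -/
theorem exists_smul_dodecad_eq {d d' : Finset GolayPt} (hd : d ∈ dodecads) (hd' : d' ∈ dodecads) :
    ∃ g : M24, g • d = d' := by
  obtain ⟨g, rfl⟩ := exists_smul_d0F_eq hd
  obtain ⟨g', rfl⟩ := exists_smul_d0F_eq hd'
  exact ⟨g' * g⁻¹, by rw [mul_smul, inv_smul_smul]⟩

/-- The stabiliser of any dodecad has order 95040. -/
theorem card_stabilizer_dodecad {d : Finset GolayPt} (hd : d ∈ dodecads) :
    Nat.card (MulAction.stabilizer M24 d) = 95040 := by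
  obtain ⟨g, rfl⟩ := exists_smul_d0F_eq hd
  rw [Nat.card_congr (MulAction.stabilizerEquivStabilizer (g := g) rfl).toEquiv.symm]
  exact card_stabilizer_d0F

end Cfsg.Agent.Helper7
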