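import Cfsg.Agent.Helper7.M12Trans

/-!
# The dodecad stabiliser is sharply 5-transitive on the dodecad
-/

set_option autoImplicit false

namespace Cfsg.Agent.Helper7

open Cfsg
open scoped Pointwise

theorem mem_M12_iff (k : Equiv.Perm GolayPt) : k ∈ M12 ↔ k ∈ M24 ∧ k • d0F = d0F := by
  rw [M12, mem_setStab, smul_finset_eq_iff]
  constructor
  · rintro ⟨h1, h2⟩
    refine ⟨h1, fun p => ?_⟩
    rw [mem_d0F_iff, mem_d0F_iff, h2 p]
  · rintro ⟨h1, h2⟩
    refine ⟨h1, fun p => ?_⟩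
    have := h2 p
    rw [mem_d0F_iff, mem_d0F_iff] at this
    exact Bool.eq_iff_iff.mpr this

theorem m12_exists_map_tuple (x y : Fin 5 ↪ GolayPt) (hx : ∀ i, x i ∈ d0F) (hy : ∀ i, y i ∈ d0F) :
    ∃ k ∈ M12, ∀ i, k (x i) = y i := by
  obtain ⟨gx, hgx, hx'⟩ := m12_exists_of_tuple x hx
  obtain ⟨gy, hgy, hy'⟩ := m12_exists_of_tuple y hy
  refine ⟨gy * gx⁻¹, M12.mul_mem hgy (M12.inv_mem hgx), fun i => ?_⟩
  rw [← hx' i, ← hy' i]
  simp

theorem m12_eq_one_of_fix (x : Fin 5 ↪ GolayPt) (hx : ∀ i, x i ∈ d0F) {k : Equiv.Perm GolayPt}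
    (hk : k ∈ M12) (hfix : ∀ i, k (x i) = x i) : k = 1 := by
  obtain ⟨gx, hgx, hx'⟩ := m12_exists_of_tuple x hx
  have h1 : gx⁻¹ * k * gx ∈ fixG M12 [4, 3, 2, 1, 0] := by
    refine ⟨M12.mul_mem (M12.mul_mem (M12.inv_mem hgx) hk) hgx, fun i hi => ?_⟩
    have hi5 : i < 5 := by
      simp only [List.mem_cons, List.not_mem_nil, or_false] at hi
      omega
    have h2 := hx' ⟨i, hi5⟩
    simp only at h2
    rw [Equiv.Perm.mul_apply, Equiv.Perm.mul_apply, h2, hfix, ← h2]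
    simp
  have h3 := m12_fix5_trivial _ h1
  have : k = gx * (gx⁻¹ * k * gx) * gx⁻¹ := by simp [mul_assoc]
  rw [this, h3]
  simp

/-- The stabiliser of a dodecad is sharply 5-transitive on the dodecad. -/
theorem dodecad_stab_sharp {d : Finset GolayPt} (hd : d ∈ dodecads) (x y : Fin 5 ↪ GolayPt)
    (hx : ∀ i, x i ∈ d) (hy : ∀ i, y i ∈ d) :
    ∃! g : MulAction.stabilizer M24 d, ∀ i, ((g : M24) : Equiv.Perm GolayPt) (x i) = y i := by
  obtain ⟨h, rfl⟩ := exists_smul_d0F_eq hd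
  -- transport the tuples to the standard dodecad
  let hinv : Equiv.Perm GolayPt := (h : Equiv.Perm GolayPt)⁻¹
  let x' : Fin 5 ↪ GolayPt := x.trans hinv.toEmbedding
  let y' : Fin 5 ↪ GolayPt := y.trans hinv.toEmbedding
  have hmem : ∀ p, p ∈ h • d0F → hinv p ∈ d0F := by
    intro p hp
    have : (h : Equiv.Perm GolayPt) • d0F = h • d0F := rfl
    rw [← this, Finset.mem_smul_finset] at hp
    obtain ⟨q, hq, rfl⟩ := hp
    show (h : Equiv.Perm GolayPt)⁻¹ ((h : Equiv.Perm GolayPt) q) ∈ d0F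
    simpa using hq
  have hx' : ∀ i, x' i ∈ d0F := fun i => hmem _ (hx i)
  have hy' : ∀ i, y' i ∈ d0F := fun i => hmem _ (hy i)
  obtain ⟨k, hk, hkxy⟩ := m12_exists_map_tuple x' y' hx' hy'
  have hk' := (mem_M12_iff k).mp hk
  -- the element h k h⁻¹
  have hg24 : (h : Equiv.Perm GolayPt) * k * (h : Equiv.Perm GolayPt)⁻¹ ∈ M24 :=
    M24.mul_mem (M24.mul_mem h.2 hk'.1) (M24.inv_mem h.2)
  have hgstab : (⟨_, hg24⟩ : M24) ∈ MulAction.stabilizer M24 (h • d0F) := by
    rw [MulAction.mem_stabilizer_iff]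
    show ((h : Equiv.Perm GolayPt) * k * (h : Equiv.Perm GolayPt)⁻¹) • ((h : Equiv.Perm GolayPt) • d0F)
      = (h : Equiv.Perm GolayPt) • d0F
    rw [mul_smul, mul_smul, inv_smul_smul, hk'.2]
  refine ⟨⟨⟨_, hg24⟩, hgstab⟩, ?_, ?_⟩
  · intro i
    show ((h : Equiv.Perm GolayPt) * k * (h : Equiv.Perm GolayPt)⁻¹) (x i) = y i
    have := hkxy i
    simp only [x', y', hinv, Function.Embedding.trans_apply, Equiv.coe_toEmbedding] at this
    rw [Equiv.Perm.mul_apply, Equiv.Perm.mul_apply, this]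
    simp
  · intro g' hg'
    -- u = h⁻¹ g⁻¹ g' h fixes x' pointwise and lies in M12
    have hg'stab : ((g' : M24) : Equiv.Perm GolayPt) • ((h : Equiv.Perm GolayPt) • d0F) =
        (h : Equiv.Perm GolayPt) • d0F := g'.2
    let g0 : Equiv.Perm GolayPt := (h : Equiv.Perm GolayPt) * k * (h : Equiv.Perm GolayPt)⁻¹
    have hg0stab : g0 • ((h : Equiv.Perm GolayPt) • d0F) = (h : Equiv.Perm GolayPt) • d0F := hgstab
    let u : Equiv.Perm GolayPt :=
      (h : Equiv.Perm GolayPt)⁻¹ * (g0⁻¹ * ((g' : M24) : Equiv.Perm GolayPt)) * (h : Equiv.Perm GolayPt)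
    have hu : u ∈ M12 := by
      rw [mem_M12_iff]
      refine ⟨M24.mul_mem (M24.mul_mem (M24.inv_mem h.2) (M24.mul_mem (M24.inv_mem hg24) g'.1.2)) h.2, ?_⟩
      show ((h : Equiv.Perm GolayPt)⁻¹ * (g0⁻¹ * ((g' : M24) : Equiv.Perm GolayPt)) *
        (h : Equiv.Perm GolayPt)) • d0F = d0F
      rw [mul_smul, mul_smul, mul_smul, hg'stab, inv_smul_eq_iff, inv_smul_eq_iff, hg0stab]
    have hufix : ∀ i, u (x' i) = x' i := by
      intro i
      have h1 : ((g' : M24) : Equiv.Perm GolayPt) (x i) = y i := hg' i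
      have h2 : g0 (x i) = y i := by
        show ((h : Equiv.Perm GolayPt) * k * (h : Equiv.Perm GolayPt)⁻¹) (x i) = y i
        have := hkxy i
        simp only [x', y', hinv, Function.Embedding.trans_apply, Equiv.coe_toEmbedding] at this
        rw [Equiv.Perm.mul_apply, Equiv.Perm.mul_apply, this]
        simp
      have h3 : g0⁻¹ (y i) = x i := by rw [← h2]; simp
      simp only [u, x', hinv, Function.Embedding.trans_apply, Equiv.coe_toEmbedding,
        Equiv.Perm.mul_apply]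
      have h4 : (h : Equiv.Perm GolayPt) ((h : Equiv.Perm GolayPt)⁻¹ (x i)) = x i := by simp
      rw [h4, h1, h3]
    have hu1 := m12_eq_one_of_fix x' hx' hu hufix
    have h5 : g0⁻¹ * ((g' : M24) : Equiv.Perm GolayPt) = 1 := by
      have : g0⁻¹ * ((g' : M24) : Equiv.Perm GolayPt) =
          (h : Equiv.Perm GolayPt) * u * (h : Equiv.Perm GolayPt)⁻¹ := by
        simp [u, mul_assoc]
      rw [this, hu1]
      simp
    have h6 : ((g' : M24) : Equiv.Perm GolayPt) = g0 := by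
      rw [inv_mul_eq_one] at h5
      exact h5.symm
    apply Subtype.ext
    apply Subtype.ext
    exact h6

end Cfsg.Agent.Helper7
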