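import Cfsg.Agent.Helper7.QuartetTrans
import Cfsg.Agent.Helper7.M11S5
import Cfsg.Agent.Helper7.TableIso

/-!
# The stabiliser of the standard quartet in the stabiliser of the standard dodecad
-/

set_option autoImplicit false

namespace Cfsg.Agent.Helper7

open Cfsg MulAction
open scoped Pointwise

theorem inv_smul_decT {l : List ℕ} {g : Equiv.Perm GolayPt} (h : IsTable l g) (N : ℕ) :
    g⁻¹ • decT N = decT (pullMask l N) := by
  ext p
  rw [Finset.mem_inv_smul_finset_iff, mem_decT, mem_decT, Equiv.Perm.smul_def, h.2 p,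
    testBit_pullMask l N (idx p) (by rw [h.1]; exact idx_lt p)]

/-- The stabiliser of the standard quartet in `M12`. -/
def qStab : Subgroup (Equiv.Perm GolayPt) := M12 ⊓ stabilizer (Equiv.Perm GolayPt) Q0F

theorem mem_qStab {g : Equiv.Perm GolayPt} : g ∈ qStab ↔ g ∈ M12 ∧ g • Q0F = Q0F := by
  rw [qStab, Subgroup.mem_inf, mem_stabilizer_iff]

/-- Table-level test for stabilising the standard quartet. -/
def qStable (l : List ℕ) : Bool := q0L.all (fun a => q0L.contains (pullMask l a))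

theorem q0L_lt : ∀ a ∈ q0L, a < 2 ^ 24 := by decide

theorem card_Q0F : Q0F.card = 4 := Q0F_mem.1

theorem qStable_iff {l : List ℕ} {g : Equiv.Perm GolayPt} (h : IsTable l g) :
    qStable l = true ↔ g • Q0F = Q0F := by
  have key : qStable l = true ↔ g⁻¹ • Q0F = Q0F := by
    rw [qStable, List.all_eq_true]
    constructor
    · intro hall
      apply Finset.eq_of_subset_of_card_le
      · intro t ht
        obtain ⟨t', ht', rfl⟩ := Finset.mem_smul_finset.mp ht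
        obtain ⟨a, ha, rfl⟩ := (mem_Q0F_iff t').mp ht'
        rw [inv_smul_decT h, mem_Q0F_iff]
        exact ⟨pullMask l a, by simpa using hall a ha, rfl⟩
      · rw [Finset.card_smul_finset]
    · intro he a ha
      have h1 : g⁻¹ • decT a ∈ g⁻¹ • Q0F :=
        Finset.smul_mem_smul_finset ((mem_Q0F_iff _).mpr ⟨a, ha, rfl⟩)
      rw [he, inv_smul_decT h, mem_Q0F_iff] at h1
      obtain ⟨b, hb, hab⟩ := h1
      have hlt : pullMask l a < 2 ^ 24 := by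
        have := pullMask_lt l a
        rwa [h.1] at this
      rw [decT_inj hlt (q0L_lt b hb) hab]
      simpa using hb
  rw [key]
  constructor
  · intro he
    rw [← he, smul_inv_smul, he]
  · intro he
    rw [← he, inv_smul_smul, he]

/-- The product of the transversal tables with given positions. -/
def prodAt : List Level → List ℕ → List ℕ
  | L :: Ls, i :: is => compT (L.T.getD i idT) (prodAt Ls is)
  | _, _ => idT

theorem tabled_prodAt {H : Subgroup (Equiv.Perm GolayPt)} (Ls : List Level)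
    (hT : ∀ L ∈ Ls, ∀ l ∈ L.T, Tabled H l) (is : List ℕ) : Tabled H (prodAt Ls is) := by
  induction Ls generalizing is with
  | nil => cases is <;> exact tabled_idT H
  | cons L Ls ih =>
    cases is with
    | nil => exact tabled_idT H
    | cons i is =>
      rw [prodAt]
      apply Tabled.mul
      · by_cases hi : i < L.T.length
        · rw [List.getD_eq_getElem _ _ hi]
          exact hT L (List.mem_cons_self ..) _ (List.getElem_mem hi)
        · rw [List.getD_eq_default _ _ (by omega)]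
          exact tabled_idT H
      · exact ih (fun L' hL' => hT L' (List.mem_cons_of_mem _ hL')) is

/-- Positions, in the chain of `M12`, of elements of the stabiliser of the standard quartet mapping
the point `0` to the twelve points of the standard dodecad. -/
def qRepIdx : List (List ℕ) := [
  [0, 0, 0, 0, 0],
  [1, 5, 4, 0, 0],
  [2, 4, 7, 0, 5],
  [3, 1, 0, 0, 2],
  [4, 3, 0, 0, 5],
  [5, 6, 8, 0, 2],
  [6, 1, 7, 0, 2],
  [7, 0, 1, 0, 1],
  [8, 5, 0, 0, 1],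
  [9, 3, 5, 0, 0],
  [10, 2, 8, 0, 0],
  [11, 0, 1, 0, 0]]

/-- Coset representatives of the stabiliser of `0` in the stabiliser of the standard quartet. -/
def qReps : List (List ℕ) := qRepIdx.map (prodAt m12Levels)

/-- The points of the standard dodecad. -/
abbrev d0pts : List ℕ := [0, 1, 2, 3, 4, 6, 8, 9, 12, 13, 16, 18]

/-- The level of the chain of the stabiliser of the standard quartet. -/
def qLevel : Level := ⟨0, d0pts, qReps⟩

theorem qLevel_ok : qLevel.ok [] = true := by decide +kernel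

theorem qReps_stable : qReps.all qStable = true := by decide +kernel

/-- The tables of the elements of the stabiliser of the standard quartet fixing `0`. -/
def q36 : List (List ℕ) := [
  [0, 1, 2, 3, 4, 5, 6, 7, 8, 9, 10, 11, 12, 13, 14, 15, 16, 17, 18, 19, 20, 21, 22, 23],
  [0, 1, 2, 3, 12, 5, 9, 10, 16, 6, 7, 22, 4, 18, 14, 19, 8, 17, 13, 15, 21, 20, 11, 23],
  [0, 1, 2, 4, 3, 15, 13, 10, 18, 16, 7, 23, 12, 6, 21, 5, 9, 17, 8, 19, 20, 14, 22, 11],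
  [0, 1, 2, 4, 12, 15, 16, 7, 9, 13, 10, 22, 3, 8, 21, 19, 18, 17, 6, 5, 14, 20, 23, 11],
  [0, 1, 2, 6, 16, 19, 9, 10, 12, 3, 17, 11, 18, 4, 21, 5, 13, 7, 8, 15, 14, 20, 22, 23],
  [0, 1, 2, 6, 18, 19, 3, 17, 13, 9, 10, 22, 16, 8, 21, 15, 12, 7, 4, 5, 20, 14, 11, 23],
  [0, 1, 2, 8, 13, 5, 18, 7, 3, 12, 17, 11, 9, 4, 21, 19, 16, 10, 6, 15, 20, 14, 23, 22],
  [0, 1, 2, 8, 9, 5, 12, 17, 16, 18, 7, 23, 13, 6, 21, 15, 3, 10, 4, 19, 14, 20, 11, 22],
  [0, 1, 2, 9, 8, 15, 6, 7, 4, 3, 17, 22, 13, 12, 20, 5, 18, 10, 16, 19, 14, 21, 11, 23],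
  [0, 1, 2, 9, 13, 15, 3, 17, 18, 6, 7, 11, 8, 16, 20, 19, 4, 10, 12, 5, 21, 14, 22, 23],
  [0, 1, 2, 12, 3, 19, 18, 7, 13, 8, 10, 23, 4, 9, 20, 5, 6, 17, 16, 15, 21, 14, 11, 22],
  [0, 1, 2, 12, 4, 19, 8, 10, 6, 18, 7, 11, 3, 16, 20, 15, 13, 17, 9, 5, 14, 21, 23, 22],
  [0, 1, 2, 13, 9, 19, 16, 7, 12, 4, 17, 23, 8, 3, 14, 15, 6, 10, 18, 5, 21, 20, 22, 11],
  [0, 1, 2, 13, 8, 19, 4, 17, 6, 16, 7, 22, 9, 18, 14, 5, 12, 10, 3, 15, 20, 21, 23, 11],
  [0, 1, 2, 16, 6, 5, 4, 17, 8, 13, 10, 23, 18, 9, 20, 19, 3, 7, 12, 15, 14, 21, 22, 11],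
  [0, 1, 2, 16, 18, 5, 13, 10, 3, 4, 17, 22, 6, 12, 20, 15, 8, 7, 9, 19, 21, 14, 23, 11],
  [0, 1, 2, 18, 16, 15, 12, 17, 9, 8, 10, 11, 6, 13, 14, 5, 4, 7, 3, 19, 21, 20, 23, 22],
  [0, 1, 2, 18, 6, 15, 8, 10, 4, 12, 17, 23, 16, 3, 14, 19, 9, 7, 13, 5, 20, 21, 11, 22],
  [0, 2, 1, 6, 18, 23, 13, 10, 3, 12, 17, 15, 16, 4, 21, 22, 9, 7, 8, 11, 20, 14, 5, 19],
  [0, 2, 1, 6, 16, 23, 12, 17, 9, 13, 10, 5, 18, 8, 21, 11, 3, 7, 4, 22, 14, 20, 15, 19],
  [0, 2, 1, 8, 9, 22, 16, 7, 12, 3, 17, 15, 13, 4, 21, 23, 18, 10, 6, 11, 14, 20, 19, 5],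
  [0, 2, 1, 8, 13, 22, 3, 17, 18, 16, 7, 19, 9, 6, 21, 11, 12, 10, 4, 23, 20, 14, 15, 5],
  [0, 2, 1, 9, 13, 23, 18, 7, 3, 4, 17, 19, 8, 12, 20, 11, 6, 10, 16, 22, 21, 14, 5, 15],
  [0, 2, 1, 9, 8, 23, 4, 17, 6, 18, 7, 5, 13, 16, 20, 22, 3, 10, 12, 11, 14, 21, 19, 15],
  [0, 2, 1, 13, 9, 11, 12, 17, 16, 6, 7, 15, 8, 18, 14, 23, 4, 10, 3, 22, 21, 20, 5, 19],
  [0, 2, 1, 13, 8, 11, 6, 7, 4, 12, 17, 5, 9, 3, 14, 22, 16, 10, 18, 23, 20, 21, 15, 19],
  [0, 2, 1, 3, 4, 23, 8, 10, 6, 16, 7, 15, 12, 18, 14, 11, 9, 17, 13, 22, 20, 21, 19, 5],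
  [0, 2, 1, 3, 12, 23, 16, 7, 9, 8, 10, 19, 4, 13, 14, 22, 6, 17, 18, 11, 21, 20, 15, 5],
  [0, 2, 1, 4, 12, 11, 9, 10, 16, 18, 7, 19, 3, 6, 21, 22, 13, 17, 8, 23, 14, 20, 5, 15],
  [0, 2, 1, 4, 3, 11, 18, 7, 13, 9, 10, 5, 12, 8, 21, 23, 16, 17, 6, 22, 20, 14, 19, 15],
  [0, 2, 1, 18, 6, 22, 4, 17, 8, 9, 10, 19, 16, 13, 14, 23, 12, 7, 3, 11, 20, 21, 5, 15],
  [0, 2, 1, 18, 16, 22, 9, 10, 12, 4, 17, 5, 6, 3, 14, 11, 8, 7, 13, 23, 21, 20, 19, 15],
  [0, 2, 1, 12, 4, 22, 6, 7, 8, 13, 10, 15, 3, 9, 20, 11, 18, 17, 16, 23, 14, 21, 5, 19],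
  [0, 2, 1, 12, 3, 22, 13, 10, 18, 6, 7, 5, 4, 16, 20, 23, 8, 17, 9, 11, 21, 14, 15, 19],
  [0, 2, 1, 16, 18, 11, 3, 17, 13, 8, 10, 15, 6, 9, 20, 22, 4, 7, 12, 23, 21, 14, 19, 5],
  [0, 2, 1, 16, 6, 11, 8, 10, 4, 3, 17, 19, 18, 12, 20, 23, 13, 7, 9, 22, 14, 21, 15, 5]
]

theorem q36_eq : m11Tabs.filter qStable = q36 := by decide +kernel

theorem tabled_qStab_of {l : List ℕ} (h : Tabled M12 l) (hs : qStable l = true) :
    Tabled qStab l := by
  obtain ⟨g, hg, hl⟩ := h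
  exact ⟨g, mem_qStab.mpr ⟨hg, (qStable_iff hl).mp hs⟩, hl⟩

theorem tabled_qReps : ∀ l ∈ qReps, Tabled qStab l := by
  intro l hl
  have hs := qReps_stable
  rw [List.all_eq_true] at hs
  refine tabled_qStab_of ?_ (hs l hl)
  rw [qReps, List.mem_map] at hl
  obtain ⟨is, _, rfl⟩ := hl
  exact tabled_prodAt _ tabled_m12Levels is

theorem q36_h1 : ∀ g ∈ fixG qStab [0], ∃ l ∈ q36, IsTable l g := by
  intro g hg
  have hg' := mem_qStab.mp hg.1
  obtain ⟨l, hl, hlt⟩ := m11_sift g ⟨hg'.1, hg.2⟩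
  refine ⟨l, ?_, hlt⟩
  rw [← q36_eq, List.mem_filter]
  exact ⟨hl, (qStable_iff hlt).mpr hg'.2⟩

theorem q36_h2 : ∀ l ∈ q36, ∃ g ∈ fixG qStab [0], IsTable l g := by
  intro l hl
  rw [← q36_eq, List.mem_filter] at hl
  obtain ⟨g, hg, hlt⟩ := tabled_m11Tabs l hl.1
  exact ⟨g, ⟨mem_qStab.mpr ⟨hg.1, (qStable_iff hlt).mp hl.2⟩, hg.2⟩, hlt⟩

theorem q36_nodup : q36.Nodup := by decide +kernel

theorem q36_length : q36.length = 36 := by decide +kernel

theorem card_fixG_qStab : Nat.card (fixG qStab [0]) = 36 := by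
  rw [card_of_tables _ q36 q36_nodup q36_h1 q36_h2, q36_length]

theorem qStab_bound : ∀ g ∈ fixG qStab [], idx (g (pt qLevel.b)) ∈ qLevel.orb := by
  intro g hg
  have hg' := (mem_qStab.mp hg.1).1
  have h1 : d0.testBit (idx (pt 0)) = true := by decide +kernel
  have h2 := M12_inv g hg' _ h1
  have h3 : ∀ i < 24, d0.testBit i = true → i ∈ d0pts := by decide +kernel
  exact h3 _ (idx_lt _) h2

/-- The order of the stabiliser of the standard quartet. -/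
theorem card_qStab : Nat.card qStab = 432 := by
  have h := level_card (H := qStab) (F := []) (L := qLevel) tabled_qReps qLevel_ok (by decide)
    (by decide) qStab_bound
  rw [fixG_nil] at h
  rw [h]
  have : fixG qStab [qLevel.b] = fixG qStab [0] := rfl
  rw [this, card_fixG_qStab]
  rfl

/-- All tables of the stabiliser of the standard quartet. -/
def q432 : List (List ℕ) := qReps.flatMap (fun r => q36.map (compT r))

theorem q432_h1 : ∀ g ∈ qStab, ∃ l ∈ q432, IsTable l g := by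
  intro g hg
  have hg0 : g ∈ fixG qStab [] := by rw [fixG_nil]; exact hg
  obtain ⟨l, hl, t, ht, hlt, htq⟩ := Level.cover (F := []) tabled_qReps qLevel_ok (by decide) _
    (qStab_bound g hg0)
  rw [fixG_nil] at ht
  have hg' : t⁻¹ * g ∈ fixG qStab [0] := by
    refine ⟨qStab.mul_mem (qStab.inv_mem ht) hg, fun i hi => ?_⟩
    rw [List.mem_singleton] at hi
    subst hi
    rw [Equiv.Perm.mul_apply, Equiv.Perm.inv_eq_iff_eq]
    have : qLevel.b = 0 := rfl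
    rw [this] at htq
    rw [htq, pt_idx]
  obtain ⟨l', hl', hlt'⟩ := q36_h1 _ hg'
  refine ⟨compT l l', ?_, ?_⟩
  · rw [q432, List.mem_flatMap]
    exact ⟨l, hl, List.mem_map.mpr ⟨l', hl', rfl⟩⟩
  · have := hlt.mul hlt'
    simpa using this

end Cfsg.Agent.Helper7
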