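import Cfsg.Agent.Helper7.SimpleCert
import Cfsg.Agent.Helper7.M24Stab

/-!
# Simplicity certificate for the point stabiliser of `M24` (generated data)
-/

set_option autoImplicit false

namespace Cfsg.Agent.Helper7

open Cfsg

/-- An element of order 23. -/
def m23sY : List ℕ := [0, 2, 6, 15, 21, 18, 16, 3, 13, 4, 14, 7, 10, 17, 11, 1, 5, 19, 22, 12, 8, 23, 9, 20]

/-- A conjugating element. -/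
def m23sH : List ℕ := [0, 6, 12, 13, 23, 8, 3, 22, 2, 21, 19, 7, 11, 4, 20, 15, 1, 18, 14, 5, 16, 10, 9, 17]

theorem m23sY_eq : powT (prodIdx m24Tabs [48, 62, 86, 119, 130, 142]) 1 = m23sY := by
  decide +kernel

theorem m23sH_eq : prodIdx m24Tabs [27, 71, 83, 113, 136, 142] = m23sH := by
  decide +kernel

/-- The straight-line program in `y` and `h y h⁻¹` (node 0 is the identity). -/
def m23sProg : List Op := [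
  .mul 1 1, .mul 2 1, .mul 1 2, .mul 2 2, .mul 1 3, .mul 2 3, .mul 1 4, .mul 2 4,
  .mul 1 5, .mul 2 5, .mul 1 6, .mul 2 6, .mul 1 7, .mul 1 8, .mul 2 8, .mul 1 9,
  .mul 1 10, .mul 1 11, .mul 1 13, .mul 1 18, .mul 2 17, .inv 11, .mul 2 16, .mul 24 25,
  .mul 26 23, .mul 23 26, .mul 26 26, .mul 23 27, .mul 23 28, .mul 26 28, .mul 23 29, .mul 26 29,
  .mul 23 30, .mul 23 31, .mul 26 31, .mul 23 32, .mul 23 34, .mul 23 36, .mul 26 36, .mul 23 37,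
  .mul 26 37, .mul 23 41, .mul 26 41, .mul 23 35, .mul 34 46, .inv 35, .mul 26 34, .mul 48 49,
  .mul 47 47, .mul 50 47, .mul 47 50, .mul 50 50, .mul 47 51, .mul 50 51, .mul 47 52, .mul 47 53,
  .mul 50 53, .mul 50 55, .mul 47 56, .mul 50 56, .mul 47 57, .mul 50 57, .mul 47 58, .mul 47 60,
  .mul 47 62, .mul 50 65, .mul 50 61, .inv 53, .mul 50 64, .mul 70 71, .inv 67, .mul 50 66,
  .mul 73 74, .mul 69 69, .mul 75 69, .mul 69 72, .mul 72 72, .mul 75 72, .mul 69 75, .mul 72 75,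
  .mul 75 76, .mul 72 77, .mul 75 77, .mul 69 80, .mul 72 80, .mul 69 81, .mul 75 81, .mul 72 82,
  .mul 69 85, .mul 72 83, .mul 85 92, .mul 72 86, .mul 88 94, .inv 89, .mul 72 87, .mul 96 97,
  .mul 93 93, .mul 95 93, .mul 93 95, .mul 95 95, .mul 98 95, .mul 95 98, .mul 95 99, .mul 93 100,
  .mul 95 100, .mul 98 103, .mul 93 104, .mul 95 104, .mul 98 106, .mul 104 111, .mul 112 112
]

/-- The tables of all nodes of the straight-line program. -/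
def m23sTabs : List (List ℕ) := [
  [0, 1, 2, 3, 4, 5, 6, 7, 8, 9, 10, 11, 12, 13, 14, 15, 16, 17, 18, 19, 20, 21, 22, 23],
  [0, 2, 6, 15, 21, 18, 16, 3, 13, 4, 14, 7, 10, 17, 11, 1, 5, 19, 22, 12, 8, 23, 9, 20],
  [0, 8, 4, 1, 18, 11, 12, 22, 14, 21, 17, 19, 3, 15, 9, 6, 2, 16, 5, 20, 7, 23, 13, 10],
  [0, 6, 16, 1, 23, 22, 5, 15, 17, 21, 11, 3, 14, 19, 7, 2, 18, 12, 9, 10, 13, 20, 4, 8],
  [0, 4, 12, 6, 23, 5, 2, 1, 15, 18, 9, 22, 17, 16, 19, 8, 11, 20, 13, 3, 14, 10, 21, 7],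
  [0, 13, 21, 2, 22, 7, 10, 9, 11, 23, 19, 12, 15, 1, 4, 16, 6, 5, 18, 8, 3, 20, 17, 14],
  [0, 14, 18, 8, 5, 19, 3, 13, 9, 23, 16, 20, 1, 6, 21, 12, 4, 2, 11, 7, 22, 10, 15, 17],
  [0, 16, 5, 2, 20, 9, 18, 1, 19, 23, 7, 15, 11, 12, 3, 6, 22, 10, 4, 14, 17, 8, 21, 13],
  [0, 12, 2, 8, 10, 13, 11, 6, 16, 23, 19, 1, 9, 20, 22, 4, 5, 3, 21, 17, 15, 7, 18, 14],
  [0, 21, 10, 16, 20, 18, 6, 2, 1, 22, 4, 9, 19, 5, 12, 13, 7, 8, 17, 15, 11, 14, 23, 3],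
  [0, 18, 3, 12, 10, 11, 4, 8, 6, 5, 21, 13, 16, 2, 20, 14, 19, 7, 15, 1, 9, 17, 23, 22],
  [0, 17, 23, 6, 9, 3, 14, 4, 7, 20, 12, 10, 1, 2, 21, 5, 16, 18, 22, 13, 15, 8, 19, 11],
  [0, 15, 23, 4, 13, 22, 17, 21, 19, 10, 20, 3, 6, 8, 18, 2, 12, 11, 5, 14, 1, 7, 16, 9],
  [0, 11, 22, 13, 18, 12, 15, 17, 4, 20, 5, 8, 2, 16, 23, 10, 21, 6, 7, 3, 9, 14, 1, 19],
  [0, 9, 5, 14, 11, 20, 1, 15, 21, 10, 2, 7, 8, 12, 23, 3, 18, 4, 19, 22, 13, 17, 6, 16],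
  [0, 5, 18, 6, 8, 4, 22, 2, 12, 20, 3, 1, 7, 10, 15, 16, 9, 14, 21, 11, 19, 13, 23, 17],
  [0, 10, 6, 13, 14, 17, 7, 16, 5, 20, 12, 2, 4, 8, 9, 21, 18, 15, 23, 19, 1, 3, 22, 11],
  [0, 3, 4, 14, 17, 15, 19, 12, 2, 10, 20, 8, 21, 7, 13, 18, 11, 1, 23, 16, 6, 22, 5, 9],
  [0, 23, 14, 5, 8, 22, 16, 6, 2, 9, 21, 4, 12, 18, 10, 17, 3, 13, 19, 1, 7, 11, 20, 15],
  [0, 22, 15, 10, 14, 7, 21, 13, 16, 18, 23, 17, 5, 6, 8, 11, 12, 3, 1, 2, 4, 19, 20, 9],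
  [0, 19, 20, 16, 4, 15, 11, 21, 3, 8, 10, 14, 2, 6, 23, 18, 5, 22, 9, 17, 1, 13, 12, 7],
  [0, 7, 9, 17, 22, 10, 1, 19, 21, 8, 18, 13, 6, 5, 20, 14, 23, 16, 3, 15, 4, 11, 2, 12],
  [0, 20, 11, 18, 13, 9, 5, 16, 6, 4, 23, 21, 10, 22, 14, 19, 15, 17, 12, 2, 3, 7, 8, 1],
  [0, 1, 18, 9, 16, 6, 20, 3, 4, 17, 7, 14, 23, 22, 15, 5, 19, 8, 10, 2, 12, 13, 11, 21],
  [0, 12, 13, 5, 7, 15, 3, 8, 21, 4, 11, 23, 10, 19, 6, 20, 16, 1, 17, 22, 9, 14, 18, 2],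
  [0, 17, 12, 15, 9, 16, 22, 2, 11, 7, 3, 4, 18, 14, 21, 23, 5, 6, 10, 20, 8, 1, 13, 19],
  [0, 1, 10, 20, 4, 16, 18, 13, 23, 8, 5, 7, 17, 6, 14, 2, 15, 3, 11, 9, 21, 12, 19, 22],
  [0, 1, 11, 8, 15, 18, 21, 20, 4, 3, 13, 14, 22, 19, 2, 16, 9, 23, 5, 10, 17, 6, 7, 12],
  [0, 1, 7, 12, 16, 19, 10, 22, 21, 4, 6, 3, 8, 20, 15, 18, 5, 9, 14, 17, 13, 23, 2, 11],
  [0, 1, 5, 21, 4, 15, 11, 6, 22, 23, 16, 13, 3, 18, 14, 10, 2, 20, 7, 8, 12, 17, 9, 19],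
  [0, 1, 14, 4, 5, 10, 13, 12, 16, 9, 22, 15, 11, 2, 18, 19, 17, 21, 6, 7, 8, 20, 3, 23],
  [0, 1, 3, 23, 19, 2, 7, 11, 13, 16, 20, 9, 4, 12, 5, 10, 6, 17, 15, 8, 22, 21, 18, 14],
  [0, 1, 13, 17, 15, 9, 5, 19, 12, 4, 18, 20, 23, 21, 2, 11, 16, 8, 14, 3, 6, 22, 10, 7],
  [0, 1, 6, 13, 16, 5, 14, 20, 11, 21, 19, 22, 9, 10, 15, 7, 18, 12, 3, 4, 23, 8, 17, 2],
  [0, 1, 16, 12, 4, 2, 7, 18, 19, 22, 15, 6, 20, 11, 14, 5, 10, 21, 13, 23, 17, 3, 8, 9],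
  [0, 1, 15, 16, 6, 7, 22, 23, 19, 17, 11, 5, 14, 18, 10, 2, 8, 13, 20, 3, 4, 12, 9, 21],
  [0, 1, 9, 21, 2, 18, 3, 14, 22, 19, 12, 17, 16, 23, 6, 7, 20, 8, 5, 4, 11, 13, 10, 15],
  [0, 1, 20, 22, 9, 10, 13, 7, 6, 15, 21, 8, 4, 17, 16, 5, 18, 3, 2, 23, 19, 12, 11, 14],
  [0, 1, 22, 8, 5, 17, 6, 2, 23, 16, 10, 12, 21, 13, 18, 14, 19, 4, 15, 9, 20, 11, 7, 3],
  [0, 1, 19, 23, 16, 18, 3, 10, 2, 11, 5, 20, 12, 14, 15, 6, 7, 13, 22, 21, 8, 9, 4, 17],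
  [0, 1, 17, 13, 18, 10, 9, 15, 11, 2, 23, 8, 19, 21, 20, 3, 12, 4, 6, 16, 14, 22, 7, 5],
  [0, 1, 8, 12, 10, 11, 20, 14, 19, 9, 17, 3, 15, 22, 18, 13, 21, 23, 16, 4, 7, 6, 5, 2],
  [0, 1, 12, 11, 17, 7, 22, 3, 20, 5, 13, 4, 16, 8, 19, 6, 10, 9, 18, 21, 2, 23, 14, 15],
  [0, 1, 21, 19, 8, 5, 6, 13, 18, 2, 12, 23, 4, 3, 15, 16, 11, 20, 10, 22, 9, 17, 7, 14],
  [0, 1, 4, 23, 7, 14, 12, 15, 2, 17, 8, 9, 5, 11, 10, 22, 13, 21, 19, 16, 3, 20, 6, 18],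
  [0, 1, 23, 17, 5, 7, 21, 14, 9, 8, 3, 20, 2, 19, 11, 6, 12, 22, 15, 4, 13, 18, 16, 10],
  [0, 1, 5, 19, 20, 3, 11, 21, 2, 8, 14, 6, 15, 10, 7, 18, 4, 22, 12, 9, 16, 23, 17, 13],
  [0, 1, 2, 23, 17, 12, 6, 3, 16, 19, 14, 7, 5, 15, 18, 13, 4, 8, 20, 22, 10, 9, 21, 11],
  [0, 1, 15, 19, 20, 11, 4, 5, 16, 22, 14, 10, 21, 17, 12, 2, 3, 9, 13, 8, 18, 23, 6, 7],
  [0, 1, 15, 17, 4, 10, 13, 11, 9, 19, 2, 18, 21, 7, 14, 16, 5, 12, 6, 22, 3, 20, 23, 8],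
  [0, 1, 2, 9, 20, 14, 17, 10, 22, 8, 15, 13, 23, 5, 12, 3, 11, 21, 4, 6, 19, 18, 7, 16],
  [0, 1, 2, 11, 8, 5, 6, 23, 4, 22, 18, 3, 12, 13, 20, 15, 17, 16, 10, 21, 14, 19, 9, 7],
  [0, 1, 2, 16, 21, 23, 17, 9, 11, 6, 12, 10, 14, 3, 4, 5, 20, 22, 19, 7, 15, 8, 18, 13],
  [0, 1, 2, 19, 10, 18, 8, 14, 21, 16, 13, 15, 11, 12, 5, 23, 7, 9, 17, 6, 22, 20, 3, 4],
  [0, 1, 2, 8, 19, 12, 21, 15, 7, 22, 3, 5, 16, 14, 23, 9, 13, 18, 20, 17, 6, 4, 10, 11],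
  [0, 1, 2, 7, 16, 12, 6, 11, 17, 21, 20, 23, 5, 15, 10, 13, 8, 4, 14, 9, 18, 22, 19, 3],
  [0, 1, 2, 13, 22, 14, 17, 16, 20, 7, 4, 9, 23, 5, 19, 3, 21, 11, 15, 18, 12, 6, 8, 10],
  [0, 1, 2, 4, 9, 11, 8, 19, 7, 6, 5, 14, 18, 23, 17, 12, 10, 21, 22, 3, 13, 16, 20, 15],
  [0, 1, 2, 22, 14, 20, 16, 18, 9, 4, 15, 13, 7, 5, 12, 11, 3, 19, 8, 6, 21, 10, 23, 17],
  [0, 1, 2, 6, 15, 4, 22, 12, 18, 11, 5, 3, 13, 23, 14, 16, 10, 8, 21, 17, 7, 19, 9, 20],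
  [0, 1, 2, 10, 11, 23, 17, 13, 21, 18, 19, 16, 14, 3, 15, 5, 22, 20, 12, 8, 4, 7, 6, 9],
  [0, 1, 2, 15, 21, 18, 8, 4, 10, 3, 17, 19, 11, 12, 22, 23, 9, 7, 13, 20, 5, 6, 16, 14],
  [0, 1, 2, 5, 7, 12, 21, 11, 19, 10, 20, 8, 16, 14, 6, 9, 18, 13, 3, 4, 23, 17, 22, 15],
  [0, 1, 2, 17, 19, 7, 16, 22, 3, 6, 12, 18, 20, 11, 8, 5, 14, 9, 21, 23, 15, 4, 10, 13],
  [0, 1, 2, 20, 8, 13, 22, 6, 10, 17, 14, 12, 4, 16, 21, 23, 15, 18, 7, 9, 5, 11, 19, 3],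
  [0, 1, 2, 21, 18, 10, 4, 20, 19, 17, 13, 15, 3, 12, 5, 7, 23, 22, 16, 6, 9, 14, 11, 8],
  [0, 1, 2, 14, 7, 11, 8, 15, 9, 20, 22, 4, 18, 23, 13, 12, 21, 10, 5, 16, 17, 3, 6, 19],
  [0, 1, 2, 12, 3, 5, 9, 7, 22, 14, 10, 16, 4, 18, 6, 19, 20, 15, 23, 17, 11, 8, 21, 13],
  [0, 1, 2, 18, 4, 15, 20, 19, 6, 21, 5, 3, 9, 23, 14, 10, 16, 7, 11, 17, 8, 12, 13, 22],
  [0, 1, 2, 3, 18, 4, 22, 20, 15, 9, 21, 6, 13, 23, 7, 16, 8, 10, 5, 19, 14, 17, 11, 12],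
  [0, 1, 2, 22, 23, 14, 19, 16, 6, 17, 4, 12, 13, 10, 7, 11, 9, 18, 5, 3, 21, 8, 20, 15],
  [0, 1, 2, 19, 22, 5, 7, 17, 15, 21, 12, 23, 20, 11, 18, 16, 3, 4, 10, 8, 14, 13, 6, 9],
  [0, 1, 2, 3, 20, 14, 16, 18, 11, 8, 13, 15, 21, 12, 5, 9, 22, 23, 4, 6, 7, 10, 19, 17],
  [0, 1, 2, 4, 12, 5, 14, 7, 21, 6, 10, 20, 3, 23, 9, 17, 11, 19, 13, 15, 16, 22, 8, 18],
  [0, 1, 2, 12, 10, 13, 22, 3, 8, 19, 7, 20, 4, 16, 5, 23, 18, 15, 14, 11, 21, 9, 17, 6],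
  [0, 1, 2, 3, 10, 23, 8, 4, 21, 15, 7, 16, 12, 11, 5, 18, 13, 17, 9, 20, 22, 6, 19, 14],
  [0, 1, 2, 3, 5, 18, 11, 14, 16, 9, 17, 22, 23, 12, 20, 8, 15, 21, 4, 19, 7, 10, 6, 13],
  [0, 1, 2, 3, 9, 10, 19, 22, 18, 15, 6, 8, 11, 14, 4, 13, 21, 7, 23, 20, 5, 17, 16, 12],
  [0, 1, 2, 3, 14, 7, 8, 5, 6, 15, 23, 16, 17, 13, 4, 9, 11, 12, 18, 22, 20, 21, 19, 10],
  [0, 1, 2, 3, 7, 5, 22, 4, 15, 11, 12, 9, 10, 21, 14, 8, 19, 17, 20, 16, 18, 13, 6, 23],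
  [0, 1, 2, 3, 22, 5, 13, 9, 16, 21, 11, 18, 6, 12, 23, 15, 19, 14, 10, 8, 4, 7, 20, 17],
  [0, 1, 2, 3, 21, 12, 15, 18, 17, 16, 20, 8, 13, 6, 4, 5, 23, 10, 9, 14, 11, 22, 19, 7],
  [0, 1, 2, 3, 13, 17, 11, 20, 10, 9, 18, 22, 21, 15, 14, 4, 12, 23, 8, 7, 19, 16, 6, 5],
  [0, 1, 2, 3, 23, 9, 16, 5, 13, 15, 17, 19, 14, 12, 22, 21, 18, 6, 10, 20, 4, 7, 8, 11],
  [0, 1, 2, 3, 8, 13, 6, 19, 4, 9, 16, 11, 15, 5, 20, 12, 10, 18, 17, 7, 14, 23, 22, 21],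
  [0, 1, 2, 3, 15, 7, 20, 19, 9, 18, 8, 21, 16, 5, 10, 11, 6, 4, 14, 22, 23, 17, 13, 12],
  [0, 1, 2, 3, 11, 4, 23, 9, 8, 17, 6, 5, 22, 13, 12, 16, 19, 7, 21, 15, 18, 20, 14, 10],
  [0, 1, 2, 3, 19, 14, 12, 8, 22, 10, 15, 4, 16, 21, 17, 9, 6, 5, 13, 11, 20, 18, 7, 23],
  [0, 1, 2, 3, 17, 13, 16, 5, 10, 8, 14, 15, 23, 22, 18, 4, 12, 21, 9, 7, 6, 11, 19, 20],
  [0, 1, 2, 3, 6, 12, 18, 9, 17, 13, 22, 21, 11, 8, 10, 23, 14, 7, 15, 5, 16, 19, 20, 4],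
  [0, 1, 2, 3, 12, 23, 15, 7, 13, 8, 4, 19, 10, 9, 5, 20, 21, 17, 11, 18, 6, 22, 16, 14],
  [0, 1, 2, 3, 16, 20, 14, 19, 9, 5, 15, 17, 8, 4, 21, 6, 22, 18, 7, 11, 12, 10, 23, 13],
  [0, 1, 2, 3, 17, 8, 22, 14, 12, 9, 23, 6, 5, 21, 19, 10, 4, 16, 13, 7, 20, 18, 11, 15],
  [0, 1, 2, 3, 4, 9, 13, 10, 16, 18, 12, 20, 7, 17, 22, 8, 15, 6, 5, 19, 23, 14, 21, 11],
  [0, 1, 2, 3, 15, 20, 17, 8, 11, 23, 16, 14, 19, 12, 21, 22, 6, 18, 10, 9, 4, 7, 5, 13],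
  [0, 1, 2, 3, 4, 6, 21, 10, 15, 20, 12, 18, 7, 23, 11, 19, 16, 9, 14, 8, 17, 5, 13, 22],
  [0, 1, 2, 3, 23, 19, 4, 17, 13, 7, 14, 12, 5, 9, 16, 18, 20, 8, 6, 21, 22, 11, 10, 15],
  [0, 1, 2, 3, 6, 5, 21, 11, 19, 13, 9, 20, 22, 10, 23, 8, 16, 14, 12, 15, 7, 4, 18, 17],
  [0, 1, 2, 3, 4, 19, 11, 12, 21, 9, 7, 22, 10, 14, 15, 13, 20, 16, 5, 18, 17, 23, 6, 8],
  [0, 1, 2, 3, 4, 18, 17, 12, 15, 5, 7, 23, 10, 6, 21, 16, 8, 13, 9, 19, 11, 22, 14, 20],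
  [0, 1, 2, 3, 4, 20, 23, 12, 16, 14, 7, 17, 10, 9, 13, 15, 19, 21, 6, 8, 22, 11, 5, 18],
  [0, 1, 2, 3, 4, 13, 14, 12, 8, 23, 7, 5, 10, 11, 20, 19, 15, 18, 22, 16, 6, 9, 17, 21],
  [0, 1, 2, 3, 4, 21, 5, 12, 19, 17, 7, 14, 10, 22, 18, 8, 16, 20, 11, 15, 9, 6, 23, 13],
  [0, 1, 2, 3, 4, 11, 23, 7, 13, 17, 10, 5, 12, 8, 22, 18, 20, 9, 15, 21, 16, 19, 14, 6],
  [0, 1, 2, 3, 4, 8, 18, 7, 5, 20, 10, 13, 12, 11, 19, 23, 17, 16, 6, 14, 9, 22, 21, 15],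
  [0, 1, 2, 3, 4, 14, 9, 7, 19, 6, 10, 22, 12, 21, 5, 16, 15, 23, 20, 8, 18, 13, 11, 17],
  [0, 1, 2, 3, 4, 23, 11, 7, 15, 22, 10, 6, 12, 18, 17, 8, 19, 14, 13, 16, 21, 20, 9, 5],
  [0, 1, 2, 3, 4, 17, 22, 7, 16, 11, 10, 9, 12, 20, 23, 19, 8, 5, 21, 15, 13, 18, 6, 14],
  [0, 1, 2, 3, 4, 22, 8, 12, 14, 16, 7, 19, 10, 21, 6, 5, 17, 9, 13, 23, 20, 18, 15, 11],
  [0, 1, 2, 3, 4, 16, 5, 10, 9, 23, 12, 17, 7, 20, 19, 11, 6, 15, 13, 22, 18, 21, 14, 8],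
  [0, 1, 2, 3, 4, 15, 14, 10, 6, 17, 12, 23, 7, 18, 8, 22, 9, 16, 21, 11, 20, 13, 5, 19],
  [0, 1, 2, 3, 4, 8, 22, 12, 13, 6, 7, 11, 10, 5, 16, 21, 18, 15, 14, 20, 23, 17, 9, 19],
  [0, 1, 2, 3, 4, 5, 21, 12, 11, 18, 7, 13, 10, 8, 17, 22, 6, 23, 19, 9, 15, 16, 20, 14],
  [0, 1, 2, 3, 4, 5, 16, 10, 13, 19, 12, 8, 7, 11, 23, 20, 21, 14, 9, 18, 22, 6, 15, 17]
]

theorem m23sTabs_eq :
    runSLP m23sProg [idT, m23sY, compT m23sH (compT m23sY (invT m23sH))] = m23sTabs := by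
  decide +kernel

/-- Base point, orbit, node numbers of the transversal, for each level. -/
def m23sSpecs : List (ℕ × List ℕ × List ℕ) := [
  (1, [1, 2, 3, 4, 5, 6, 7, 8, 9, 10, 11, 12, 13, 14, 15, 16, 17, 18, 19, 20, 21, 22, 23],
    [0, 1, 17, 4, 15, 3, 21, 2, 14, 16, 13, 8, 5, 6, 12, 7, 11, 10, 20, 22, 9, 19, 18]),
  (2, [2, 3, 4, 5, 6, 7, 8, 9, 10, 11, 12, 13, 14, 15, 16, 17, 18, 19, 20, 21, 22, 23],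
    [0, 31, 44, 29, 33, 28, 41, 36, 26, 27, 42, 32, 30, 35, 34, 40, 23, 39, 37, 43, 38, 45]),
  (3, [3, 4, 5, 6, 7, 8, 9, 10, 11, 12, 13, 14, 15, 16, 17, 18, 19, 20, 21, 22, 23],
    [0, 57, 62, 59, 55, 54, 50, 60, 51, 67, 56, 66, 61, 52, 63, 68, 53, 64, 65, 58, 47]),
  (4, [4, 5, 6, 7, 8, 9, 10, 11, 12, 13, 14, 15, 16, 17, 18, 19, 20, 21, 22, 23],
    [0, 76, 89, 79, 84, 77, 75, 86, 90, 82, 78, 85, 91, 88, 69, 87, 72, 81, 80, 83]),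
  (5, [5, 6, 8, 9, 11, 13, 14, 15, 16, 17, 18, 19, 20, 21, 22, 23],
    [0, 95, 104, 93, 103, 101, 105, 110, 109, 107, 99, 98, 100, 102, 108, 106]),
  (7, [7, 10, 12],
    [0, 113, 112])
]

/-- The levels of the chain. -/
def m23sLevels : List Level := m23sSpecs.map (mkLevel m23sTabs)

theorem m23sLevels_mem : ∀ L ∈ m23sLevels, ∀ l ∈ L.T, l ∈ m23sTabs := by
  intro L hL l hl
  rw [m23sLevels, List.mem_map] at hL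
  obtain ⟨s, _, rfl⟩ := hL
  exact mkLevel_T_mem _ _ l hl

theorem tabled_m23sY : Tabled (fixG M24 [0]) m23sY := by
  rw [← m23sY_eq]
  exact ((tabled_prodIdx (fun l hl => (tabled_m24Tabs l hl).mono genGroup_le_M24) _).pow _).fixG
    (by decide +kernel) (by decide)

theorem tabled_m23sH : Tabled (fixG M24 [0]) m23sH := by
  rw [← m23sH_eq]
  exact (tabled_prodIdx (fun l hl => (tabled_m24Tabs l hl).mono genGroup_le_M24) _).fixG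
    (by decide +kernel) (by decide)

/-- The stabiliser of a point in `M24` is simple. -/
theorem m23_simple : IsSimpleGroup (fixG M24 [0]) := by
  have h1 : baseRev m24Levels 1 ++ [] = [0] := by decide +kernel
  have hB := bounds_drop 1 m24_bounds
  have hok := chainOK_drop (F := []) 1 m24_chainOK
  rw [h1] at hB hok
  have hmask : ∀ i < 24, (16777214 : ℕ).testBit i = ((16777215 : ℕ).testBit i && !(List.contains [0] i)) := by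
    decide
  exact simple_of_sylow_cert (Ls := m24Levels.drop 1)
    (fun L hL l hl => tabled_m24Levels L (List.mem_of_mem_drop hL) l hl) hok hB (by decide)
    (p := 23) (m := 443520) (by norm_num) (by rw [card_fixG_m24_1]) (by norm_num)
    tabled_m23sY tabled_m23sH (by decide +kernel) (by decide +kernel)
    m23sTabs_eq m23sLevels_mem (by decide +kernel) (by decide +kernel)
    16777214 (diff_mask_inv M24 [0] 16777215 16777214 (fun g _ => full_mask_inv g) hmask)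
    (by decide +kernel) (by decide) (by decide +kernel)
    (diff_mask_faithful M24 [0] 16777215 16777214 hmask (full_mask_faithful M24))
    (by decide +kernel)

end Cfsg.Agent.Helper7
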