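import Cfsg.Agent.Helper7.M11PSL11

/-!
# The stabiliser of a dodecad, a point on it and a point off it is `PSL(2, 11)`
-/

set_option autoImplicit false

namespace Cfsg.Agent.Helper7

open Cfsg MulAction
open scoped Pointwise

/-- The order of the stabiliser of the standard dodecad and the points `0`, `5`. -/
theorem card_fixG_m12_50 : Nat.card (fixG M12 [5, 0]) = 660 := by
  have hlen : m11cLevels.length = 3 := by decide +kernel
  have hb := m11c_b
  have hol : m11cLevels.map (fun L => L.orb.length) = [12, 11, 10] := by decide +kernel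
  have hok := m11c_chainOK
  have hfull := m11c_full
  have hT := tabled_m11cLevels
  rcases hL : m11cLevels with _ | ⟨L, Ls⟩
  · rw [hL] at hlen
    simp at hlen
  rw [hL] at hb hol hok hfull hT
  rw [List.map_cons, List.cons.injEq] at hb hol
  rw [chainOK, Bool.and_eq_true, Bool.and_eq_true, Bool.and_eq_true] at hok
  obtain ⟨⟨⟨h1, h2⟩, h3⟩, _⟩ := hok
  rw [fullOK, Bool.and_eq_true, List.all_eq_true] at hfull
  have hb24 : L.b < 24 := by simpa [Nat.blt_eq] using h3
  have hnd : L.orb.Nodup := of_decide_eq_true h2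
  have hbound : ∀ g ∈ fixG M12 [0], idx (g (pt L.b)) ∈ L.orb := by
    intro g hg
    have h5 : d0c.testBit (idx (pt L.b)) = true := by
      rw [hb.1]
      decide +kernel
    have h6 := M12_inv_c g hg.1 _ h5
    have h7 := hfull.1 (idx (g (pt L.b))) (List.mem_range.mpr (idx_lt _))
    rw [h6] at h7
    have h8 : ([0] : List ℕ).contains (idx (g (pt L.b))) = false := by
      rw [List.contains_eq_mem, decide_eq_false_iff_not, List.mem_singleton]
      intro h0
      rw [h0] at h6
      revert h6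
      decide +kernel
    rw [h8] at h7
    simpa using h7
  have := level_card (H := M12) (F := [0]) (fun l hl => hT L (List.mem_cons_self ..) l hl) h1 hb24
    hnd hbound
  rw [card_fixG_m12_1, hb.1, hol.1] at this
  omega

theorem l11_h1 : ∀ g ∈ fixG M12 [5, 0], ∃ l ∈ c660Tabs, IsTable l g := by
  intro g hg
  have hg0 : g ∈ fixG M12 [0] := ⟨hg.1, fun i hi => hg.2 i (List.mem_cons_of_mem _ hi)⟩
  obtain ⟨l, hl, hlt⟩ := m11_sift g hg0
  refine ⟨l, ?_, hlt⟩
  have h5 : g (pt 5) = pt 5 := hg.2 5 (by simp)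
  have h6 := hlt.2 (pt 5)
  rw [h5, idx_pt (by norm_num)] at h6
  have hmem : l ∈ m11Tabs.filter (fun l => Nat.beq (l.getD 5 0) 5) := by
    rw [List.mem_filter]
    refine ⟨hl, ?_⟩
    rw [← h6]
    rfl
  rw [c660Tabs_eq, List.mem_map] at hmem
  obtain ⟨i, _, hi⟩ := hmem
  by_cases hi660 : i < c660Tabs.length
  · rw [List.getD_eq_getElem _ _ hi660] at hi
    rw [← hi]
    exact List.getElem_mem hi660
  · rw [List.getD_eq_default _ _ (by omega)] at hi
    have := hlt.1
    rw [← hi] at this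
    simp at this

theorem c660_nodup : c660Tabs.Nodup :=
  (nodup_and_tabled_of_card _ c660Tabs l11_h1 (by rw [card_fixG_m12_50, c660_length])).1

theorem l11_h2 : ∀ l ∈ c660Tabs, ∃ g ∈ fixG M12 [5, 0], IsTable l g :=
  (nodup_and_tabled_of_card _ c660Tabs l11_h1 (by rw [card_fixG_m12_50, c660_length])).2

theorem valQ11_of_mem {e : List ℕ × Q11 × ℕ × ℕ} (he : e ∈ c660) : valQ11 e.1 = e.2.1 := by
  rw [valQ11, lookupT_eq_of_mem _ c660 c660_nodup (l := e.1) (a := e.2) he]

theorem c660_mem_of_tab {l : List ℕ} (hl : l ∈ c660Tabs) :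
    ∃ e ∈ c660, e.1 = l ∧ e.2.1 = valQ11 l := by
  rw [c660Tabs, List.mem_map] at hl
  obtain ⟨e, he, rfl⟩ := hl
  exact ⟨e, he, rfl, (valQ11_of_mem he).symm⟩

theorem c660_det_red {e : List ℕ × Q11 × ℕ × ℕ} (he : e ∈ c660) :
    q11det1 e.2.1 = true ∧ q11red e.2.1 = true := by
  have h := c660_det
  rw [List.all_eq_true] at h
  have := h e he
  rwa [Bool.and_eq_true] at this

theorem c660_take_mem {x : List ℕ × Q11} (hx : x ∈ [(idT, ((1, 0, 0, 1) : Q11)), g11a, g11b]) :
    ∃ e ∈ c660, e.1 = x.1 ∧ e.2.1 = x.2 := by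
  rw [← c660_head, List.mem_map] at hx
  obtain ⟨e, he, rfl⟩ := hx
  exact ⟨e, List.mem_of_mem_take he, rfl, rfl⟩

theorem mulChk1_sound {e : List ℕ × Q11 × ℕ × ℕ} {f : List ℕ × Q11} {n : ℕ}
    (h : mulChk1 e f n = true) :
    ∃ t ∈ c660, t.1 = compT e.1 f.1 ∧ mulOK t.2.1 (q11mul e.2.1 f.2) = true := by
  unfold mulChk1 at h
  split at h
  · rename_i t ht
    rw [Bool.and_eq_true] at h
    refine ⟨t, List.mem_of_getElem? ht, by simpa using h.1, h.2⟩
  · exact absurd h (by simp)

/-- The stabiliser of the standard dodecad and the points `0`, `5` is `PSL(2, 11)`. -/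
theorem l11_std : Nonempty (fixG M12 [5, 0] ≃*
    Matrix.ProjectiveSpecialLinearGroup (Fin 2) (ZMod 11)) := by
  haveI : Finite (Matrix.ProjectiveSpecialLinearGroup (Fin 2) (ZMod 11)) :=
    Nat.finite_of_card_ne_zero (by rw [card_PSL11]; norm_num)
  refine nonempty_mulEquiv_of_slp (fixG M12 [5, 0]) c660Tabs c660_nodup l11_h1 l11_h2
    [g11a.1, g11b.1] ?_ l11Prog ?_ (fun l => pslOf (valQ11 l)) ?_ ?_ ?_ ?_
  · intro s hs
    have : ∃ x ∈ [(idT, ((1, 0, 0, 1) : Q11)), g11a, g11b], x.1 = s := by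
      simp only [List.mem_cons, List.not_mem_nil, or_false] at hs
      rcases hs with rfl | rfl
      · exact ⟨g11a, by simp, rfl⟩
      · exact ⟨g11b, by simp, rfl⟩
    obtain ⟨x, hx, rfl⟩ := this
    obtain ⟨e, he, he1, _⟩ := c660_take_mem hx
    rw [← he1]
    exact List.mem_map.mpr ⟨e, he, rfl⟩
  · intro l hl
    rw [l11Out_eq]
    exact hl
  · obtain ⟨e, he, he1, he2⟩ := c660_take_mem (x := (idT, ((1, 0, 0, 1) : Q11))) (by simp)
    show pslOf (valQ11 idT) = 1
    have := valQ11_of_mem he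
    rw [he1, he2] at this
    rw [this]
    exact pslOf_one
  · intro l hl s hs
    obtain ⟨e, he, rfl, hev⟩ := c660_mem_of_tab hl
    have hf : ∃ f ∈ [g11a, g11b], f.1 = s ∧ mulChk1 e f (if f = g11a then e.2.2.1 else e.2.2.2) = true := by
      have h := c660_mul
      rw [List.all_eq_true] at h
      have h3 := h e he
      rw [Bool.and_eq_true] at h3
      simp only [List.mem_cons, List.not_mem_nil, or_false] at hs
      rcases hs with rfl | rfl
      · exact ⟨g11a, by simp, rfl, by rw [if_pos rfl]; exact h3.1⟩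
      · refine ⟨g11b, by simp, rfl, ?_⟩
        have : g11b ≠ g11a := by decide +kernel
        rw [if_neg this]
        exact h3.2
    obtain ⟨f, hf, rfl, hchk⟩ := hf
    obtain ⟨t, ht, ht1, ht2⟩ := mulChk1_sound hchk
    obtain ⟨e', he', he'1, he'2⟩ := c660_take_mem (x := f) (List.mem_cons_of_mem _ hf)
    have hfv : valQ11 f.1 = f.2 := by
      have := valQ11_of_mem he'
      rwa [he'1, he'2] at this
    have htv : valQ11 (compT e.1 f.1) = t.2.1 := by
      have := valQ11_of_mem ht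
      rwa [ht1] at this
    have hdl := (c660_det_red he).1
    have hdf : q11det1 f.2 = true := by
      have := (c660_det_red he').1
      rwa [he'2] at this
    show pslOf (valQ11 (compT e.1 f.1)) = pslOf (valQ11 e.1) * pslOf (valQ11 f.1)
    rw [hfv, htv, ← hev]
    rw [mulOK, Bool.and_eq_true, Bool.and_eq_true, Bool.or_eq_true, decide_eq_true_eq,
      decide_eq_true_eq] at ht2
    obtain ⟨⟨hd, hdn⟩, h5⟩ := ht2
    rcases h5 with h5 | h5
    · rw [h5, pslOf_mul hdl hdf hd]
    · rw [h5, pslOf_neg hd hdn, pslOf_mul hdl hdf hd]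
  · intro l hl h
    obtain ⟨e, he, rfl, hev⟩ := c660_mem_of_tab hl
    have hdr := c660_det_red he
    have h' : pslOf e.2.1 = 1 := by rw [hev]; exact h
    have hk := c660_ker
    rw [List.all_eq_true] at hk
    have h2 := hk _ he
    rcases pslOf_eq_one hdr.1 hdr.2 h' with h1 | h1
    all_goals
      rw [h1] at h2
      simpa using h2
  · rw [card_PSL11, c660_length]

/-- The joint stabiliser of the standard configuration. -/
def stabL11Equiv : stabilizer M24 ((d0F, pt 0), pt 5) ≃* fixG M12 [5, 0] where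
  toFun k := ⟨k.1.1, by
    have hk : k.1 ∈ stabilizer M24 d0F ⊓ stabilizer M24 (pt 0) ⊓ stabilizer M24 (pt 5) := by
      rw [← stabilizer_prod_eq, ← stabilizer_prod_eq]
      exact k.2
    obtain ⟨⟨h0, h1⟩, h2⟩ := hk
    refine ⟨(mem_M12_iff _).mpr ⟨k.1.2, h0⟩, fun i hi => ?_⟩
    simp only [List.mem_cons, List.not_mem_nil, or_false] at hi
    rcases hi with rfl | rfl
    · exact h2
    · exact h1⟩
  invFun k := ⟨⟨k.1, ((mem_M12_iff _).mp k.2.1).1⟩, by
    rw [stabilizer_prod_eq, stabilizer_prod_eq]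
    refine ⟨⟨?_, ?_⟩, ?_⟩
    · exact ((mem_M12_iff _).mp k.2.1).2
    · exact k.2.2 0 (by simp)
    · exact k.2.2 5 (by simp)⟩
  left_inv k := rfl
  right_inv k := rfl
  map_mul' k k' := rfl

/-- Standard position for a dodecad, a point on it and a point off it. -/
theorem exists_std_dp1 {d : Finset GolayPt} (hd : d ∈ dodecads) {p q : GolayPt} (hp : p ∈ d)
    (hq : q ∉ d) : ∃ s : M24, s • d0F = d ∧ s • pt 0 = p ∧ s • pt 5 = q := by
  have hcard : d.card = 12 := by
    obtain ⟨w, _, _, hc⟩ := (mem_dodecads_iff d).mp hd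
    exact hc
  have hc2 : 1 < dᶜ.card := by
    rw [Finset.card_compl, hcard]
    have : Fintype.card GolayPt = 24 := by decide
    omega
  obtain ⟨q', hq', hne⟩ := Finset.exists_mem_ne hc2 q
  rw [Finset.mem_compl] at hq'
  obtain ⟨s, h1, h2, h3, _⟩ := exists_std_dpp hd hp hq hq' (Ne.symm hne)
  exact ⟨s, h1, h2, h3⟩

/-- The stabiliser of a dodecad, a point on it and a point off it is `PSL(2, 11)`. -/
theorem dodecad_point_point_stab {d : Finset GolayPt} (hd : d ∈ dodecads) {p q : GolayPt}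
    (hp : p ∈ d) (hq : q ∉ d) :
    Nonempty (↥(stabilizer M24 d ⊓ stabilizer M24 p ⊓ stabilizer M24 q) ≃*
      Matrix.ProjectiveSpecialLinearGroup (Fin 2) (ZMod 11)) := by
  obtain ⟨s, rfl, rfl, rfl⟩ := exists_std_dp1 hd hp hq
  obtain ⟨e⟩ := l11_std
  rw [← stabilizer_prod_eq, ← stabilizer_prod_eq]
  have hs : ((s • d0F, s • pt 0), s • pt 5) = s • ((d0F, pt 0), pt 5) := rfl
  rw [hs]
  exact ⟨((stabilizerEquivStabilizer (G := M24) (g := s) rfl).symm.trans stabL11Equiv).trans e⟩

end Cfsg.Agent.Helper7
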