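import Cfsg.Agent.Helper7.Fus24Check
import Cfsg.Agent.Helper26.OctadStab

/-!
# The 2-fusion system of `M24` is simple

Certificates for the Sylow 2-subgroup `⟨tg⟩` of `M24` and the hypotheses of `Fus.Hyp`.
-/

set_option autoImplicit false

namespace Cfsg.Agent.Helper7.Fus24

open Cfsg Cfsg.Agent.Helper7 Cfsg.Agent.Helper7.Fus
open scoped Pointwise

/-! ### membership in `M24` -/

theorem tabled_of_map {ix tabs : List (List ℕ)} (h : ix.map (prodAt m24Levels) = tabs) :
    ∀ l ∈ tabs, Tabled M24 l := by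
  intro l hl
  rw [← h, List.mem_map] at hl
  obtain ⟨i, _, rfl⟩ := hl
  exact tabled_prodAt m24Levels tabled_m24Levels i

/-! ### the list of elements -/

theorem tab_T : ∀ l ∈ T, Tabled (genSub tg) l := by
  have hg := tabled_gen (tabled_of_map tg_eq)
  have hacc : ∀ l ∈ tg.reverse ++ [idT], Tabled (genSub tg) l := by
    intro l hl
    rw [List.mem_append, List.mem_reverse, List.mem_singleton] at hl
    rcases hl with hl | rfl
    · exact hg l hl
    · exact tabled_idT _
  intro l hl
  rw [T, List.mem_cons, List.mem_append] at hl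
  rcases hl with rfl | hl | hl
  · exact tabled_idT _
  · exact hg l hl
  · exact tabled_of_checkSLP (genSub tg) prog _ outs slp_ok hacc l hl

theorem mem_T : ∀ x ∈ genSub tg, ∃ l ∈ T, IsTable l x := by
  apply mem_tab
  · rw [T]; exact List.mem_cons_self ..
  · intro t ht
    have := List.all_eq_true.mp tg_inv t ht
    simpa using this
  · intro t ht l hl
    obtain ⟨nx, hnx⟩ := exists_mem_zip (show tg.length = nxt.length by decide) ht
    exact mem_of_stepOK (List.all_eq_true.mp steps_ok _ hnx) hl

theorem T_nodup : T.Nodup := List.Nodup.of_map encT enc_nodup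

theorem zT_mem : zT ∈ T := by
  have : T.contains zT = true := by decide +kernel
  exact List.contains_iff_mem.mp this

theorem hyp24 : Hyp M24 tg T zT flag where
  tabH := tabled_of_map tg_eq
  mem := mem_T
  tab := tab_T
  nodup := T_nodup
  cent := cent_ok
  zmem := zT_mem
  zne := zT_ne
  zcomm := zT_comm
  flagT := flag_ok

/-! ### the centraliser of the central involution -/

theorem smul_O0F_of_stable {g : Equiv.Perm GolayPt}
    (h : ∀ p, m24O.testBit (idx (g p)) = m24O.testBit (idx p)) : g • O0F = O0F := by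
  ext y
  rw [← Finset.inv_smul_mem_iff, O0F, mem_support₂_word, mem_support₂_word,
    Equiv.Perm.smul_def, ← h (g⁻¹ y)]
  simp

theorem card_centralizer_le {ζ : ↥M24} (hζ : IsTable zT ζ.1) :
    Nat.card (Subgroup.centralizer ({ζ} : Set ↥M24)) ≤ 21504 := by
  classical
  let K : Subgroup ↥M24 := (Helper26.octS O0F).subgroupOf M24
  have hK : Nat.card K = 322560 := by
    rw [← Helper26.card_octS O0F_mem]
    exact Nat.card_congr (Subgroup.subgroupOfEquivOfLe inf_le_left).toEquiv
  have hζfix : ∀ p, m24O.testBit (idx p) = true → ζ.1 p = p := (fixesMask_iff hζ).mp zT_fix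
  have hζne : ζ.1 ≠ 1 := by
    intro h
    rw [h] at hζ
    exact zT_ne (table_unique hζ isTable_one)
  have hCK : Subgroup.centralizer ({ζ} : Set ↥M24) ≤ K := by
    intro g hg
    rw [Subgroup.mem_centralizer_iff] at hg
    have hcomm : ζ * g = g * ζ := hg ζ rfl
    rw [Subgroup.mem_subgroupOf, Subgroup.mem_inf]
    refine ⟨g.2, ?_⟩
    rw [MulAction.mem_stabilizer_iff]
    apply Finset.eq_of_subset_of_card_le
    · intro y hy
      obtain ⟨x, hx, rfl⟩ := Finset.mem_smul_finset.mp hy
      show g.1 x ∈ O0F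
      by_contra hnot
      have hx' : m24O.testBit (idx x) = true := (mem_support₂_word m24O x).mp hx
      have h1 : ζ.1 (g.1 x) = g.1 x := by
        have h0 := congrArg (fun q : ↥M24 => q.1 x) hcomm
        simp only [Subgroup.coe_mul, Equiv.Perm.mul_apply] at h0
        rw [h0, hζfix x hx']
      have h2 : m24O.testBit (idx (g.1 x)) = false := by
        by_contra hcon
        exact hnot ((mem_support₂_word m24O _).mpr (by simpa using hcon))
      have hζP : ζ.1 ∈ ptFix M24 m24O := ⟨ζ.2, hζfix⟩
      exact hζne (Helper26.ptFix_free hζP h2 h1)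
    · rw [Finset.card_smul_finset]
  -- the 15 elements
  have hex : ∀ i : Fin hs.length, ∃ c : ↥M24, IsTable hs[i] c.1 := by
    intro i
    obtain ⟨g, hg, hl⟩ := tabled_of_map hs_eq hs[i] (List.getElem_mem i.2)
    exact ⟨⟨g, hg⟩, hl⟩
  choose c hc using hex
  have hcK : ∀ i, c i ∈ K := by
    intro i
    rw [Subgroup.mem_subgroupOf, Subgroup.mem_inf]
    refine ⟨(c i).2, ?_⟩
    rw [MulAction.mem_stabilizer_iff]
    apply smul_O0F_of_stable
    exact (maskStable_iff (hc i)).mp (List.all_eq_true.mp hs_stable _ (List.getElem_mem i.2))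
  have hd : ∀ i j, i ≠ j → (c i)⁻¹ * c j ∉ Subgroup.centralizer ({ζ} : Set ↥M24) := by
    intro i j hij hmem
    rw [Subgroup.mem_centralizer_iff] at hmem
    have h1 : ζ * ((c i)⁻¹ * c j) = (c i)⁻¹ * c j * ζ := hmem ζ rfl
    have h2 : c i * ζ * (c i)⁻¹ = c j * ζ * (c j)⁻¹ := by
      calc c i * ζ * (c i)⁻¹ = c i * (ζ * ((c i)⁻¹ * c j)) * (c j)⁻¹ := by group
        _ = c i * ((c i)⁻¹ * c j * ζ) * (c j)⁻¹ := by rw [h1]
        _ = c j * ζ * (c j)⁻¹ := by group
    have h3 : IsTable (conjT hs[i] zT) ((c i).1 * ζ.1 * (c i).1⁻¹) := isTable_conj (hc i) hζ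
    have h4 : IsTable (conjT hs[j] zT) ((c j).1 * ζ.1 * (c j).1⁻¹) := isTable_conj (hc j) hζ
    have h5 : (c i).1 * ζ.1 * (c i).1⁻¹ = (c j).1 * ζ.1 * (c j).1⁻¹ := congrArg Subtype.val h2
    rw [h5] at h3
    have h6 := table_unique h3 h4
    have hi : i.1 < (hs.map (fun h => conjT h zT)).length := by rw [List.length_map]; exact i.2
    have hj : j.1 < (hs.map (fun h => conjT h zT)).length := by rw [List.length_map]; exact j.2
    have h7 : (hs.map (fun h => conjT h zT))[i.1] = (hs.map (fun h => conjT h zT))[j.1] := by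
      rw [List.getElem_map, List.getElem_map]
      exact h6
    exact hij (Fin.ext ((List.Nodup.getElem_inj_iff hs_conj_nodup).mp h7))
  have h1 := mul_card_le _ K hCK hs.length c hcK hd
  rw [hK, hs_length] at h1
  omega

/-! ### conclusion -/

theorem fact_card_M24 : (Nat.card ↥M24).factorization 2 = 10 := by
  rw [card_M24]
  have h : (244823040 : ℕ) = 2 ^ 10 * 239085 := by norm_num
  rw [h, Nat.factorization_mul (by norm_num) (by norm_num), Finsupp.add_apply,
    Nat.Prime.factorization_pow Nat.prime_two,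
    Nat.factorization_eq_zero_of_not_dvd (show ¬ 2 ∣ 239085 by norm_num)]
  simp

/-- The 2-fusion system of `M24` on any Sylow 2-subgroup is simple. -/
theorem isSimple_M24 (S : Sylow 2 ↥M24) :
    (groupFusionSystem (S : Subgroup ↥M24)).IsSimple 2 := by
  obtain ⟨ζ, hζS, hζ⟩ := hyp24.exists_zeta
  have hN := hyp24.normalizer_le cs (tabled_of_map cs_eq) cs_comm cs_pair 21504 hζS hζ
    (card_centralizer_le hζ) (by rw [cs_length, T_length]; norm_num)
  have hT := hyp24.noStrClosed gs (tabled_of_map gs_eq) gs_conj ⟨10, by rw [T_length]; norm_num⟩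
  exact hyp24.isSimple (by rw [fact_card_M24, T_length]; norm_num) hN hT S

end Cfsg.Agent.Helper7.Fus24
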