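import Cfsg.Agent.Helper7.Fus24Data

/-!
# The 2-fusion system of `M24`: kernel-checked table certificates
-/

set_option autoImplicit false

namespace Cfsg.Agent.Helper7.Fus24

open Cfsg Cfsg.Agent.Helper7 Cfsg.Agent.Helper7.Fus

theorem tg_eq : tgIdx.map (prodAt m24Levels) = tg := by decide +kernel
theorem cs_eq : csIdx.map (prodAt m24Levels) = cs := by decide +kernel
theorem gs_eq : gsIdx.map (prodAt m24Levels) = gs := by decide +kernel
theorem hs_eq : hsIdx.map (prodAt m24Levels) = hs := by decide +kernel

theorem slp_ok : checkSLP prog (tg.reverse ++ [idT]) outs = true := by decide +kernel

theorem steps_ok : (tg.zip nxt).all (stepOK T) = true := by decide +kernel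

theorem tg_inv : tg.all (fun t => invT t == t) = true := by decide +kernel

theorem enc_nodup : (T.map encT).Nodup := by decide +kernel

theorem T_length : T.length = 1024 := by decide +kernel

theorem cent_ok : T.all (fun l => l == idT || l == zT ||
    tg.any (fun t => compT l t != compT t l)) = true := by decide +kernel

theorem zT_ne : zT ≠ idT := by decide +kernel

theorem zT_comm : tg.all (fun t => compT zT t == compT t zT) = true := by decide +kernel

theorem flag_ok : T.all flag = true := by decide +kernel

theorem zT_fix : fixesMask m24O zT = true := by decide +kernel

theorem hs_stable : hs.all (maskStable m24O) = true := by decide +kernel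

theorem hs_conj_nodup : (hs.map (fun h => conjT h zT)).Nodup := by decide +kernel

theorem hs_length : hs.length = 15 := by decide +kernel

theorem cs_comm : cs.all (fun c => compT c zT == compT zT c) = true := by decide +kernel

theorem cs_pair : (List.range cs.length).all (fun i => (List.range cs.length).all (fun j =>
    i == j || tg.any (fun t =>
      !flag (conjT (compT (invT (cs.getD i idT)) (cs.getD j idT)) t)))) = true := by
  decide +kernel

theorem cs_length : cs.length = 21 := by decide +kernel

theorem gs_conj : tg.all (fun t => gs.any (fun g => conjT g zT == t)) = true := by decide +kernel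

end Cfsg.Agent.Helper7.Fus24
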