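import Cfsg.Agent.Helper7.SLP2
import Cfsg.Agent.Helper7.OctadFix
import Cfsg.Agent.Helper63.PGroup
import Cfsg.Agent.Helper85.SimpleCrit

/-!
# Simplicity of the 2-fusion system of a permutation group on the 24 points, from table certificates

`H` is a subgroup of the permutations of the 24 points. A Sylow 2-subgroup is given as the subgroup
generated by a few involutions (tables `tg`), all of its elements are listed (`T`), its centre is
`⟨z⟩`, its normaliser is bounded through the centraliser of `z`, and the generators are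
`H`-conjugates of `z`. The criterion of helper85 then gives simplicity of the fusion system.
-/

set_option autoImplicit false

namespace Cfsg.Agent.Helper7.Fus

open Cfsg Cfsg.Agent.Helper7

/-! ### generalities -/

/-- `n` elements of `K` that are pairwise inequivalent modulo `N ≤ K` give `n * |N| ≤ |K|`. -/
theorem mul_card_le {G : Type*} [Group G] [Finite G] (N K : Subgroup G) (hNK : N ≤ K) (n : ℕ)
    (c : Fin n → G) (hc : ∀ i, c i ∈ K) (hd : ∀ i j, i ≠ j → (c i)⁻¹ * c j ∉ N) :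
    n * Nat.card N ≤ Nat.card K := by
  classical
  let f : Fin n × N → K := fun p => ⟨c p.1 * p.2.1, K.mul_mem (hc p.1) (hNK p.2.2)⟩
  have hf : Function.Injective f := by
    rintro ⟨i, h⟩ ⟨j, h'⟩ heq
    have heq' : c i * h.1 = c j * h'.1 := congrArg Subtype.val heq
    have hij : i = j := by
      by_contra hne
      apply hd i j hne
      have h3 : (c i)⁻¹ * c j = h.1 * h'.1⁻¹ := by
        rw [inv_mul_eq_iff_eq_mul, ← mul_assoc, heq', mul_assoc, mul_inv_cancel, mul_one]
      rw [h3]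
      exact N.mul_mem h.2 (N.inv_mem h'.2)
    subst hij
    have h4 : h.1 = h'.1 := mul_left_cancel heq'
    exact Prod.ext rfl (Subtype.ext h4)
  have h5 := Nat.card_le_card_of_injective f hf
  rwa [Nat.card_prod, Nat.card_fin] at h5

theorem exists_mem_zip {α β : Type*} {l : List α} {l' : List β} (h : l.length = l'.length) {a : α}
    (ha : a ∈ l) : ∃ b, (a, b) ∈ l.zip l' := by
  obtain ⟨i, hi, rfl⟩ := List.mem_iff_getElem.mp ha
  have hi' : i < l'.length := h ▸ hi
  refine ⟨l'[i], ?_⟩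
  have hz : i < (l.zip l').length := by rw [List.length_zip]; omega
  have h1 : (l.zip l')[i] = (l[i], l'[i]) := List.getElem_zip
  rw [← h1]
  exact List.getElem_mem hz

/-- table of a conjugate `g t g⁻¹` -/
def conjT (g t : List ℕ) : List ℕ := compT (compT g t) (invT g)

theorem isTable_conj {g t : List ℕ} {x y : Equiv.Perm GolayPt} (hg : IsTable g x)
    (ht : IsTable t y) : IsTable (conjT g t) (x * y * x⁻¹) := (hg.mul ht).mul hg.inv

theorem table_unique {l l' : List ℕ} {x : Equiv.Perm GolayPt} (h : IsTable l x)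
    (h' : IsTable l' x) : l = l' := by
  rw [h.eq_map, h'.eq_map]

/-! ### the generated subgroup and its list of tables -/

/-- the subgroup generated by the permutations with tables in `tg` -/
def genSub (tg : List (List ℕ)) : Subgroup (Equiv.Perm GolayPt) :=
  Subgroup.closure {g | ∃ l ∈ tg, IsTable l g}

theorem genSub_le {H : Subgroup (Equiv.Perm GolayPt)} {tg : List (List ℕ)}
    (h : ∀ l ∈ tg, Tabled H l) : genSub tg ≤ H := by
  rw [genSub, Subgroup.closure_le]
  rintro g ⟨l, hl, hg⟩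
  obtain ⟨g', hg', hl'⟩ := h l hl
  rw [hg.inj hl']
  exact hg'

theorem tabled_gen {H : Subgroup (Equiv.Perm GolayPt)} {tg : List (List ℕ)}
    (h : ∀ l ∈ tg, Tabled H l) : ∀ l ∈ tg, Tabled (genSub tg) l := by
  intro l hl
  obtain ⟨g, -, hg⟩ := h l hl
  exact ⟨g, Subgroup.subset_closure ⟨l, hl, hg⟩, hg⟩

/-- check of one right multiplication: `q = (t, nx)` with `T[i] * t = T[nx[i]]` -/
def stepOK (T : List (List ℕ)) (q : List ℕ × List ℕ) : Bool :=
  (q.2.length == T.length) &&
    (T.zip q.2).all (fun p => decide (p.2 < T.length) && (compT p.1 q.1 == T.getD p.2 []))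

theorem mem_of_stepOK {T : List (List ℕ)} {q : List ℕ × List ℕ} (h : stepOK T q = true)
    {l : List ℕ} (hl : l ∈ T) : compT l q.1 ∈ T := by
  rw [stepOK, Bool.and_eq_true, beq_iff_eq, List.all_eq_true] at h
  obtain ⟨k, hk⟩ := exists_mem_zip h.1.symm hl
  have h2 := h.2 _ hk
  rw [Bool.and_eq_true, decide_eq_true_eq, beq_iff_eq] at h2
  rw [h2.2, List.getD_eq_getElem _ _ h2.1]
  exact List.getElem_mem _

/-- every element of the generated subgroup has its table in the list -/
theorem mem_tab {tg T : List (List ℕ)} (hid : idT ∈ T) (hinv : ∀ t ∈ tg, invT t = t)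
    (hstep : ∀ t ∈ tg, ∀ l ∈ T, compT l t ∈ T) :
    ∀ x ∈ genSub tg, ∃ l ∈ T, IsTable l x := by
  intro x hx
  unfold genSub at hx
  induction hx using Subgroup.closure_induction_right with
  | one => exact ⟨idT, hid, isTable_one⟩
  | mul_right x hx y hy ih =>
    obtain ⟨l, hl, hlx⟩ := ih
    obtain ⟨t, ht, hty⟩ := hy
    exact ⟨compT l t, hstep t ht l hl, hlx.mul hty⟩
  | mul_inv_cancel x hx y hy ih =>
    obtain ⟨l, hl, hlx⟩ := ih
    obtain ⟨t, ht, hty⟩ := hy
    refine ⟨compT l t, hstep t ht l hl, ?_⟩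
    have h1 := hlx.mul hty.inv
    rwa [hinv t ht] at h1

/-- the centre of the generated subgroup, on tables -/
theorem center_tab {tg T : List (List ℕ)} {zT : List ℕ}
    (hgen : ∀ t ∈ tg, ∃ y, IsTable t y)
    (hmem : ∀ x ∈ genSub tg, ∃ l ∈ T, IsTable l x)
    (hcent : T.all (fun l => l == idT || l == zT ||
      tg.any (fun t => compT l t != compT t l)) = true)
    {x : Equiv.Perm GolayPt} (hx : x ∈ genSub tg) (hcomm : ∀ y ∈ genSub tg, x * y = y * x) :
    x = 1 ∨ IsTable zT x := by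
  obtain ⟨l, hl, hlx⟩ := hmem x hx
  rw [List.all_eq_true] at hcent
  have h1 := hcent l hl
  rw [Bool.or_eq_true, Bool.or_eq_true, beq_iff_eq, beq_iff_eq, List.any_eq_true] at h1
  rcases h1 with (h1 | h1) | ⟨t, ht, h1⟩
  · left
    rw [h1] at hlx
    exact hlx.inj isTable_one
  · right
    rw [h1] at hlx
    exact hlx
  · exfalso
    have hne : compT l t ≠ compT t l := by simpa using h1
    obtain ⟨y, hy⟩ := hgen t ht
    have hyS : y ∈ genSub tg := Subgroup.subset_closure ⟨t, ht, hy⟩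
    have h2 := hcomm y hyS
    apply hne
    have h3 : IsTable (compT l t) (x * y) := hlx.mul hy
    have h4 : IsTable (compT t l) (y * x) := hy.mul hlx
    rw [h2] at h3
    exact table_unique h3 h4

/-! ### the group-theoretic consequences -/

/-- the generated subgroup as a subgroup of `H` -/
abbrev S0 (H : Subgroup (Equiv.Perm GolayPt)) (tg : List (List ℕ)) : Subgroup ↥H :=
  (genSub tg).subgroupOf H

/-- The certificate for the subgroup generated by `tg`: `T` lists its elements, `zT` generates its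
centre, `flag` is a test satisfied by all its elements. -/
structure Hyp (H : Subgroup (Equiv.Perm GolayPt)) (tg T : List (List ℕ)) (zT : List ℕ)
    (flag : List ℕ → Bool) : Prop where
  tabH : ∀ t ∈ tg, Tabled H t
  mem : ∀ x ∈ genSub tg, ∃ l ∈ T, IsTable l x
  tab : ∀ l ∈ T, Tabled (genSub tg) l
  nodup : T.Nodup
  cent : T.all (fun l => l == idT || l == zT || tg.any (fun t => compT l t != compT t l)) = true
  zmem : zT ∈ T
  zne : zT ≠ idT
  zcomm : tg.all (fun t => compT zT t == compT t zT) = true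
  flagT : T.all flag = true

namespace Hyp

variable {H : Subgroup (Equiv.Perm GolayPt)} {tg T : List (List ℕ)} {zT : List ℕ}
  {flag : List ℕ → Bool} (hyp : Hyp H tg T zT flag)
include hyp

theorem le : genSub tg ≤ H := genSub_le hyp.tabH

theorem card : Nat.card (S0 H tg) = T.length := by
  rw [← card_of_tables (genSub tg) T hyp.nodup hyp.mem hyp.tab]
  exact Nat.card_congr (Subgroup.subgroupOfEquivOfLe hyp.le).toEquiv

theorem gen_exists : ∀ t ∈ tg, ∃ y, IsTable t y := fun t ht => by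
  obtain ⟨y, -, hy⟩ := hyp.tabH t ht
  exact ⟨y, hy⟩

/-- the central involution -/
theorem exists_zeta : ∃ ζ : ↥H, ζ ∈ S0 H tg ∧ IsTable zT ζ.1 := by
  obtain ⟨g, hg, hl⟩ := hyp.tab zT hyp.zmem
  exact ⟨⟨g, hyp.le hg⟩, Subgroup.mem_subgroupOf.mpr hg, hl⟩

theorem zeta_ne_one {ζ : ↥H} (hζ : IsTable zT ζ.1) : ζ ≠ 1 := by
  intro h
  rw [h] at hζ
  exact hyp.zne (table_unique hζ isTable_one)

theorem zeta_comm {ζ : Equiv.Perm GolayPt} (hζ : IsTable zT ζ) :
    ∀ y ∈ genSub tg, ζ * y = y * ζ := by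
  have hle : genSub tg ≤ Subgroup.centralizer {ζ} := by
    rw [genSub, Subgroup.closure_le]
    rintro g ⟨t, ht, hg⟩
    rw [SetLike.mem_coe, Subgroup.mem_centralizer_iff]
    intro h hh
    rw [Set.mem_singleton_iff] at hh
    subst hh
    have h1 := List.all_eq_true.mp hyp.zcomm t ht
    rw [beq_iff_eq] at h1
    have h2 : IsTable (compT zT t) (h * g) := hζ.mul hg
    have h3 : IsTable (compT t zT) (g * h) := hg.mul hζ
    rw [h1] at h2
    exact h2.inj h3
  intro y hy
  have h4 := hle hy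
  rw [Subgroup.mem_centralizer_iff] at h4
  exact h4 ζ rfl

theorem center_eq {ζ : Equiv.Perm GolayPt} (hζ : IsTable zT ζ) {x : Equiv.Perm GolayPt}
    (hx : x ∈ genSub tg) (hcomm : ∀ y ∈ genSub tg, x * y = y * x) : x = 1 ∨ x = ζ := by
  rcases center_tab hyp.gen_exists hyp.mem hyp.cent hx hcomm with h | h
  · exact Or.inl h
  · exact Or.inr (h.inj hζ)

theorem flag_of_mem {x : Equiv.Perm GolayPt} (hx : x ∈ genSub tg) {l : List ℕ}
    (hl : IsTable l x) : flag l = true := by
  obtain ⟨l', hl', hlx⟩ := hyp.mem x hx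
  rw [table_unique hl hlx]
  exact List.all_eq_true.mp hyp.flagT l' hl'

theorem normalizer_le_centralizer {ζ : ↥H} (hζS : ζ ∈ S0 H tg) (hζ : IsTable zT ζ.1) :
    Subgroup.normalizer (S0 H tg : Set ↥H) ≤ Subgroup.centralizer {ζ} := by
  intro g hg
  rw [Subgroup.mem_centralizer_iff]
  intro h hh
  rw [Set.mem_singleton_iff] at hh
  subst hh
  have hg' := Subgroup.mem_normalizer_iff.mp hg
  have h1 : g * h * g⁻¹ ∈ S0 H tg := (hg' h).mp hζS
  have h2 : ∀ y ∈ genSub tg, (g * h * g⁻¹).1 * y = y * (g * h * g⁻¹).1 := by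
    intro y hy
    have hyH : y ∈ H := hyp.le hy
    have hy' : g⁻¹ * ⟨y, hyH⟩ * g ∈ S0 H tg :=
      (Subgroup.mem_normalizer_iff''.mp hg ⟨y, hyH⟩).mp (Subgroup.mem_subgroupOf.mpr hy)
    have h3 := hyp.zeta_comm hζ _ (Subgroup.mem_subgroupOf.mp hy')
    have h4 : h * (g⁻¹ * ⟨y, hyH⟩ * g) = (g⁻¹ * ⟨y, hyH⟩ * g) * h := Subtype.ext h3
    have h5 : (g * h * g⁻¹) * ⟨y, hyH⟩ = ⟨y, hyH⟩ * (g * h * g⁻¹) := by
      calc (g * h * g⁻¹) * ⟨y, hyH⟩ = g * (h * (g⁻¹ * ⟨y, hyH⟩ * g)) * g⁻¹ := by group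
        _ = g * ((g⁻¹ * ⟨y, hyH⟩ * g) * h) * g⁻¹ := by rw [h4]
        _ = ⟨y, hyH⟩ * (g * h * g⁻¹) := by group
    exact congrArg Subtype.val h5
  rcases hyp.center_eq hζ (Subgroup.mem_subgroupOf.mp h1) h2 with h3 | h3
  · exfalso
    apply hyp.zeta_ne_one hζ
    have h6 : g * h * g⁻¹ = 1 := Subtype.ext h3
    calc h = g⁻¹ * (g * h * g⁻¹) * g := by group
      _ = 1 := by rw [h6]; group
  · have h6 : g * h * g⁻¹ = h := Subtype.ext h3
    calc h * g = (g * h * g⁻¹) * g := by rw [h6]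
      _ = g * h := by group

/-- The normaliser of the generated subgroup is the subgroup itself, by counting in the centraliser
of the central involution. -/
theorem normalizer_le (cs : List (List ℕ)) (hcs : ∀ c ∈ cs, Tabled H c)
    (hcz : cs.all (fun c => compT c zT == compT zT c) = true)
    (hpair : (List.range cs.length).all (fun i => (List.range cs.length).all (fun j =>
      i == j || tg.any (fun t =>
        !flag (conjT (compT (invT (cs.getD i idT)) (cs.getD j idT)) t)))) = true)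
    (B : ℕ) {ζ : ↥H} (hζS : ζ ∈ S0 H tg) (hζ : IsTable zT ζ.1)
    (hB : Nat.card (Subgroup.centralizer ({ζ} : Set ↥H)) ≤ B)
    (hlt : B < cs.length * (2 * T.length)) :
    Subgroup.normalizer (S0 H tg : Set ↥H) ≤ S0 H tg := by
  classical
  have hex : ∀ i : Fin cs.length, ∃ c : ↥H, IsTable cs[i] c.1 := by
    intro i
    obtain ⟨g, hg, hl⟩ := hcs cs[i] (List.getElem_mem i.2)
    exact ⟨⟨g, hg⟩, hl⟩
  choose c hc using hex
  have hcC : ∀ i, c i ∈ Subgroup.centralizer ({ζ} : Set ↥H) := by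
    intro i
    rw [Subgroup.mem_centralizer_iff]
    intro h hh
    rw [Set.mem_singleton_iff] at hh
    subst hh
    have h1 := List.all_eq_true.mp hcz cs[i] (List.getElem_mem i.2)
    rw [beq_iff_eq] at h1
    apply Subtype.ext
    have h2 : IsTable (compT zT cs[i]) (h.1 * (c i).1) := hζ.mul (hc i)
    have h3 : IsTable (compT cs[i] zT) ((c i).1 * h.1) := (hc i).mul hζ
    rw [← h1] at h2
    exact h2.inj h3
  have hd : ∀ i j, i ≠ j → (c i)⁻¹ * c j ∉ Subgroup.normalizer (S0 H tg : Set ↥H) := by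
    intro i j hij hmem
    have h1 := List.all_eq_true.mp (List.all_eq_true.mp hpair i.1 (List.mem_range.mpr i.2)) j.1
      (List.mem_range.mpr j.2)
    rw [Bool.or_eq_true, beq_iff_eq, List.any_eq_true] at h1
    rcases h1 with h1 | ⟨t, ht, h1⟩
    · exact hij (Fin.ext h1)
    · obtain ⟨y, hyH, hy⟩ := hyp.tabH t ht
      have hyS : (⟨y, hyH⟩ : ↥H) ∈ S0 H tg :=
        Subgroup.mem_subgroupOf.mpr (Subgroup.subset_closure ⟨t, ht, hy⟩)
      have h2 := (Subgroup.mem_normalizer_iff.mp hmem _).mp hyS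
      have h3 : IsTable (conjT (compT (invT cs[i]) cs[j]) t)
          ((c i).1⁻¹ * (c j).1 * y * ((c i).1⁻¹ * (c j).1)⁻¹) :=
        isTable_conj ((hc i).inv.mul (hc j)) hy
      have h2' : (c i).1⁻¹ * (c j).1 * y * ((c i).1⁻¹ * (c j).1)⁻¹ ∈ genSub tg :=
        Subgroup.mem_subgroupOf.mp h2
      have h4 := hyp.flag_of_mem h2' h3
      rw [List.getD_eq_getElem _ _ i.2, List.getD_eq_getElem _ _ j.2] at h1
      have h5 : flag (conjT (compT (invT cs[(i : ℕ)]) cs[(j : ℕ)]) t) = true := h4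
      rw [h5] at h1
      exact absurd h1 (by decide)
  have h1 := mul_card_le _ _ (hyp.normalizer_le_centralizer hζS hζ) cs.length c hcC hd
  by_contra hnot
  have hle : S0 H tg ≤ Subgroup.normalizer (S0 H tg : Set ↥H) := Subgroup.le_normalizer
  have hdvd := Subgroup.card_dvd_of_le hle
  have hne : Nat.card (Subgroup.normalizer (S0 H tg : Set ↥H)) ≠ Nat.card (S0 H tg) := by
    intro h
    apply hnot
    have h2 := Subgroup.eq_of_le_of_card_ge hle (le_of_eq h)
    rw [← h2]
  obtain ⟨m, hm⟩ := hdvd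
  have hpos : 0 < Nat.card (Subgroup.normalizer (S0 H tg : Set ↥H)) := Nat.card_pos
  rw [hyp.card] at hm hne
  have hm2 : 2 ≤ m := by
    rcases m with _ | _ | m
    · rw [hm] at hpos; simp at hpos
    · exfalso; apply hne; rw [hm]; simp
    · omega
  have h3 : cs.length * (2 * T.length) ≤
      cs.length * Nat.card (Subgroup.normalizer (S0 H tg : Set ↥H)) := by
    apply Nat.mul_le_mul_left
    rw [hm]
    calc 2 * T.length = T.length * 2 := Nat.mul_comm _ _
      _ ≤ T.length * m := Nat.mul_le_mul_left _ hm2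
  omega

theorem selfNorm (hN : Subgroup.normalizer (S0 H tg : Set ↥H) ≤ S0 H tg) :
    Helper85.SelfNorm (S0 H tg) :=
  fun g hg => ⟨g, hN hg, fun _ _ => rfl⟩

/-- No proper nontrivial strongly closed subgroup: the generators are conjugates of the central
involution. -/
theorem noStrClosed (gs : List (List ℕ)) (hgs : ∀ g ∈ gs, Tabled H g)
    (hconj : tg.all (fun t => gs.any (fun g => conjT g zT == t)) = true)
    (hcard2 : ∃ n, T.length = 2 ^ n) :
    Helper85.NoStrClosed (S0 H tg) := by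
  intro T' hT' hcl
  by_cases hbot : T' = ⊥
  · exact Or.inl hbot
  right
  obtain ⟨ζ, hζS, hζ⟩ := hyp.exists_zeta
  have hζT : ζ ∈ T' := by
    have hp : IsPGroup 2 (S0 H tg) := by
      obtain ⟨n, hn⟩ := hcard2
      exact IsPGroup.of_card (by rw [hyp.card, hn])
    have : Fact (Nat.Prime 2) := ⟨Nat.prime_two⟩
    let N' : Subgroup (S0 H tg) := T'.subgroupOf (S0 H tg)
    have : N'.Normal := by
      constructor
      intro n hn g
      rw [Subgroup.mem_subgroupOf] at hn ⊢
      exact hcl n.1 hn g.1 ((S0 H tg).mul_mem ((S0 H tg).mul_mem g.2 n.2) ((S0 H tg).inv_mem g.2))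
    have hN'ne : N' ≠ ⊥ := by
      intro h
      apply hbot
      rw [eq_bot_iff]
      intro x hx
      have hxS : x ∈ S0 H tg := hT' hx
      have h1 : (⟨x, hxS⟩ : S0 H tg) ∈ N' := Subgroup.mem_subgroupOf.mpr hx
      rw [h, Subgroup.mem_bot] at h1
      rw [Subgroup.mem_bot]
      exact congrArg Subtype.val h1
    have hmeet := Helper63.normal_inf_center_ne_bot hp N' hN'ne
    obtain ⟨⟨b, hb⟩, hb1⟩ := (Subgroup.ne_bot_iff_exists_ne_one).mp hmeet
    rw [Subgroup.mem_inf] at hb
    have hbT : b.1 ∈ T' := Subgroup.mem_subgroupOf.mp hb.1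
    have hbc : ∀ y ∈ genSub tg, b.1.1 * y = y * b.1.1 := by
      intro y hy
      have hyH : y ∈ H := hyp.le hy
      have hyS : (⟨y, hyH⟩ : ↥H) ∈ S0 H tg := Subgroup.mem_subgroupOf.mpr hy
      have h1 := Subgroup.mem_center_iff.mp hb.2 ⟨⟨y, hyH⟩, hyS⟩
      have h2 := congrArg (fun q : S0 H tg => q.1.1) h1
      exact h2.symm
    rcases hyp.center_eq hζ (Subgroup.mem_subgroupOf.mp b.2) hbc with h1 | h1
    · exfalso
      apply hb1
      apply Subtype.ext
      apply Subtype.ext
      apply Subtype.ext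
      exact h1
    · have h2 : b.1 = ζ := Subtype.ext h1
      rw [← h2]
      exact hbT
  -- every generator lies in `T'`
  have hle : genSub tg ≤ T'.map H.subtype := by
    rw [genSub, Subgroup.closure_le]
    rintro y ⟨t, ht, hy⟩
    have h1 := List.all_eq_true.mp hconj t ht
    rw [List.any_eq_true] at h1
    obtain ⟨g, hg, h2⟩ := h1
    rw [beq_iff_eq] at h2
    obtain ⟨γ, hγH, hγ⟩ := hgs g hg
    have h3 : IsTable t (γ * ζ.1 * γ⁻¹) := by
      rw [← h2]
      exact isTable_conj hγ hζ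
    have h4 : y = γ * ζ.1 * γ⁻¹ := hy.inj h3
    have hyS : y ∈ genSub tg := Subgroup.subset_closure ⟨t, ht, hy⟩
    have h5 : (⟨γ, hγH⟩ : ↥H) * ζ * (⟨γ, hγH⟩ : ↥H)⁻¹ ∈ S0 H tg := by
      rw [Subgroup.mem_subgroupOf]
      show γ * ζ.1 * γ⁻¹ ∈ genSub tg
      rw [← h4]
      exact hyS
    have h6 := hcl ζ hζT ⟨γ, hγH⟩ h5
    rw [SetLike.mem_coe, Subgroup.mem_map]
    refine ⟨_, h6, ?_⟩
    rw [h4]
    rfl
  apply le_antisymm hT'
  intro x hx
  have h1 := hle (Subgroup.mem_subgroupOf.mp hx)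
  rw [Subgroup.mem_map] at h1
  obtain ⟨x', hx', h2⟩ := h1
  have h3 : x' = x := Subtype.ext h2
  rw [← h3]
  exact hx'

/-- Simplicity of the `2`-fusion system on every Sylow `2`-subgroup of `H`. -/
theorem isSimple (hsyl : T.length = 2 ^ (Nat.card ↥H).factorization 2)
    (hN : Subgroup.normalizer (S0 H tg : Set ↥H) ≤ S0 H tg)
    (hT : Helper85.NoStrClosed (S0 H tg)) (S : Sylow 2 ↥H) :
    (groupFusionSystem (S : Subgroup ↥H)).IsSimple 2 := by
  have : Fact (Nat.Prime 2) := ⟨Nat.prime_two⟩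
  let S₀ : Sylow 2 ↥H := Sylow.ofCard (S0 H tg) (by rw [hyp.card, hsyl])
  have hcoe : (S₀ : Subgroup ↥H) = S0 H tg := rfl
  obtain ⟨ζ, hζS, hζ⟩ := hyp.exists_zeta
  refine Helper85.isSimple_of_selfNorm_conj 2 S₀ ?_ ?_ ?_ S
  · rw [hcoe]
    intro h
    rw [h, Subgroup.mem_bot] at hζS
    exact hyp.zeta_ne_one hζ hζS
  · rw [hcoe]
    exact hyp.selfNorm hN
  · rw [hcoe]
    exact hT

end Hyp

end Cfsg.Agent.Helper7.Fus
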