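import Mathlib
import Cfsg.Agent.Helper56.GL23

/-!
# Elements of `GL(2, 3)` from quadruples
-/

set_option autoImplicit false

namespace Cfsg.Agent.Helper7

open Cfsg.Agent.Helper56.GL23

/-- The determinant of a quadruple. -/
def qdet (x : Q3) : ZMod 3 := x.1 * x.2.2.2 - x.2.1 * x.2.2.1

theorem det_toMat (x : Q3) : (toMat x).det = qdet x := by
  unfold toMat qdet
  rw [Matrix.det_fin_two_of]

/-- The element of `GL(2, 3)` of a quadruple (the identity if the determinant is zero). -/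
noncomputable def glOf3 (x : Q3) : GL (Fin 2) (ZMod 3) :=
  if h : (toMat x).det ≠ 0 then Matrix.GeneralLinearGroup.mkOfDetNeZero (toMat x) h else 1

theorem coe_glOf3 {x : Q3} (h : qdet x ≠ 0) :
    ((glOf3 x : GL (Fin 2) (ZMod 3)) : Matrix (Fin 2) (Fin 2) (ZMod 3)) = toMat x := by
  rw [glOf3, dif_pos (by rw [det_toMat]; exact h)]
  rfl

theorem qdet_qmul (x y : Q3) : qdet (qmul x y) = qdet x * qdet y := by
  rw [← det_toMat, ← det_toMat, ← det_toMat, toMat_qmul, Matrix.det_mul]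

theorem glOf3_mul {x y : Q3} (hx : qdet x ≠ 0) (hy : qdet y ≠ 0) :
    glOf3 (qmul x y) = glOf3 x * glOf3 y := by
  have hxy : qdet (qmul x y) ≠ 0 := by
    rw [qdet_qmul]
    exact mul_ne_zero hx hy
  apply Units.ext
  rw [Units.val_mul, coe_glOf3 hx, coe_glOf3 hy, coe_glOf3 hxy, toMat_qmul]

theorem glOf3_one : glOf3 qone = 1 := by
  apply Units.ext
  rw [coe_glOf3 (by decide), toMat_qone]
  rfl

theorem glOf3_ofMat (A : GL (Fin 2) (ZMod 3)) :
    qdet (ofMat A.1) ≠ 0 ∧ glOf3 (ofMat A.1) = A := by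
  have h : qdet (ofMat A.1) ≠ 0 := by
    rw [← det_toMat, toMat_ofMat]
    have := Matrix.GeneralLinearGroup.det_ne_zero A
    exact this
  refine ⟨h, ?_⟩
  apply Units.ext
  rw [coe_glOf3 h, toMat_ofMat]

theorem card_GL23' : Nat.card (GL (Fin 2) (ZMod 3)) = 48 := by
  rw [Matrix.card_GL_field, ZMod.card, Fin.prod_univ_two]
  rfl

end Cfsg.Agent.Helper7
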