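import Cfsg.Agent.Helper7.M12Sharp
import Cfsg.Agent.Helper7.Count
import Cfsg.Prelude.Def_SporadicCombinatorics

/-!
# Hexads on the standard dodecad, by bit masks
-/

set_option autoImplicit false

namespace Cfsg.Agent.Helper7

open Cfsg MulAction
open scoped Pointwise

/-- The set of points of a mask. -/
abbrev decT (m : ℕ) : Finset GolayPt := support₂ (word m)

theorem mem_decT (m : ℕ) (p : GolayPt) : p ∈ decT m ↔ m.testBit (idx p) = true :=
  mem_support₂_word m p

theorem decT_land (a b : ℕ) : decT (a &&& b) = decT a ∩ decT b := by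
  ext p
  simp only [mem_decT, Finset.mem_inter, Nat.testBit_land, Bool.and_eq_true]

theorem decT_lor (a b : ℕ) : decT (a ||| b) = decT a ∪ decT b := by
  ext p
  simp only [mem_decT, Finset.mem_union, Nat.testBit_lor, Bool.or_eq_true]

theorem decT_inj {a b : ℕ} (ha : a < 2 ^ 24) (hb : b < 2 ^ 24) (h : decT a = decT b) : a = b :=
  word_inj ha hb (support₂_injective h)

theorem card_decT (m : ℕ) : (decT m).card = wt m := card_support₂_word m

theorem d0F_eq_decT : d0F = decT d0 := rfl

/-- The set of points with given indices. -/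
def decL (L : List ℕ) : Finset GolayPt := (L.map pt).toFinset

/-- The mask with given bits. -/
def maskL : List ℕ → ℕ
  | [] => 0
  | i :: is => 2 ^ i ||| maskL is

theorem testBit_maskL (L : List ℕ) (j : ℕ) : (maskL L).testBit j = decide (j ∈ L) := by
  induction L with
  | nil => simp [maskL]
  | cons i is ih =>
    rw [maskL, Nat.testBit_lor, ih, Nat.testBit_two_pow]
    by_cases h : i = j
    · subst h
      simp
    · have : ¬ j = i := fun e => h e.symm
      simp [h, this]

theorem decT_maskL (L : List ℕ) (hL : ∀ i ∈ L, i < 24) : decT (maskL L) = decL L := by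
  ext p
  rw [mem_decT, testBit_maskL, decL, List.mem_toFinset, List.mem_map, decide_eq_true_eq]
  constructor
  · intro h
    exact ⟨idx p, h, pt_idx p⟩
  · rintro ⟨i, hi, rfl⟩
    rwa [idx_pt (hL i hi)]

theorem maskL_lt (L : List ℕ) (hL : ∀ i ∈ L, i < 24) : maskL L < 2 ^ 24 := by
  apply Nat.lt_pow_two_of_testBit
  intro j hj
  rw [testBit_maskL, decide_eq_false_iff_not]
  intro h
  have := hL j h
  omega

/-- A set of three points is the set of a list of three indices. -/
theorem eq_decL_of_card_three {t : Finset GolayPt} (ht : t.card = 3) :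
    ∃ i j k : ℕ, i < 24 ∧ j < 24 ∧ k < 24 ∧ i ≠ j ∧ i ≠ k ∧ j ≠ k ∧ t = decL [i, j, k] ∧
      pt i ∈ t ∧ pt j ∈ t ∧ pt k ∈ t := by
  obtain ⟨x, y, z, hxy, hxz, hyz, rfl⟩ := Finset.card_eq_three.mp ht
  refine ⟨idx x, idx y, idx z, idx_lt x, idx_lt y, idx_lt z, fun h => hxy (idx_injective h),
    fun h => hxz (idx_injective h), fun h => hyz (idx_injective h), ?_, ?_, ?_, ?_⟩
  · ext p
    simp [decL, pt_idx]
  · simp [pt_idx]
  · simp [pt_idx]
  · simp [pt_idx]

/-- The masks of the hexads on the standard dodecad. -/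
def hexList : List ℕ :=
  ((List.range 4096).filter (fun m => Nat.beq (wt (enc m)) 8 && Nat.beq (wt (enc m &&& d0)) 6)).map
    (fun m => enc m &&& d0)

theorem mem_hexadsOn_d0F_iff (h : Finset GolayPt) :
    h ∈ hexadsOn d0F ↔ ∃ x ∈ hexList, h = decT x := by
  constructor
  · rintro ⟨h6, o, ho, rfl⟩
    obtain ⟨m, hm, h8, rfl⟩ := (mem_wordsOfWeight_iff 8 o).mp ho
    refine ⟨enc m &&& d0, ?_, ?_⟩
    · rw [hexList, List.mem_map]
      refine ⟨m, ?_, rfl⟩
      rw [List.mem_filter, List.mem_range, Bool.and_eq_true]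
      refine ⟨hm, by rw [h8]; rfl, ?_⟩
      rw [suppEnc, d0F_eq_decT, ← decT_land, card_decT] at h6
      rw [h6]
      rfl
    · rw [suppEnc, d0F_eq_decT, ← decT_land]
  · rintro ⟨x, hx, rfl⟩
    rw [hexList, List.mem_map] at hx
    obtain ⟨m, hm, rfl⟩ := hx
    rw [List.mem_filter, List.mem_range, Bool.and_eq_true] at hm
    obtain ⟨hm, h8, h6⟩ := hm
    refine ⟨?_, suppEnc m, (mem_wordsOfWeight_iff 8 _).mpr
      ⟨m, hm, Nat.eq_of_beq_eq_true h8, rfl⟩, ?_⟩
    · rw [card_decT]
      exact Nat.eq_of_beq_eq_true h6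
    · rw [suppEnc, d0F_eq_decT, ← decT_land]

end Cfsg.Agent.Helper7
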