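import Cfsg.Agent.Helper66.SchurMult
import Cfsg.Agent.Helper66.Sz8P3

/-!
# A stem extension through which every finite stem extension factors is a Schur cover
-/

set_option autoImplicit false

namespace Cfsg.Agent.Helper7.L34

universe u v w

theorem hasSchurMultiplier_of_universal {E : Type v} {G : Type u} [Group E] [Group G] [Finite E]
    (τ : E →* G) (hτ : Cfsg.IsStemExtension τ) (A : Type w) [CommGroup A] (e : A ≃* τ.ker)
    (hlift : ∀ (Γ : Type u) [Group Γ] [Finite Γ] (σ : Γ →* G), Cfsg.IsStemExtension σ →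
      ∃ φ : E →* Γ, σ.comp φ = τ) : Cfsg.HasSchurMultiplier G A := by
  have : Finite G := Finite.of_surjective τ hτ.1
  rw [Cfsg.Agent.Helper66.hasSchurMultiplier_iff]
  obtain ⟨⟨Γ, _, _, σ, hσ, ⟨eσ⟩⟩, -⟩ := Cfsg.Agent.Helper66.hasSchurMultiplier_schurT G
  obtain ⟨φ, hφ⟩ := hlift Γ σ hσ
  obtain ⟨-, hker⟩ := Cfsg.Agent.Helper66.Sz8.surjective_of_comp_stem τ σ φ hφ hτ.1 hσ
  have hστ : ∀ x : E, σ (φ x) = τ x := fun x => by rw [← hφ]; rfl
  have hmem : ∀ x : τ.ker, φ x ∈ σ.ker := fun x => by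
    rw [MonoidHom.mem_ker, hστ]
    exact x.2
  let π : τ.ker →* σ.ker :=
    { toFun := fun x => ⟨φ x, hmem x⟩
      map_one' := by apply Subtype.ext; simp
      map_mul' := fun x y => by apply Subtype.ext; simp }
  have hπ : Function.Surjective π := by
    rintro ⟨k, hk⟩
    obtain ⟨x, hx1, hx2⟩ := hker k hk
    exact ⟨⟨x, hx1⟩, Subtype.ext hx2⟩
  obtain ⟨θ, hθ⟩ := Cfsg.Agent.Helper66.exists_surjective_schurT_ker τ hτ
  let ψ : τ.ker →* Cfsg.Agent.Helper66.schurT G := eσ.toMonoidHom.comp π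
  have hψ : Function.Surjective ψ := eσ.surjective.comp hπ
  have hle : Nat.card τ.ker ≤ Nat.card (Cfsg.Agent.Helper66.schurT G) :=
    Nat.card_le_card_of_surjective θ hθ
  have hbij : Function.Bijective ψ := hψ.bijective_of_nat_card_le hle
  exact ⟨e.trans (MulEquiv.ofBijective ψ hbij)⟩

end Cfsg.Agent.Helper7.L34
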