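import Mathlib

/-!
# A central subgroup of order at most 48 containing independent elements of orders 12 and 4
-/

set_option autoImplicit false

namespace Cfsg.Agent.Helper7.L34

theorem pow_val_add {C : Type*} [Monoid C] (x : C) (n : ℕ) [NeZero n] (hx : x ^ n = 1)
    (i j : ZMod n) : x ^ (i + j).val = x ^ i.val * x ^ j.val := by
  rw [ZMod.val_add, ← pow_add, pow_eq_pow_mod (i.val + j.val) hx]

theorem kernel_iso {E : Type*} [Group E] (K : Subgroup E) [Finite K] (hK : Nat.card K ≤ 48) (a b : E)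
    (ha : a ∈ Subgroup.center E) (hb : b ∈ Subgroup.center E) (haK : a ∈ K) (hbK : b ∈ K)
    (ha12 : a ^ 12 = 1) (hb4 : b ^ 4 = 1)
    (hinj : ∀ i < 3, ∀ j < 4, ∀ k < 4, a ^ (4 * i + 3 * j) * b ^ k = 1 → i = 0 ∧ j = 0 ∧ k = 0) :
    K ≤ Subgroup.center E ∧ Nonempty (Multiplicative (ZMod 3 × ZMod 4 × ZMod 4) ≃* K) := by
  -- elements of the centre
  let _ : CommGroup (Subgroup.center E) :=
    { (inferInstance : Group (Subgroup.center E)) with mul_comm := mul_comm' }
  let a' : Subgroup.center E := ⟨a, ha⟩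
  let b' : Subgroup.center E := ⟨b, hb⟩
  have ha12' : a' ^ 12 = 1 := Subtype.ext ha12
  have hb4' : b' ^ 4 = 1 := Subtype.ext hb4
  have hA4 : (a' ^ 4) ^ 3 = 1 := by rw [← pow_mul]; exact ha12'
  have hA3 : (a' ^ 3) ^ 4 = 1 := by rw [← pow_mul]; exact ha12'
  -- the homomorphism into the centre
  let f : Multiplicative (ZMod 3 × ZMod 4 × ZMod 4) →* Subgroup.center E :=
    MonoidHom.mk' (fun u => (a' ^ 4) ^ (Multiplicative.toAdd u).1.val *
      (a' ^ 3) ^ (Multiplicative.toAdd u).2.1.val * b' ^ (Multiplicative.toAdd u).2.2.val) (by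
      intro u v
      show (a' ^ 4) ^ ((Multiplicative.toAdd u).1 + (Multiplicative.toAdd v).1).val *
        (a' ^ 3) ^ ((Multiplicative.toAdd u).2.1 + (Multiplicative.toAdd v).2.1).val *
        b' ^ ((Multiplicative.toAdd u).2.2 + (Multiplicative.toAdd v).2.2).val = _
      rw [pow_val_add _ 3 hA4, pow_val_add _ 4 hA3, pow_val_add _ 4 hb4']
      simp only [mul_assoc, mul_left_comm])
  have hfK : ∀ u, ((f u : Subgroup.center E) : E) ∈ K := by
    intro u
    show ((a' ^ 4) ^ (Multiplicative.toAdd u).1.val *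
      (a' ^ 3) ^ (Multiplicative.toAdd u).2.1.val * b' ^ (Multiplicative.toAdd u).2.2.val :
        Subgroup.center E).1 ∈ K
    simp only [Subgroup.coe_mul, Subgroup.coe_pow]
    exact K.mul_mem (K.mul_mem (K.pow_mem (K.pow_mem haK _) _) (K.pow_mem (K.pow_mem haK _) _))
      (K.pow_mem hbK _)
  let g : Multiplicative (ZMod 3 × ZMod 4 × ZMod 4) →* K :=
    { toFun := fun u => ⟨(f u : Subgroup.center E), hfK u⟩
      map_one' := by apply Subtype.ext; simp
      map_mul' := fun u v => by apply Subtype.ext; simp }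
  have hginj : Function.Injective g := by
    rw [injective_iff_map_eq_one]
    intro u hu
    have h1 : ((f u : Subgroup.center E) : E) = 1 := congrArg Subtype.val hu
    have h2 : a ^ (4 * (Multiplicative.toAdd u).1.val + 3 * (Multiplicative.toAdd u).2.1.val) *
        b ^ (Multiplicative.toAdd u).2.2.val = 1 := by
      rw [← h1]
      show _ = ((a' ^ 4) ^ (Multiplicative.toAdd u).1.val *
        (a' ^ 3) ^ (Multiplicative.toAdd u).2.1.val * b' ^ (Multiplicative.toAdd u).2.2.val :
          Subgroup.center E).1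
      simp only [Subgroup.coe_mul, Subgroup.coe_pow]
      rw [pow_add, pow_mul, pow_mul]
    obtain ⟨e1, e2, e3⟩ := hinj _ (ZMod.val_lt _) _ (ZMod.val_lt _) _ (ZMod.val_lt _) h2
    have z1 : (Multiplicative.toAdd u).1 = 0 := (ZMod.val_eq_zero _).mp e1
    have z2 : (Multiplicative.toAdd u).2.1 = 0 := (ZMod.val_eq_zero _).mp e2
    have z3 : (Multiplicative.toAdd u).2.2 = 0 := (ZMod.val_eq_zero _).mp e3
    have : Multiplicative.toAdd u = 0 := Prod.ext z1 (Prod.ext z2 z3)
    exact this
  have hcard : Nat.card (Multiplicative (ZMod 3 × ZMod 4 × ZMod 4)) = 48 := by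
    rw [Nat.card_eq_fintype_card, Fintype.card_multiplicative, Fintype.card_prod, Fintype.card_prod,
      ZMod.card, ZMod.card]
  have hbij : Function.Bijective g :=
    hginj.bijective_of_nat_card_le (by rw [hcard]; exact hK)
  refine ⟨?_, ⟨MulEquiv.ofBijective g hbij⟩⟩
  intro x hx
  obtain ⟨u, hu⟩ := hbij.2 ⟨x, hx⟩
  have : x = ((f u : Subgroup.center E) : E) := (congrArg Subtype.val hu).symm
  rw [this]
  exact (f u).2

end Cfsg.Agent.Helper7.L34
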