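import Cfsg.Agent.Helper7.M12Sharp

/-!
# The stabiliser of a dodecad and a point on it is 3-transitive on the complementary dodecad
(generated data + proofs)
-/

set_option autoImplicit false

namespace Cfsg.Agent.Helper7

open Cfsg
open scoped Pointwise

/-- Mask of the complement of the standard dodecad. -/
def d0c : ℕ := 16436384

/-- Chain of the stabiliser of the dodecad and the point 0 on the complement: the straight-line program (node 0 is the identity, nodes 1,2,3 the generators). -/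
def m11cProg : List Op := [
  .mul 1 1, .mul 1 2, .mul 1 4, .mul 2 4, .mul 1 5, .mul 2 6, .mul 1 7, .mul 2 8,
  .mul 1 9, .mul 3 10, .mul 1 11, .mul 3 11, .mul 1 12, .mul 1 13, .mul 3 14, .mul 1 15,
  .mul 2 16, .mul 1 17, .mul 3 18, .mul 3 19, .mul 1 20, .mul 1 21, .mul 1 22, .mul 3 23,
  .mul 3 24, .mul 3 25, .mul 3 27, .mul 1 28, .mul 1 29, .mul 3 30, .mul 1 31, .mul 1 32,
  .inv 35, .mul 2 33, .mul 36 37, .inv 26, .mul 3 34, .mul 39 40, .mul 41 38, .mul 38 42,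
  .mul 38 43, .mul 38 41, .inv 43, .mul 41 44, .mul 46 47, .mul 41 42, .mul 45 45, .mul 48 45,
  .mul 49 45, .mul 45 49, .mul 48 49, .mul 49 49, .mul 48 51, .mul 49 52, .inv 50, .mul 49 55,
  .mul 58 59, .inv 48, .mul 49 48, .mul 61 62, .mul 60 60, .mul 63 60, .mul 60 63, .mul 60 64,
  .mul 63 64, .mul 63 65, .mul 60 66, .mul 63 70, .mul 60 69, .inv 65, .mul 60 70, .mul 73 74,
  .mul 75 72, .mul 72 75, .mul 75 76, .mul 75 77, .mul 72 78, .mul 75 78, .mul 72 79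
]

/-- Chain of the stabiliser of the dodecad and the point 0 on the complement: the tables of all nodes of the straight-line program. -/
def m11cTabs : List (List ℕ) := [
  [0, 1, 2, 3, 4, 5, 6, 7, 8, 9, 10, 11, 12, 13, 14, 15, 16, 17, 18, 19, 20, 21, 22, 23],
  [1, 2, 3, 4, 5, 6, 7, 8, 9, 10, 11, 12, 13, 14, 15, 16, 17, 18, 19, 20, 21, 22, 0, 23],
  [23, 22, 11, 15, 17, 9, 19, 13, 20, 5, 16, 2, 21, 7, 18, 3, 10, 4, 14, 6, 8, 12, 1, 0],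
  [0, 18, 6, 3, 2, 21, 1, 5, 16, 12, 7, 19, 8, 9, 17, 15, 13, 11, 4, 22, 10, 20, 14, 23],
  [2, 3, 4, 5, 6, 7, 8, 9, 10, 11, 12, 13, 14, 15, 16, 17, 18, 19, 20, 21, 22, 0, 1, 23],
  [23, 0, 12, 16, 18, 10, 20, 14, 21, 6, 17, 3, 22, 8, 19, 4, 11, 5, 15, 7, 9, 13, 2, 1],
  [3, 4, 5, 6, 7, 8, 9, 10, 11, 12, 13, 14, 15, 16, 17, 18, 19, 20, 21, 22, 0, 1, 2, 23],
  [11, 15, 17, 9, 19, 13, 20, 5, 16, 2, 21, 7, 18, 3, 10, 4, 14, 6, 8, 12, 1, 23, 22, 0],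
  [23, 1, 13, 17, 19, 11, 21, 15, 22, 7, 18, 4, 0, 9, 20, 5, 12, 6, 16, 8, 10, 14, 3, 2],
  [15, 17, 9, 19, 13, 20, 5, 16, 2, 21, 7, 18, 3, 10, 4, 14, 6, 8, 12, 1, 23, 22, 11, 0],
  [12, 16, 18, 10, 20, 14, 21, 6, 17, 3, 22, 8, 19, 4, 11, 5, 15, 7, 9, 13, 2, 23, 0, 1],
  [0, 22, 7, 4, 6, 2, 12, 3, 1, 13, 14, 17, 23, 5, 8, 9, 21, 19, 10, 20, 16, 18, 15, 11],
  [16, 18, 10, 20, 14, 21, 6, 17, 3, 22, 8, 19, 4, 11, 5, 15, 7, 9, 13, 2, 23, 0, 12, 1],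
  [8, 13, 4, 7, 10, 17, 20, 1, 11, 3, 14, 16, 22, 2, 19, 21, 15, 5, 12, 9, 6, 23, 0, 18],
  [1, 0, 8, 5, 7, 3, 13, 4, 2, 14, 15, 18, 23, 6, 9, 10, 22, 20, 11, 21, 17, 19, 16, 12],
  [0, 14, 5, 2, 1, 6, 8, 3, 18, 9, 17, 11, 23, 21, 16, 12, 20, 22, 7, 10, 13, 4, 15, 19],
  [17, 19, 11, 21, 15, 22, 7, 18, 4, 0, 9, 20, 5, 12, 6, 16, 8, 10, 14, 3, 23, 1, 13, 2],
  [9, 14, 5, 8, 11, 18, 21, 2, 12, 4, 15, 17, 0, 3, 20, 22, 16, 6, 13, 10, 7, 23, 1, 19],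
  [18, 0, 16, 21, 5, 3, 9, 2, 6, 17, 15, 4, 23, 1, 12, 7, 14, 10, 19, 20, 11, 22, 13, 8],
  [1, 15, 6, 3, 2, 7, 9, 4, 19, 10, 18, 12, 23, 22, 17, 13, 21, 0, 8, 11, 14, 5, 16, 20],
  [4, 6, 2, 12, 3, 1, 13, 14, 17, 23, 5, 8, 9, 21, 19, 10, 20, 16, 18, 15, 0, 22, 7, 11],
  [10, 15, 6, 9, 12, 19, 22, 3, 13, 5, 16, 18, 1, 4, 21, 0, 17, 7, 14, 11, 8, 23, 2, 20],
  [4, 0, 13, 20, 21, 3, 12, 6, 1, 11, 15, 2, 23, 18, 8, 5, 17, 7, 22, 10, 19, 14, 9, 16],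
  [18, 15, 1, 3, 6, 5, 12, 2, 22, 7, 4, 8, 23, 14, 11, 9, 20, 0, 16, 19, 17, 21, 13, 10],
  [5, 7, 3, 13, 4, 2, 14, 15, 18, 23, 6, 9, 10, 22, 20, 11, 21, 17, 19, 16, 1, 0, 8, 12],
  [11, 16, 7, 10, 13, 20, 0, 4, 14, 6, 17, 19, 2, 5, 22, 1, 18, 8, 15, 12, 9, 23, 3, 21],
  [5, 1, 14, 21, 22, 4, 13, 7, 2, 12, 16, 3, 23, 19, 9, 6, 18, 8, 0, 11, 20, 15, 10, 17],
  [4, 15, 18, 3, 1, 21, 8, 6, 14, 5, 2, 16, 23, 17, 19, 12, 10, 0, 13, 22, 11, 20, 9, 7],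
  [21, 5, 3, 9, 2, 6, 17, 15, 4, 23, 1, 12, 7, 14, 10, 19, 20, 11, 22, 13, 18, 0, 16, 8],
  [19, 13, 5, 7, 9, 10, 0, 2, 17, 1, 11, 22, 6, 21, 14, 18, 4, 16, 15, 8, 12, 23, 3, 20],
  [2, 15, 4, 3, 18, 20, 16, 1, 17, 21, 6, 13, 23, 11, 22, 8, 7, 0, 9, 14, 19, 10, 12, 5],
  [22, 6, 4, 10, 3, 7, 18, 16, 5, 23, 2, 13, 8, 15, 11, 20, 21, 12, 0, 14, 19, 1, 17, 9],
  [20, 14, 6, 8, 10, 11, 1, 3, 18, 2, 12, 0, 7, 22, 15, 19, 5, 17, 16, 9, 13, 23, 4, 21],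
  [6, 15, 2, 3, 4, 10, 13, 18, 11, 20, 1, 9, 23, 19, 14, 16, 5, 0, 12, 17, 22, 7, 8, 21],
  [0, 7, 5, 11, 4, 8, 19, 17, 6, 23, 3, 14, 9, 16, 12, 21, 22, 13, 1, 15, 20, 2, 18, 10],
  [21, 15, 7, 9, 11, 12, 2, 4, 19, 3, 13, 1, 8, 0, 16, 20, 6, 18, 17, 10, 14, 23, 5, 22],
  [13, 11, 6, 9, 7, 22, 16, 2, 12, 3, 19, 4, 5, 10, 20, 1, 14, 18, 17, 8, 15, 0, 23, 21],
  [19, 3, 11, 15, 17, 16, 7, 14, 2, 8, 22, 5, 0, 6, 18, 10, 9, 23, 21, 4, 1, 13, 20, 12],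
  [8, 9, 4, 1, 18, 14, 2, 20, 6, 12, 23, 22, 13, 16, 17, 19, 3, 21, 0, 7, 11, 10, 15, 5],
  [18, 1, 8, 11, 5, 0, 15, 7, 17, 14, 22, 19, 9, 6, 2, 21, 10, 23, 16, 13, 20, 3, 4, 12],
  [0, 5, 21, 19, 2, 16, 22, 11, 1, 23, 3, 17, 12, 13, 8, 20, 14, 9, 18, 15, 10, 6, 4, 7],
  [18, 0, 3, 13, 8, 10, 4, 19, 1, 12, 11, 23, 9, 6, 17, 20, 2, 14, 16, 21, 22, 15, 5, 7],
  [1, 12, 8, 0, 16, 17, 3, 22, 4, 9, 7, 5, 6, 2, 14, 21, 13, 15, 18, 19, 23, 11, 20, 10],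
  [9, 13, 6, 8, 3, 21, 1, 15, 18, 12, 20, 14, 2, 4, 17, 10, 16, 19, 0, 7, 5, 22, 11, 23],
  [12, 16, 2, 6, 1, 10, 9, 19, 0, 13, 11, 17, 4, 18, 21, 23, 3, 7, 8, 20, 14, 15, 22, 5],
  [0, 8, 1, 16, 6, 23, 18, 7, 9, 13, 22, 5, 12, 2, 21, 11, 4, 17, 3, 10, 15, 19, 14, 20],
  [18, 6, 12, 4, 13, 20, 2, 19, 3, 0, 15, 22, 9, 1, 11, 7, 16, 14, 8, 17, 10, 5, 21, 23],
  [9, 2, 3, 4, 0, 11, 12, 21, 18, 6, 23, 14, 8, 16, 15, 7, 13, 19, 1, 22, 17, 20, 5, 10],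
  [0, 12, 4, 13, 18, 22, 9, 5, 8, 2, 23, 11, 3, 16, 7, 19, 1, 17, 6, 21, 14, 10, 20, 15],
  [0, 9, 1, 18, 2, 14, 13, 5, 8, 12, 19, 10, 4, 3, 17, 15, 6, 20, 16, 21, 7, 23, 22, 11],
  [0, 9, 8, 4, 18, 20, 3, 7, 13, 2, 14, 23, 12, 1, 19, 5, 6, 17, 16, 22, 11, 10, 21, 15],
  [0, 8, 12, 1, 9, 15, 6, 5, 2, 16, 20, 22, 3, 4, 10, 11, 18, 17, 13, 23, 19, 21, 7, 14],
  [0, 8, 9, 6, 13, 11, 16, 5, 12, 3, 22, 14, 4, 1, 23, 10, 2, 20, 18, 19, 15, 21, 17, 7],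
  [0, 13, 8, 3, 1, 21, 2, 23, 9, 12, 10, 22, 6, 16, 17, 11, 18, 15, 4, 19, 7, 20, 14, 5],
  [0, 2, 12, 6, 4, 7, 16, 22, 8, 3, 21, 23, 18, 13, 17, 19, 9, 14, 1, 10, 5, 15, 20, 11],
  [0, 12, 9, 16, 1, 17, 3, 14, 8, 4, 21, 19, 2, 18, 20, 15, 13, 7, 6, 23, 5, 11, 22, 10],
  [0, 8, 3, 12, 2, 19, 9, 22, 4, 1, 14, 20, 13, 18, 23, 11, 6, 17, 16, 15, 21, 10, 5, 7],
  [0, 8, 12, 13, 3, 10, 6, 14, 4, 18, 22, 17, 2, 9, 11, 19, 1, 7, 16, 21, 15, 23, 20, 5],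
  [0, 13, 9, 6, 3, 15, 16, 7, 2, 1, 21, 20, 12, 8, 10, 23, 18, 17, 4, 14, 5, 22, 19, 11],
  [0, 4, 12, 6, 9, 20, 18, 17, 8, 2, 23, 21, 1, 16, 7, 15, 3, 5, 13, 11, 14, 10, 22, 19],
  [0, 3, 12, 16, 1, 5, 4, 17, 2, 9, 11, 22, 13, 18, 7, 23, 6, 15, 8, 20, 10, 21, 19, 14],
  [0, 16, 9, 12, 2, 7, 18, 14, 8, 6, 21, 11, 1, 3, 20, 23, 13, 17, 4, 15, 22, 19, 5, 10],
  [0, 4, 2, 3, 16, 22, 12, 14, 8, 1, 11, 10, 18, 6, 5, 21, 9, 20, 13, 23, 17, 19, 7, 15],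
  [0, 2, 9, 12, 13, 5, 1, 20, 8, 16, 11, 21, 4, 18, 7, 19, 6, 22, 3, 10, 17, 15, 14, 23],
  [0, 16, 13, 6, 3, 5, 1, 15, 12, 9, 22, 19, 18, 8, 17, 14, 4, 23, 2, 10, 11, 21, 20, 7],
  [0, 12, 4, 6, 2, 5, 13, 22, 9, 16, 21, 14, 18, 3, 20, 23, 1, 19, 8, 17, 11, 15, 10, 7],
  [0, 12, 9, 13, 18, 5, 3, 10, 2, 6, 22, 21, 1, 8, 17, 20, 4, 19, 16, 11, 15, 23, 7, 14],
  [0, 6, 18, 4, 16, 5, 3, 23, 13, 9, 19, 20, 8, 2, 15, 7, 1, 14, 12, 11, 22, 21, 10, 17],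
  [0, 6, 18, 1, 12, 5, 2, 19, 4, 16, 14, 10, 3, 8, 22, 7, 13, 23, 9, 11, 21, 15, 17, 20],
  [0, 4, 13, 1, 9, 5, 18, 14, 16, 6, 15, 7, 3, 12, 17, 23, 2, 10, 8, 22, 21, 19, 11, 20],
  [0, 13, 9, 18, 8, 5, 16, 11, 12, 4, 19, 21, 3, 2, 15, 10, 1, 20, 6, 22, 23, 14, 17, 7],
  [0, 18, 16, 3, 8, 5, 6, 21, 4, 13, 10, 15, 12, 9, 19, 11, 2, 17, 1, 14, 23, 7, 22, 20],
  [0, 1, 18, 3, 9, 5, 8, 7, 6, 4, 23, 17, 16, 13, 15, 14, 12, 11, 2, 19, 21, 20, 22, 10],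
  [0, 16, 4, 13, 2, 5, 3, 23, 18, 8, 22, 20, 1, 6, 11, 21, 9, 19, 12, 17, 14, 10, 7, 15],
  [0, 18, 9, 8, 2, 5, 6, 22, 13, 1, 20, 21, 16, 12, 23, 11, 3, 10, 4, 19, 14, 7, 15, 17],
  [0, 12, 8, 18, 4, 5, 3, 7, 6, 16, 14, 10, 9, 1, 15, 20, 13, 22, 2, 17, 11, 23, 21, 19],
  [0, 12, 2, 18, 16, 5, 6, 7, 3, 4, 19, 22, 13, 1, 20, 15, 9, 10, 8, 17, 23, 11, 21, 14],
  [0, 16, 6, 2, 9, 5, 3, 7, 8, 12, 15, 23, 4, 1, 14, 21, 13, 22, 18, 11, 17, 10, 20, 19],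
  [0, 9, 8, 2, 13, 5, 3, 7, 18, 4, 17, 21, 1, 12, 11, 20, 16, 14, 6, 22, 19, 10, 23, 15],
  [0, 13, 3, 8, 16, 5, 18, 7, 6, 9, 20, 19, 4, 12, 15, 23, 1, 21, 2, 10, 22, 14, 11, 17],
  [0, 4, 6, 18, 13, 5, 3, 7, 2, 9, 11, 20, 1, 16, 17, 21, 12, 15, 8, 22, 19, 23, 10, 14],
  [0, 16, 6, 8, 1, 5, 18, 7, 2, 4, 22, 23, 12, 9, 10, 11, 13, 15, 3, 21, 17, 14, 19, 20],
  [0, 13, 3, 6, 12, 5, 2, 7, 8, 4, 21, 19, 9, 16, 14, 10, 1, 20, 18, 23, 22, 15, 17, 11]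
]

theorem m11cTabs_eq : runSLP m11cProg [idT, tA, tB, tC] = m11cTabs := by decide +kernel

/-- Chain of the stabiliser of the dodecad and the point 0 on the complement: base point, orbit, node numbers of the transversal, for each level. -/
def m11cSpecs : List (ℕ × List ℕ × List ℕ) := [
  (5, [5, 7, 10, 11, 14, 15, 17, 19, 20, 21, 22, 23],
    [0, 54, 57, 52, 49, 51, 55, 56, 50, 53, 48, 45]),
  (7, [7, 10, 11, 14, 15, 17, 19, 20, 21, 22, 23],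
    [0, 66, 70, 69, 64, 60, 68, 63, 71, 65, 67]),
  (10, [10, 11, 14, 15, 17, 19, 20, 21, 22, 23],
    [0, 80, 75, 77, 78, 76, 79, 82, 81, 72])
]

/-- Chain of the stabiliser of the dodecad and the point 0 on the complement: the levels of the chain. -/
def m11cLevels : List Level := m11cSpecs.map (mkLevel m11cTabs)

theorem tabled_m11cTabs : ∀ l ∈ m11cTabs, Tabled M24 l := by
  rw [← m11cTabs_eq]
  apply tabled_runSLP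
  intro l hl
  simp only [List.mem_cons, List.not_mem_nil, or_false] at hl
  rcases hl with rfl | rfl | rfl | rfl
  · exact tabled_idT _
  · exact ⟨gA, gA_mem_M24, isTable_gA⟩
  · exact ⟨projInv, projInv_mem_M24, isTable_projInv⟩
  · exact ⟨cubeTwist, cubeTwist_mem_M24, isTable_cubeTwist⟩

theorem tabled_m11cLevels_M24 : ∀ L ∈ m11cLevels, ∀ l ∈ L.T, Tabled M24 l := by
  intro L hL l hl
  rw [m11cLevels, List.mem_map] at hL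
  obtain ⟨s, _, rfl⟩ := hL
  exact tabled_m11cTabs l (mkLevel_T_mem _ _ l hl)

theorem m11c_stable : m11cLevels.all (fun L => L.T.all (maskStable d0)) = true := by decide +kernel

theorem tabled_m11cLevels : ∀ L ∈ m11cLevels, ∀ l ∈ L.T, Tabled M12 l := by
  intro L hL l hl
  have h := m11c_stable
  rw [List.all_eq_true] at h
  have h1 := h L hL
  rw [List.all_eq_true] at h1
  exact (tabled_m11cLevels_M24 L hL l hl).setStab (h1 l hl)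

theorem m11c_chainOK : chainOK [0] m11cLevels = true := by decide +kernel

theorem m11c_full : fullOK d0c [0] m11cLevels = true := by decide +kernel

theorem m11c_b : m11cLevels.map (fun L => L.b) = [5, 7, 10] := by decide +kernel

theorem d0c_testBit : ∀ i < 24, d0c.testBit i = !d0.testBit i := by decide +kernel

theorem M12_inv_c : ∀ g ∈ M12, ∀ p, d0c.testBit (idx p) = true → d0c.testBit (idx (g p)) = true := by
  intro g hg p hp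
  rw [d0c_testBit _ (idx_lt _)] at hp ⊢
  rw [hg.2 p]
  exact hp

theorem not_mem_d0F_iff (p : GolayPt) : p ∉ d0F ↔ d0c.testBit (idx p) = true := by
  rw [mem_d0F_iff, d0c_testBit _ (idx_lt _)]
  simp

/-- Every injective triple of points outside the standard dodecad is the image of the triple
`[5, 7, 10]` under an element of `M12` fixing the point `0`. -/
theorem m11_exists_of_triple (x : Fin 3 ↪ GolayPt) (hx : ∀ i, x i ∉ d0F) :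
    ∃ g ∈ fixG M12 [0], g (pt 5) = x 0 ∧ g (pt 7) = x 1 ∧ g (pt 10) = x 2 := by
  obtain ⟨g, hg, hall⟩ := chain_trans (H := M12) d0c M12_inv_c (F := [0]) (Ls := m11cLevels)
    tabled_m11cLevels m11c_chainOK m11c_full (by simp) (List.ofFn x)
    (by simp; decide +kernel) (List.nodup_ofFn.mpr x.injective)
    (by
      intro y hy
      rw [List.mem_ofFn] at hy
      obtain ⟨i, rfl⟩ := hy
      exact (not_mem_d0F_iff _).mp (hx i))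
    (by
      intro y hy
      rw [List.mem_ofFn] at hy
      obtain ⟨i, rfl⟩ := hy
      have h1 := (not_mem_d0F_iff _).mp (hx i)
      intro h0
      rw [List.mem_singleton] at h0
      rw [h0] at h1
      revert h1
      decide +kernel)
  refine ⟨g, hg, ?_⟩
  have h2 : List.Forall₂ (fun b y => g (pt b) = y) (m11cLevels.map (fun L => L.b))
      (List.ofFn x) := by
    rw [List.forall₂_map_left_iff]
    exact hall
  rw [m11c_b] at h2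
  simp only [List.ofFn_succ, List.ofFn_zero, List.forall₂_cons, List.forall₂_nil_right_iff] at h2
  obtain ⟨h0, h1, h2, -⟩ := h2
  exact ⟨h0, h1, h2⟩

/-- `fixG M12 [0]` is 3-transitive on the complement of the standard dodecad. -/
theorem m11_exists_map_triple (x y : Fin 3 ↪ GolayPt) (hx : ∀ i, x i ∉ d0F) (hy : ∀ i, y i ∉ d0F) :
    ∃ k ∈ fixG M12 [0], ∀ i, k (x i) = y i := by
  obtain ⟨gx, hgx, hx0, hx1, hx2⟩ := m11_exists_of_triple x hx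
  obtain ⟨gy, hgy, hy0, hy1, hy2⟩ := m11_exists_of_triple y hy
  refine ⟨gy * gx⁻¹, (fixG M12 [0]).mul_mem hgy ((fixG M12 [0]).inv_mem hgx), fun i => ?_⟩
  fin_cases i
  · show (gy * gx⁻¹) (x 0) = y 0
    rw [← hx0, ← hy0]; simp
  · show (gy * gx⁻¹) (x 1) = y 1
    rw [← hx1, ← hy1]; simp
  · show (gy * gx⁻¹) (x 2) = y 2
    rw [← hx2, ← hy2]; simp

/-- The stabiliser of a dodecad and a point on it is 3-transitive on the complementary dodecad. -/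
theorem dodecad_point_stab_three_trans {d : Finset GolayPt} (hd : d ∈ dodecads) {p : GolayPt}
    (hp : p ∈ d) (x y : Fin 3 ↪ GolayPt) (hx : ∀ i, x i ∉ d) (hy : ∀ i, y i ∉ d) :
    ∃ g ∈ MulAction.stabilizer M24 d ⊓ MulAction.stabilizer M24 p,
      ∀ i, (g : Equiv.Perm GolayPt) (x i) = y i := by
  obtain ⟨h, rfl⟩ := exists_smul_d0F_eq hd
  have hp' : (h : Equiv.Perm GolayPt)⁻¹ p ∈ d0F := by
    have : (h : Equiv.Perm GolayPt) • d0F = h • d0F := rfl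
    rw [← this, Finset.mem_smul_finset] at hp
    obtain ⟨q, hq, rfl⟩ := hp
    simpa using hq
  obtain ⟨t, ht, ht0⟩ := m12_exists_map₁ hp'
  have ht' := (mem_M12_iff t).mp ht
  -- s = h t maps the standard dodecad to d and the point 0 to p
  let s : Equiv.Perm GolayPt := (h : Equiv.Perm GolayPt) * t
  have hs24 : s ∈ M24 := M24.mul_mem h.2 ht'.1
  have hsd : s • d0F = h • d0F := by
    show ((h : Equiv.Perm GolayPt) * t) • d0F = (h : Equiv.Perm GolayPt) • d0F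
    rw [mul_smul, ht'.2]
  have hsp : s (pt 0) = p := by
    show (h : Equiv.Perm GolayPt) (t (pt 0)) = p
    rw [ht0]
    simp
  have hout : ∀ q, q ∉ h • d0F → s⁻¹ q ∉ d0F := by
    intro q hq hcon
    apply hq
    rw [← hsd]
    have : q = s • (s⁻¹ q) := by simp
    rw [this]
    exact Finset.smul_mem_smul_finset hcon
  let x' : Fin 3 ↪ GolayPt := x.trans (s⁻¹).toEmbedding
  let y' : Fin 3 ↪ GolayPt := y.trans (s⁻¹).toEmbedding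
  obtain ⟨k, hk, hkxy⟩ := m11_exists_map_triple x' y' (fun i => hout _ (hx i)) (fun i => hout _ (hy i))
  have hk' := (mem_M12_iff k).mp hk.1
  have hg24 : s * k * s⁻¹ ∈ M24 := M24.mul_mem (M24.mul_mem hs24 hk'.1) (M24.inv_mem hs24)
  refine ⟨⟨s * k * s⁻¹, hg24⟩, ⟨?_, ?_⟩, ?_⟩
  · show (s * k * s⁻¹) • (h • d0F) = h • d0F
    rw [← hsd, mul_smul, mul_smul, inv_smul_smul, hk'.2]
  · show (s * k * s⁻¹) p = p
    rw [← hsp, Equiv.Perm.mul_apply, Equiv.Perm.mul_apply]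
    have h1 : s⁻¹ (s (pt 0)) = pt 0 := by simp
    rw [h1, hk.2 0 (List.mem_singleton.mpr rfl)]
  · intro i
    show (s * k * s⁻¹) (x i) = y i
    have := hkxy i
    simp only [x', y', Function.Embedding.trans_apply, Equiv.coe_toEmbedding] at this
    rw [Equiv.Perm.mul_apply, Equiv.Perm.mul_apply, this]
    simp

end Cfsg.Agent.Helper7
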