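import Cfsg.Agent.Helper7.TableIso
import Cfsg.Agent.Helper7.M11S5
import Cfsg.Agent.Helper56.GL23

/-!
# Centralisers of involutions in the stabiliser of a dodecad and a point (generated data + proofs)
-/

set_option autoImplicit false

namespace Cfsg.Agent.Helper7

open Cfsg MulAction Cfsg.Agent.Helper56.GL23
open scoped Pointwise

/-- Table of the standard involution. -/
def invT0 : List ℕ := [0, 1, 2, 3, 12, 5, 9, 10, 16, 6, 7, 22, 4, 18, 14, 19, 8, 17, 13, 15, 21, 20, 11, 23]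

/-- The tables of the centraliser of the standard involution, with the corresponding matrices. -/
def c48 : List (List ℕ × Q3) := [
  ([0, 1, 2, 3, 4, 5, 6, 7, 8, 9, 10, 11, 12, 13, 14, 15, 16, 17, 18, 19, 20, 21, 22, 23], (1, 0, 0, 1)),
  ([0, 1, 2, 3, 6, 14, 12, 22, 13, 4, 11, 7, 9, 16, 5, 21, 18, 23, 8, 20, 15, 19, 10, 17], (1, 1, 1, 2)),
  ([0, 1, 2, 3, 8, 17, 18, 15, 12, 13, 19, 21, 16, 6, 23, 10, 4, 5, 9, 7, 11, 22, 20, 14], (2, 1, 1, 1)),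
  ([0, 1, 2, 3, 9, 14, 4, 11, 18, 12, 22, 10, 6, 8, 5, 20, 13, 23, 16, 21, 19, 15, 7, 17], (2, 2, 2, 1)),
  ([0, 1, 2, 3, 12, 5, 9, 10, 16, 6, 7, 22, 4, 18, 14, 19, 8, 17, 13, 15, 21, 20, 11, 23], (2, 0, 0, 2)),
  ([0, 1, 2, 3, 13, 23, 8, 21, 9, 16, 20, 19, 18, 12, 17, 11, 6, 14, 4, 22, 7, 10, 15, 5], (0, 2, 1, 0)),
  ([0, 1, 2, 3, 16, 17, 13, 19, 4, 18, 15, 20, 8, 9, 23, 7, 12, 5, 6, 10, 22, 11, 21, 14], (1, 2, 2, 2)),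
  ([0, 1, 2, 3, 18, 23, 16, 20, 6, 8, 21, 15, 13, 4, 17, 22, 9, 14, 12, 11, 10, 7, 19, 5], (0, 1, 2, 0)),
  ([0, 1, 3, 2, 6, 14, 4, 11, 16, 12, 22, 7, 9, 13, 5, 15, 8, 17, 18, 19, 21, 20, 10, 23], (2, 2, 0, 1)),
  ([0, 1, 3, 2, 4, 5, 9, 10, 13, 6, 7, 11, 12, 8, 14, 20, 18, 23, 16, 21, 15, 19, 22, 17], (1, 0, 1, 2)),
  ([0, 1, 3, 2, 16, 17, 18, 15, 9, 13, 19, 20, 8, 4, 23, 22, 6, 14, 12, 11, 7, 10, 21, 5], (0, 1, 1, 1)),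
  ([0, 1, 3, 2, 12, 5, 6, 7, 18, 9, 10, 22, 4, 16, 14, 21, 13, 23, 8, 20, 19, 15, 11, 17], (2, 0, 2, 1)),
  ([0, 1, 3, 2, 9, 14, 12, 22, 8, 4, 11, 10, 6, 18, 5, 19, 16, 17, 13, 15, 20, 21, 7, 23], (1, 1, 0, 2)),
  ([0, 1, 3, 2, 13, 23, 16, 20, 12, 8, 21, 19, 18, 9, 17, 7, 4, 5, 6, 10, 11, 22, 15, 14], (2, 1, 1, 0)),
  ([0, 1, 3, 2, 8, 17, 13, 19, 6, 18, 15, 21, 16, 12, 23, 11, 9, 14, 4, 22, 10, 7, 20, 5], (0, 2, 2, 2)),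
  ([0, 1, 3, 2, 18, 23, 8, 21, 4, 16, 20, 15, 13, 6, 17, 10, 12, 5, 9, 7, 22, 11, 19, 14], (1, 2, 2, 0)),
  ([0, 2, 3, 1, 16, 14, 12, 19, 6, 4, 15, 7, 8, 13, 23, 22, 9, 17, 18, 11, 20, 21, 10, 5], (0, 1, 2, 2)),
  ([0, 2, 3, 1, 12, 23, 8, 10, 13, 16, 7, 19, 4, 9, 14, 21, 18, 5, 6, 20, 22, 11, 15, 17], (1, 2, 1, 0)),
  ([0, 2, 3, 1, 6, 17, 18, 22, 8, 13, 11, 21, 9, 12, 5, 15, 16, 14, 4, 19, 7, 10, 20, 23], (1, 1, 0, 1)),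
  ([0, 2, 3, 1, 4, 23, 16, 7, 18, 8, 10, 15, 12, 6, 14, 20, 13, 5, 9, 21, 11, 22, 19, 17], (2, 1, 2, 0)),
  ([0, 2, 3, 1, 8, 14, 4, 15, 9, 12, 19, 10, 16, 18, 23, 11, 6, 17, 13, 22, 21, 20, 7, 5], (0, 2, 1, 1)),
  ([0, 2, 3, 1, 13, 5, 6, 21, 4, 9, 20, 11, 18, 8, 17, 7, 12, 23, 16, 10, 19, 15, 22, 14], (1, 0, 2, 1)),
  ([0, 2, 3, 1, 9, 17, 13, 11, 16, 18, 22, 20, 6, 4, 5, 19, 8, 14, 12, 15, 10, 7, 21, 23], (2, 2, 0, 2)),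
  ([0, 2, 3, 1, 18, 5, 9, 20, 12, 6, 21, 22, 13, 16, 17, 10, 4, 23, 8, 7, 15, 19, 11, 14], (2, 0, 1, 2)),
  ([0, 2, 1, 3, 16, 14, 4, 15, 13, 12, 19, 7, 8, 6, 23, 20, 18, 5, 9, 21, 22, 11, 10, 17], (1, 2, 1, 1)),
  ([0, 2, 1, 3, 4, 23, 8, 10, 6, 16, 7, 15, 12, 18, 14, 11, 9, 17, 13, 22, 20, 21, 19, 5], (0, 2, 2, 0)),
  ([0, 2, 1, 3, 13, 5, 9, 20, 8, 6, 21, 11, 18, 4, 17, 19, 16, 14, 12, 15, 7, 10, 22, 23], (1, 0, 0, 2)),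
  ([0, 2, 1, 3, 12, 23, 16, 7, 9, 8, 10, 19, 4, 13, 14, 22, 6, 17, 18, 11, 21, 20, 15, 5], (0, 1, 1, 0)),
  ([0, 2, 1, 3, 8, 14, 12, 19, 18, 4, 15, 10, 16, 9, 23, 21, 13, 5, 6, 20, 11, 22, 7, 17], (2, 1, 2, 2)),
  ([0, 2, 1, 3, 6, 17, 13, 11, 12, 18, 22, 21, 9, 8, 5, 7, 4, 23, 16, 10, 15, 19, 20, 14], (2, 2, 1, 2)),
  ([0, 2, 1, 3, 18, 5, 6, 21, 16, 9, 20, 22, 13, 12, 17, 15, 8, 14, 4, 19, 10, 7, 11, 23], (2, 0, 0, 1)),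
  ([0, 2, 1, 3, 9, 17, 18, 22, 4, 13, 11, 20, 6, 16, 5, 10, 12, 23, 8, 7, 19, 15, 21, 14], (1, 1, 2, 1)),
  ([0, 3, 1, 2, 6, 23, 16, 22, 4, 8, 11, 15, 9, 18, 5, 7, 12, 17, 13, 10, 21, 20, 19, 14], (1, 1, 2, 0)),
  ([0, 3, 1, 2, 16, 5, 9, 19, 18, 6, 15, 22, 8, 12, 23, 20, 13, 14, 4, 21, 7, 10, 11, 17], (2, 0, 2, 2)),
  ([0, 3, 1, 2, 4, 17, 13, 7, 9, 18, 10, 20, 12, 16, 14, 11, 6, 23, 8, 22, 15, 19, 21, 5], (0, 2, 1, 2)),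
  ([0, 3, 1, 2, 8, 5, 6, 15, 13, 9, 19, 11, 16, 4, 23, 21, 18, 14, 12, 20, 10, 7, 22, 17], (1, 0, 1, 1)),
  ([0, 3, 1, 2, 9, 23, 8, 11, 12, 16, 22, 19, 6, 13, 5, 10, 4, 17, 18, 7, 20, 21, 15, 14], (2, 2, 1, 0)),
  ([0, 3, 1, 2, 18, 14, 4, 20, 8, 12, 21, 10, 13, 9, 17, 15, 16, 5, 6, 19, 22, 11, 7, 23], (1, 2, 0, 1)),
  ([0, 3, 1, 2, 12, 17, 18, 10, 6, 13, 7, 21, 4, 8, 14, 22, 9, 23, 16, 11, 19, 15, 20, 5], (0, 1, 2, 1)),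
  ([0, 3, 1, 2, 13, 14, 12, 21, 16, 4, 20, 7, 18, 6, 17, 19, 8, 5, 9, 15, 11, 22, 10, 23], (2, 1, 0, 2)),
  ([0, 3, 2, 1, 16, 5, 6, 15, 12, 9, 19, 22, 8, 18, 23, 7, 4, 17, 13, 10, 20, 21, 11, 14], (2, 0, 1, 1)),
  ([0, 3, 2, 1, 6, 23, 8, 11, 18, 16, 22, 15, 9, 4, 5, 21, 13, 14, 12, 20, 7, 10, 19, 17], (2, 2, 2, 0)),
  ([0, 3, 2, 1, 12, 17, 13, 7, 8, 18, 10, 21, 4, 6, 14, 19, 16, 5, 9, 15, 22, 11, 20, 23], (1, 2, 0, 2)),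
  ([0, 3, 2, 1, 9, 23, 16, 22, 13, 8, 11, 19, 6, 12, 5, 20, 18, 14, 4, 21, 10, 7, 15, 17], (1, 1, 1, 0)),
  ([0, 3, 2, 1, 8, 5, 9, 19, 4, 6, 15, 11, 16, 13, 23, 10, 12, 17, 18, 7, 21, 20, 22, 14], (1, 0, 2, 2)),
  ([0, 3, 2, 1, 18, 14, 12, 21, 9, 4, 20, 10, 13, 8, 17, 22, 6, 23, 16, 11, 15, 19, 7, 5], (0, 1, 1, 2)),
  ([0, 3, 2, 1, 4, 17, 18, 10, 16, 13, 7, 20, 12, 9, 14, 15, 8, 5, 6, 19, 11, 22, 21, 23], (2, 1, 0, 1)),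
  ([0, 3, 2, 1, 13, 14, 4, 20, 6, 12, 21, 7, 18, 16, 17, 11, 9, 23, 8, 22, 19, 15, 10, 5], (0, 2, 2, 1))
]

/-- The tables of the centraliser of the standard involution. -/
def c48Tabs : List (List ℕ) := c48.map Prod.fst

theorem c48Tabs_eq :
    m11Tabs.filter (fun l => compT l invT0 == compT invT0 l) = c48Tabs := by decide +kernel

/-- The matrix of a table. -/
def valQ (l : List ℕ) : Q3 := lookupT qone c48 l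

theorem c48_mul : c48Tabs.all (fun l => c48Tabs.all (fun l' =>
    decide (valQ (compT l l') = qmul (valQ l) (valQ l')))) = true := by decide +kernel

theorem c48_nodup : c48Tabs.Nodup := by decide +kernel

theorem c48_inj : (c48Tabs.map valQ).Nodup := by decide +kernel

theorem c48_one : valQ idT = qone := by decide +kernel

/-- Conjugating elements: every involution is conjugate to the standard one by one of these. -/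
def conj165 : List (List ℕ) := [
  [0, 1, 2, 3, 4, 5, 6, 7, 8, 9, 10, 11, 12, 13, 14, 15, 16, 17, 18, 19, 20, 21, 22, 23],
  [0, 1, 2, 4, 12, 15, 16, 7, 9, 13, 10, 22, 3, 8, 21, 19, 18, 17, 6, 5, 14, 20, 23, 11],
  [0, 1, 2, 4, 13, 21, 12, 22, 6, 3, 23, 10, 16, 9, 15, 14, 8, 11, 18, 20, 5, 19, 7, 17],
  [0, 1, 2, 4, 18, 17, 8, 5, 12, 6, 19, 14, 9, 13, 11, 7, 3, 15, 16, 10, 23, 22, 20, 21],
  [0, 1, 2, 4, 16, 21, 3, 23, 8, 12, 22, 7, 13, 18, 15, 20, 6, 11, 9, 14, 19, 5, 10, 17],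
  [0, 1, 2, 4, 3, 15, 13, 10, 18, 16, 7, 23, 12, 6, 21, 5, 9, 17, 8, 19, 20, 14, 22, 11],
  [0, 1, 2, 4, 6, 11, 18, 14, 16, 9, 20, 19, 8, 12, 17, 23, 13, 21, 3, 22, 10, 7, 5, 15],
  [0, 1, 2, 4, 9, 17, 6, 19, 3, 8, 5, 20, 18, 16, 11, 10, 12, 15, 13, 7, 22, 23, 14, 21],
  [0, 1, 2, 4, 8, 11, 9, 20, 13, 18, 14, 5, 6, 3, 17, 22, 16, 21, 12, 23, 7, 10, 19, 15],
  [0, 1, 4, 12, 13, 22, 18, 21, 6, 16, 19, 20, 8, 3, 11, 17, 9, 5, 2, 23, 7, 10, 15, 14],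
  [0, 1, 4, 12, 2, 14, 9, 7, 18, 6, 10, 17, 3, 13, 5, 15, 16, 11, 8, 20, 19, 21, 23, 22],
  [0, 1, 4, 12, 6, 5, 2, 17, 8, 3, 23, 10, 9, 18, 14, 19, 13, 22, 16, 21, 20, 15, 7, 11],
  [0, 1, 4, 12, 16, 11, 13, 20, 2, 8, 15, 19, 18, 6, 22, 7, 3, 14, 9, 10, 23, 17, 21, 5],
  [0, 1, 4, 3, 12, 20, 8, 7, 13, 18, 10, 22, 2, 6, 19, 14, 9, 11, 16, 15, 21, 5, 17, 23],
  [0, 1, 4, 6, 12, 19, 18, 23, 16, 13, 17, 11, 9, 2, 15, 5, 3, 22, 8, 21, 20, 14, 7, 10],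
  [0, 1, 4, 18, 12, 10, 9, 20, 6, 2, 15, 5, 16, 8, 23, 11, 13, 14, 3, 7, 17, 22, 19, 21],
  [0, 1, 4, 8, 12, 23, 2, 21, 3, 6, 19, 14, 13, 16, 7, 22, 18, 5, 9, 17, 10, 11, 20, 15],
  [0, 1, 4, 18, 2, 23, 12, 5, 3, 16, 19, 15, 9, 6, 10, 17, 8, 21, 13, 22, 7, 11, 20, 14],
  [0, 1, 4, 6, 13, 15, 12, 11, 8, 9, 7, 17, 18, 16, 19, 20, 2, 10, 3, 14, 21, 5, 23, 22],
  [0, 1, 4, 8, 6, 7, 12, 14, 9, 13, 20, 19, 2, 3, 23, 10, 16, 15, 18, 11, 17, 22, 21, 5],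
  [0, 1, 4, 3, 18, 19, 12, 22, 16, 2, 17, 10, 8, 13, 20, 21, 6, 23, 9, 5, 15, 14, 7, 11],
  [0, 1, 4, 8, 18, 5, 16, 17, 12, 9, 22, 10, 3, 6, 15, 21, 13, 23, 2, 19, 20, 14, 11, 7],
  [0, 1, 4, 18, 13, 14, 8, 7, 12, 3, 11, 17, 6, 2, 21, 20, 16, 10, 9, 15, 19, 5, 22, 23],
  [0, 1, 4, 3, 9, 11, 6, 15, 12, 16, 14, 21, 13, 18, 23, 7, 2, 20, 8, 10, 17, 22, 5, 19],
  [0, 1, 4, 6, 3, 22, 2, 21, 12, 8, 5, 20, 16, 13, 10, 23, 9, 19, 18, 17, 7, 11, 14, 15],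
  [0, 1, 4, 18, 9, 23, 16, 19, 8, 12, 5, 20, 2, 13, 10, 22, 3, 21, 6, 17, 11, 7, 15, 14],
  [0, 1, 4, 8, 2, 7, 13, 20, 16, 12, 14, 21, 6, 18, 23, 11, 9, 15, 3, 10, 22, 17, 19, 5],
  [0, 1, 4, 6, 18, 15, 9, 7, 2, 12, 11, 23, 13, 3, 19, 14, 8, 10, 16, 20, 5, 21, 17, 22],
  [0, 1, 4, 3, 8, 19, 2, 17, 6, 12, 22, 7, 18, 9, 20, 5, 16, 23, 13, 21, 14, 15, 10, 11],
  [0, 1, 4, 6, 9, 19, 13, 17, 3, 18, 23, 7, 12, 8, 15, 21, 16, 22, 2, 5, 14, 20, 11, 10],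
  [0, 1, 4, 3, 2, 20, 18, 10, 9, 8, 7, 17, 12, 16, 19, 15, 13, 11, 6, 14, 5, 21, 22, 23],
  [0, 1, 4, 8, 13, 23, 6, 19, 18, 2, 21, 20, 12, 9, 7, 17, 3, 5, 16, 22, 11, 10, 14, 15],
  [0, 1, 4, 18, 16, 10, 2, 15, 13, 9, 20, 19, 12, 3, 23, 7, 6, 14, 8, 11, 22, 17, 5, 21],
  [0, 1, 4, 6, 8, 10, 3, 20, 18, 16, 14, 5, 2, 12, 22, 7, 13, 15, 9, 11, 17, 23, 21, 19],
  [0, 1, 4, 8, 9, 15, 18, 10, 2, 3, 11, 22, 16, 12, 5, 20, 6, 7, 13, 14, 19, 21, 17, 23],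
  [0, 1, 4, 18, 3, 21, 13, 17, 9, 6, 22, 11, 8, 12, 14, 19, 2, 23, 16, 5, 15, 20, 7, 10],
  [0, 1, 4, 3, 16, 23, 9, 21, 8, 13, 5, 14, 6, 12, 11, 17, 18, 19, 2, 22, 10, 7, 15, 20],
  [0, 1, 4, 18, 6, 14, 3, 11, 16, 8, 7, 22, 13, 9, 21, 15, 12, 10, 2, 20, 5, 19, 17, 23],
  [0, 1, 4, 8, 3, 5, 9, 22, 13, 16, 17, 11, 18, 2, 15, 19, 12, 23, 6, 21, 14, 20, 10, 7],
  [0, 1, 4, 6, 16, 22, 8, 5, 9, 2, 21, 14, 3, 18, 10, 17, 12, 19, 13, 23, 11, 7, 20, 15],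
  [0, 1, 4, 3, 13, 11, 16, 14, 2, 6, 15, 5, 9, 8, 23, 10, 12, 20, 18, 7, 22, 17, 21, 19],
  [0, 1, 4, 6, 2, 10, 16, 14, 13, 3, 20, 21, 8, 9, 22, 11, 18, 15, 12, 7, 23, 17, 5, 19],
  [0, 1, 4, 8, 16, 15, 3, 11, 6, 18, 10, 17, 9, 13, 5, 14, 2, 7, 12, 20, 21, 19, 22, 23],
  [0, 1, 4, 18, 8, 21, 6, 22, 2, 13, 17, 7, 3, 16, 14, 5, 9, 23, 12, 19, 20, 15, 11, 10],
  [0, 1, 4, 3, 6, 23, 13, 5, 18, 9, 21, 15, 16, 2, 11, 22, 8, 19, 12, 17, 7, 10, 14, 20],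
  [0, 4, 12, 13, 1, 7, 18, 19, 16, 3, 21, 5, 8, 9, 15, 14, 6, 22, 2, 10, 20, 11, 23, 17],
  [0, 4, 12, 13, 2, 17, 6, 20, 18, 16, 11, 14, 9, 1, 22, 23, 3, 15, 8, 5, 21, 19, 10, 7],
  [0, 4, 12, 13, 8, 7, 3, 21, 6, 18, 19, 23, 1, 2, 15, 10, 16, 22, 9, 14, 11, 20, 5, 17],
  [0, 4, 12, 13, 16, 22, 2, 14, 8, 9, 10, 11, 6, 18, 17, 21, 1, 7, 3, 19, 5, 23, 20, 15],
  [0, 4, 12, 3, 2, 21, 8, 10, 16, 6, 7, 15, 1, 13, 17, 19, 9, 14, 18, 22, 5, 23, 11, 20],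
  [0, 4, 12, 3, 16, 14, 18, 19, 1, 13, 22, 23, 9, 8, 20, 7, 2, 21, 6, 10, 15, 11, 5, 17],
  [0, 4, 12, 3, 13, 20, 16, 23, 6, 9, 5, 22, 18, 1, 14, 15, 8, 17, 2, 11, 10, 7, 19, 21],
  [0, 4, 12, 3, 8, 17, 1, 11, 13, 2, 15, 10, 6, 9, 21, 23, 18, 20, 16, 5, 19, 22, 7, 14],
  [0, 4, 12, 13, 18, 15, 8, 23, 9, 1, 5, 19, 3, 6, 7, 11, 2, 17, 16, 20, 14, 10, 21, 22],
  [0, 4, 12, 13, 6, 22, 9, 10, 1, 2, 14, 20, 16, 3, 17, 19, 8, 7, 18, 21, 23, 5, 11, 15],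
  [0, 4, 12, 13, 3, 15, 1, 5, 2, 8, 23, 21, 18, 16, 7, 20, 9, 17, 6, 11, 10, 14, 19, 22],
  [0, 4, 12, 13, 9, 17, 16, 11, 3, 6, 20, 10, 2, 8, 22, 5, 18, 15, 1, 23, 19, 21, 14, 7],
  [0, 4, 16, 12, 18, 23, 13, 15, 9, 6, 20, 10, 1, 2, 21, 22, 3, 7, 8, 19, 17, 5, 14, 11],
  [0, 4, 16, 12, 6, 21, 18, 10, 8, 1, 14, 20, 13, 9, 23, 17, 2, 11, 3, 5, 19, 22, 15, 7],
  [0, 4, 16, 12, 2, 11, 9, 5, 6, 3, 17, 19, 8, 1, 7, 10, 13, 21, 18, 14, 15, 20, 22, 23],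
  [0, 4, 16, 12, 3, 7, 2, 19, 18, 8, 22, 17, 9, 6, 11, 15, 1, 23, 13, 20, 14, 10, 5, 21],
  [0, 4, 16, 12, 9, 7, 8, 22, 1, 2, 19, 5, 3, 13, 11, 20, 18, 23, 6, 15, 10, 14, 17, 21],
  [0, 4, 16, 12, 8, 11, 3, 17, 13, 9, 5, 22, 2, 18, 7, 14, 6, 21, 1, 10, 20, 15, 19, 23],
  [0, 4, 3, 12, 6, 17, 1, 11, 16, 2, 15, 7, 8, 18, 21, 22, 9, 14, 13, 19, 5, 23, 10, 20],
  [0, 4, 3, 12, 13, 20, 9, 5, 1, 16, 23, 22, 18, 6, 14, 10, 2, 21, 8, 7, 15, 11, 19, 17],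
  [0, 4, 3, 12, 16, 14, 13, 22, 8, 18, 19, 23, 9, 1, 20, 15, 6, 17, 2, 11, 7, 10, 5, 21],
  [0, 4, 3, 12, 2, 21, 6, 7, 13, 8, 10, 15, 1, 16, 17, 5, 18, 20, 9, 23, 19, 22, 11, 14],
  [0, 4, 16, 12, 13, 21, 1, 14, 2, 18, 10, 15, 6, 3, 23, 5, 8, 11, 9, 17, 22, 19, 20, 7],
  [0, 4, 16, 12, 1, 23, 6, 20, 3, 13, 15, 14, 18, 8, 21, 19, 9, 7, 2, 22, 5, 17, 10, 11],
  [0, 4, 16, 3, 12, 15, 6, 22, 13, 1, 19, 21, 9, 2, 10, 7, 8, 23, 18, 20, 14, 11, 5, 17],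
  [0, 4, 16, 8, 12, 14, 18, 5, 1, 6, 17, 23, 2, 3, 15, 11, 9, 21, 13, 10, 20, 7, 19, 22],
  [0, 4, 16, 13, 12, 5, 3, 10, 9, 8, 14, 7, 6, 1, 19, 21, 18, 11, 2, 17, 22, 23, 20, 15],
  [0, 4, 16, 18, 12, 22, 2, 20, 8, 3, 15, 11, 1, 13, 5, 23, 6, 7, 9, 19, 17, 21, 14, 10],
  [0, 4, 16, 1, 12, 19, 8, 15, 2, 9, 20, 11, 18, 6, 17, 23, 13, 7, 3, 22, 5, 21, 10, 14],
  [0, 4, 16, 2, 12, 10, 1, 17, 18, 13, 5, 23, 8, 9, 20, 11, 3, 21, 6, 14, 15, 7, 22, 19],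
  [0, 4, 16, 6, 12, 17, 9, 14, 3, 2, 10, 7, 13, 18, 22, 21, 1, 11, 8, 5, 19, 23, 15, 20],
  [0, 4, 16, 9, 12, 20, 13, 19, 6, 18, 22, 21, 3, 8, 14, 7, 2, 23, 1, 15, 10, 11, 17, 5],
  [0, 4, 3, 16, 12, 15, 1, 19, 2, 6, 22, 21, 9, 13, 10, 14, 18, 17, 8, 11, 7, 20, 5, 23],
  [0, 4, 3, 6, 12, 22, 18, 15, 13, 9, 11, 20, 8, 1, 23, 17, 2, 14, 16, 19, 5, 21, 10, 7],
  [0, 4, 3, 13, 12, 10, 6, 23, 8, 2, 5, 17, 18, 9, 11, 20, 16, 21, 1, 7, 15, 14, 19, 22],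
  [0, 4, 3, 1, 12, 23, 9, 7, 16, 13, 10, 14, 2, 8, 19, 21, 6, 20, 18, 5, 22, 17, 15, 11],
  [0, 4, 16, 9, 18, 14, 12, 21, 1, 3, 17, 22, 13, 6, 20, 10, 8, 5, 2, 11, 15, 7, 19, 23],
  [0, 4, 16, 2, 13, 20, 12, 23, 6, 8, 22, 5, 1, 18, 10, 15, 9, 19, 3, 7, 14, 11, 17, 21],
  [0, 4, 3, 13, 2, 11, 12, 17, 1, 18, 19, 5, 6, 8, 10, 15, 9, 22, 16, 14, 7, 20, 23, 21],
  [0, 4, 3, 1, 13, 19, 12, 14, 18, 2, 15, 10, 9, 16, 23, 22, 8, 11, 6, 17, 5, 21, 7, 20],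
  [0, 4, 3, 6, 9, 23, 12, 20, 16, 8, 10, 11, 18, 13, 22, 5, 1, 7, 2, 21, 19, 17, 15, 14],
  [0, 4, 3, 16, 6, 10, 12, 21, 8, 9, 5, 22, 1, 2, 15, 7, 13, 23, 18, 20, 11, 14, 19, 17],
  [0, 4, 16, 3, 1, 10, 12, 21, 18, 9, 5, 19, 6, 13, 15, 14, 2, 17, 8, 11, 20, 7, 22, 23],
  [0, 4, 16, 1, 9, 17, 12, 11, 3, 18, 10, 20, 8, 2, 19, 5, 6, 14, 13, 21, 22, 23, 15, 7],
  [0, 4, 16, 13, 8, 19, 12, 7, 2, 6, 20, 14, 3, 9, 5, 22, 1, 15, 18, 23, 17, 21, 10, 11],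
  [0, 4, 16, 6, 2, 22, 12, 7, 8, 13, 15, 10, 9, 3, 17, 19, 18, 20, 1, 23, 5, 21, 14, 11],
  [0, 4, 16, 18, 3, 5, 12, 11, 9, 1, 14, 15, 2, 8, 22, 17, 13, 10, 6, 21, 19, 23, 20, 7],
  [0, 4, 16, 8, 6, 15, 12, 23, 13, 2, 19, 17, 18, 1, 14, 20, 3, 22, 9, 7, 10, 11, 5, 21],
  [0, 4, 16, 6, 1, 11, 18, 5, 12, 8, 21, 19, 3, 2, 20, 14, 13, 17, 9, 10, 15, 7, 23, 22],
  [0, 4, 3, 16, 18, 17, 13, 11, 12, 8, 14, 7, 2, 6, 23, 19, 9, 15, 1, 22, 5, 21, 20, 10],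
  [0, 4, 3, 13, 16, 21, 9, 7, 12, 1, 20, 15, 8, 2, 22, 23, 18, 10, 6, 5, 19, 17, 14, 11],
  [0, 4, 3, 1, 6, 20, 8, 5, 12, 18, 21, 22, 16, 13, 11, 7, 2, 23, 9, 10, 15, 14, 17, 19],
  [0, 4, 3, 6, 2, 14, 1, 19, 12, 16, 17, 5, 13, 9, 7, 15, 8, 22, 18, 11, 10, 20, 21, 23],
  [0, 4, 16, 18, 6, 7, 13, 19, 12, 9, 23, 17, 8, 3, 10, 20, 1, 22, 2, 15, 14, 11, 21, 5],
  [0, 4, 16, 3, 8, 23, 2, 20, 12, 18, 7, 14, 13, 1, 17, 22, 9, 15, 6, 19, 5, 21, 11, 10],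
  [0, 4, 16, 1, 13, 7, 6, 22, 12, 3, 23, 5, 2, 9, 14, 15, 18, 19, 8, 20, 10, 11, 21, 17],
  [0, 4, 16, 8, 9, 21, 3, 10, 12, 13, 11, 20, 1, 6, 22, 5, 2, 14, 18, 17, 19, 23, 7, 15],
  [0, 4, 16, 9, 2, 23, 8, 15, 12, 1, 7, 10, 6, 18, 5, 19, 3, 20, 13, 22, 17, 21, 11, 14],
  [0, 4, 16, 13, 18, 11, 1, 17, 12, 2, 21, 22, 9, 8, 15, 10, 6, 5, 3, 14, 20, 7, 23, 19],
  [0, 4, 16, 2, 3, 21, 9, 14, 12, 6, 11, 15, 18, 13, 19, 17, 8, 10, 1, 5, 22, 23, 7, 20],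
  [0, 4, 16, 18, 2, 5, 1, 14, 13, 12, 11, 20, 3, 6, 22, 21, 9, 10, 8, 17, 23, 19, 15, 7],
  [0, 4, 16, 9, 13, 14, 3, 17, 8, 12, 21, 19, 18, 2, 20, 11, 1, 5, 6, 10, 7, 15, 22, 23],
  [0, 4, 16, 1, 8, 17, 18, 10, 6, 12, 11, 15, 9, 13, 19, 21, 3, 14, 2, 5, 23, 22, 20, 7],
  [0, 4, 3, 6, 18, 23, 8, 10, 1, 12, 20, 15, 9, 2, 22, 21, 16, 7, 13, 5, 17, 19, 11, 14],
  [0, 4, 3, 16, 1, 10, 9, 5, 13, 12, 21, 19, 6, 18, 15, 20, 8, 23, 2, 7, 14, 11, 22, 17],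
  [0, 4, 3, 1, 9, 19, 2, 15, 8, 12, 14, 7, 13, 6, 23, 17, 18, 11, 16, 22, 21, 5, 10, 20],
  [0, 4, 3, 13, 6, 11, 18, 19, 9, 12, 17, 23, 2, 16, 10, 14, 1, 22, 8, 15, 20, 7, 5, 21],
  [0, 4, 16, 13, 3, 19, 6, 20, 1, 12, 7, 10, 8, 18, 5, 23, 2, 15, 9, 22, 21, 17, 14, 11],
  [0, 4, 16, 2, 1, 20, 8, 22, 9, 12, 23, 17, 13, 3, 10, 7, 6, 19, 18, 15, 11, 14, 5, 21],
  [0, 4, 16, 8, 18, 15, 2, 19, 3, 12, 23, 5, 6, 9, 14, 7, 13, 22, 1, 20, 11, 10, 17, 21],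
  [0, 4, 16, 6, 9, 22, 13, 15, 18, 12, 7, 14, 2, 1, 17, 23, 8, 20, 3, 19, 21, 5, 10, 11],
  [0, 4, 16, 3, 6, 10, 9, 5, 2, 12, 21, 22, 1, 8, 15, 11, 18, 17, 13, 14, 7, 20, 19, 23],
  [0, 4, 16, 18, 1, 22, 3, 15, 6, 2, 20, 14, 12, 9, 5, 19, 8, 7, 13, 23, 21, 17, 11, 10],
  [0, 4, 3, 1, 2, 23, 13, 10, 6, 9, 7, 15, 12, 18, 19, 5, 16, 20, 8, 21, 17, 22, 14, 11],
  [0, 4, 3, 16, 9, 15, 6, 22, 18, 1, 19, 5, 12, 8, 10, 11, 2, 17, 13, 14, 20, 7, 21, 23],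
  [0, 4, 3, 6, 8, 22, 9, 11, 2, 18, 15, 10, 12, 16, 23, 19, 13, 14, 1, 17, 21, 5, 20, 7],
  [0, 4, 3, 13, 18, 10, 2, 5, 16, 6, 23, 19, 12, 1, 11, 7, 8, 21, 9, 20, 14, 15, 17, 22],
  [0, 4, 16, 8, 2, 14, 6, 17, 9, 18, 5, 19, 12, 13, 15, 10, 1, 21, 3, 11, 7, 20, 23, 22],
  [0, 4, 16, 3, 9, 15, 1, 19, 8, 6, 22, 5, 12, 18, 10, 20, 13, 23, 2, 7, 11, 14, 21, 17],
  [0, 4, 16, 9, 3, 20, 18, 22, 2, 13, 19, 17, 12, 1, 14, 15, 6, 23, 8, 7, 11, 10, 21, 5],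
  [0, 4, 16, 2, 8, 10, 13, 5, 3, 1, 17, 22, 12, 6, 20, 14, 18, 21, 9, 11, 7, 15, 23, 19],
  [0, 4, 16, 13, 6, 5, 8, 14, 18, 3, 10, 20, 12, 2, 19, 17, 9, 11, 1, 21, 23, 22, 7, 15],
  [0, 4, 16, 6, 13, 17, 2, 10, 1, 9, 14, 15, 12, 8, 22, 5, 3, 11, 18, 21, 23, 19, 7, 20],
  [0, 4, 16, 1, 18, 19, 9, 20, 13, 8, 15, 10, 12, 3, 17, 22, 2, 7, 6, 23, 21, 5, 11, 14],
  [0, 4, 16, 2, 6, 19, 3, 15, 1, 18, 7, 11, 9, 12, 21, 22, 13, 20, 8, 23, 5, 17, 14, 10],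
  [0, 4, 16, 3, 18, 17, 8, 14, 6, 13, 11, 7, 2, 12, 23, 5, 1, 10, 9, 21, 19, 22, 20, 15],
  [0, 4, 16, 9, 1, 5, 2, 10, 13, 6, 11, 7, 8, 12, 23, 17, 18, 14, 3, 21, 22, 19, 15, 20],
  [0, 4, 16, 6, 8, 20, 1, 19, 9, 3, 23, 21, 18, 12, 11, 15, 2, 22, 13, 7, 10, 14, 5, 17],
  [0, 4, 16, 8, 13, 22, 9, 20, 18, 1, 7, 11, 3, 12, 21, 19, 6, 15, 2, 23, 17, 5, 10, 14],
  [0, 4, 16, 1, 3, 14, 13, 5, 8, 2, 21, 23, 6, 12, 7, 10, 9, 17, 18, 11, 20, 15, 22, 19],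
  [0, 4, 3, 1, 18, 11, 6, 22, 9, 16, 17, 21, 8, 12, 20, 15, 13, 19, 2, 14, 10, 7, 5, 23],
  [0, 4, 3, 16, 8, 23, 18, 7, 1, 2, 20, 14, 13, 12, 17, 5, 6, 10, 9, 21, 22, 19, 11, 15],
  [0, 4, 3, 6, 16, 7, 2, 5, 18, 13, 21, 17, 1, 12, 14, 10, 9, 23, 8, 20, 11, 15, 19, 22],
  [0, 4, 3, 13, 1, 22, 16, 15, 6, 8, 14, 20, 9, 12, 21, 19, 2, 11, 18, 17, 5, 23, 7, 10],
  [0, 4, 16, 13, 2, 15, 18, 22, 3, 9, 23, 21, 1, 12, 11, 20, 8, 19, 6, 7, 14, 10, 17, 5],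
  [0, 4, 16, 18, 9, 10, 6, 17, 2, 8, 21, 23, 13, 12, 7, 14, 3, 5, 1, 11, 15, 20, 19, 22],
  [0, 4, 16, 8, 1, 21, 13, 11, 2, 3, 10, 7, 9, 18, 22, 17, 12, 14, 6, 5, 23, 19, 20, 15],
  [0, 4, 16, 18, 8, 7, 9, 23, 1, 13, 19, 21, 6, 2, 10, 15, 12, 22, 3, 20, 11, 14, 17, 5],
  [0, 4, 16, 3, 13, 23, 18, 7, 9, 2, 20, 11, 8, 6, 17, 19, 12, 15, 1, 22, 21, 5, 14, 10],
  [0, 4, 16, 9, 6, 23, 1, 7, 3, 8, 15, 11, 2, 13, 5, 22, 12, 20, 18, 19, 21, 17, 10, 14],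
  [0, 4, 16, 1, 2, 7, 3, 23, 18, 6, 22, 21, 13, 8, 14, 20, 12, 19, 9, 15, 11, 10, 5, 17],
  [0, 4, 16, 6, 3, 11, 8, 21, 13, 18, 5, 23, 1, 9, 20, 10, 12, 17, 2, 14, 7, 15, 19, 22],
  [0, 4, 3, 13, 8, 21, 1, 20, 18, 9, 7, 14, 16, 6, 22, 5, 12, 10, 2, 23, 17, 19, 15, 11],
  [0, 4, 3, 16, 2, 17, 8, 14, 9, 13, 11, 20, 18, 1, 23, 22, 12, 15, 6, 19, 21, 5, 7, 10],
  [0, 4, 3, 6, 13, 14, 16, 17, 8, 1, 19, 21, 2, 18, 7, 11, 12, 22, 9, 15, 20, 10, 5, 23],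
  [0, 4, 3, 1, 16, 20, 18, 21, 2, 8, 5, 17, 6, 9, 11, 10, 12, 23, 13, 7, 14, 15, 22, 19],
  [0, 4, 16, 13, 9, 11, 2, 21, 6, 1, 17, 23, 18, 3, 15, 14, 12, 5, 8, 10, 7, 20, 22, 19],
  [0, 4, 16, 2, 18, 21, 6, 11, 8, 9, 14, 7, 3, 1, 19, 5, 12, 10, 13, 17, 23, 22, 15, 20],
  [0, 4, 16, 8, 3, 22, 1, 7, 6, 9, 20, 10, 13, 2, 21, 23, 18, 15, 12, 19, 5, 17, 11, 14],
  [0, 4, 16, 3, 2, 17, 13, 11, 1, 8, 14, 20, 18, 9, 23, 21, 6, 10, 12, 5, 22, 19, 7, 15],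
  [0, 4, 16, 18, 13, 10, 8, 21, 3, 6, 17, 19, 9, 1, 7, 11, 2, 5, 12, 14, 20, 15, 23, 22],
  [0, 4, 16, 6, 18, 20, 3, 23, 2, 1, 19, 5, 8, 13, 11, 7, 9, 22, 12, 15, 14, 10, 21, 17],
  [0, 4, 3, 13, 9, 22, 8, 14, 2, 16, 15, 7, 1, 18, 21, 17, 6, 11, 12, 19, 23, 5, 20, 10],
  [0, 4, 3, 6, 1, 7, 13, 21, 9, 2, 5, 19, 16, 8, 14, 20, 18, 23, 12, 10, 15, 11, 17, 22],
  [0, 4, 3, 16, 13, 23, 2, 20, 6, 18, 7, 11, 8, 9, 17, 21, 1, 10, 12, 5, 19, 22, 14, 15],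
  [0, 4, 3, 1, 8, 11, 16, 17, 13, 6, 22, 5, 18, 2, 20, 14, 9, 19, 12, 15, 7, 10, 21, 23],
  [0, 4, 16, 9, 8, 5, 6, 11, 18, 2, 10, 15, 1, 3, 23, 21, 13, 14, 12, 17, 19, 22, 7, 20],
  [0, 4, 16, 2, 9, 19, 18, 7, 13, 3, 15, 14, 6, 8, 21, 23, 1, 20, 12, 22, 17, 5, 11, 10],
  [0, 4, 16, 1, 6, 14, 2, 21, 9, 13, 5, 22, 3, 18, 7, 11, 8, 17, 12, 10, 15, 20, 23, 19],
  [0, 4, 16, 13, 1, 15, 9, 23, 8, 18, 22, 17, 2, 6, 11, 7, 3, 19, 12, 20, 10, 14, 21, 5]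
]

theorem conj165_mem : conj165.all (fun c => m11Tabs.contains c) = true := by decide +kernel

theorem conj165_ok : m11Tabs.all (fun l => !(compT l l == idT) || l == idT ||
    conj165.any (fun c => compT c (compT l (invT c)) == invT0)) = true := by decide +kernel

theorem invT0_mem : m11Tabs.contains invT0 = true := by decide +kernel


/-- The centraliser of `y` inside `H`, as a subgroup of the symmetric group. -/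
def centG (H : Subgroup (Equiv.Perm GolayPt)) (y : Equiv.Perm GolayPt) :
    Subgroup (Equiv.Perm GolayPt) := H ⊓ Subgroup.centralizer {y}

theorem mem_centG {H : Subgroup (Equiv.Perm GolayPt)} {y g : Equiv.Perm GolayPt} :
    g ∈ centG H y ↔ g ∈ H ∧ g * y = y * g := by
  rw [centG, Subgroup.mem_inf, Subgroup.mem_centralizer_singleton_iff]

theorem card_GL23 : Nat.card (GL (Fin 2) (ZMod 3)) = 48 := by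
  rw [Matrix.card_GL_field, ZMod.card, Fin.prod_univ_two]
  rfl

theorem toMat_injective : Function.Injective toMat := by
  intro x y h
  rw [← ofMat_toMat x, ← ofMat_toMat y, h]

/-- The centraliser of the standard involution is `GL(2, 3)`. -/
theorem cent_std (y0 : Equiv.Perm GolayPt) (ht0 : IsTable invT0 y0) :
    Nonempty (centG (fixG M12 [0]) y0 ≃* GL (Fin 2) (ZMod 3)) := by
  have h1 : ∀ g ∈ centG (fixG M12 [0]) y0, ∃ l ∈ c48Tabs, IsTable l g := by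
    intro g hg
    rw [mem_centG] at hg
    obtain ⟨l, hl, hlt⟩ := m11_sift g hg.1
    refine ⟨l, ?_, hlt⟩
    rw [← c48Tabs_eq, List.mem_filter]
    refine ⟨hl, ?_⟩
    have e1 := (hlt.mul ht0).eq_tableOf
    have e2 := (ht0.mul hlt).eq_tableOf
    rw [hg.2] at e1
    rw [e1, e2]
    simp
  have h2 : ∀ l ∈ c48Tabs, ∃ g ∈ centG (fixG M12 [0]) y0, IsTable l g := by
    intro l hl
    rw [← c48Tabs_eq, List.mem_filter] at hl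
    obtain ⟨g, hg, hlt⟩ := tabled_m11Tabs l hl.1
    refine ⟨g, ?_, hlt⟩
    rw [mem_centG]
    refine ⟨hg, ?_⟩
    have e : compT l invT0 = compT invT0 l := by simpa using hl.2
    have e1 := hlt.mul ht0
    rw [e] at e1
    exact e1.inj (ht0.mul hlt)
  have := nonempty_mulEquiv_units_of_table_values (M := Matrix (Fin 2) (Fin 2) (ZMod 3))
    (centG (fixG M12 [0]) y0) c48Tabs c48_nodup h1 h2 (fun l => toMat (valQ l))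
    (by rw [c48_one, toMat_qone])
    (by
      intro l hl l' hl'
      have h := c48_mul
      rw [List.all_eq_true] at h
      have h3 := h l hl
      rw [List.all_eq_true] at h3
      have h4 := of_decide_eq_true (h3 l' hl')
      show toMat (valQ (compT l l')) = toMat (valQ l) * toMat (valQ l')
      rw [h4, toMat_qmul])
    (by
      intro l hl l' hl' h
      have h3 : valQ l = valQ l' := toMat_injective h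
      exact List.inj_on_of_nodup_map c48_inj hl hl' h3)
    (by
      show Nat.card (GL (Fin 2) (ZMod 3)) = c48Tabs.length
      rw [card_GL23]
      decide +kernel)
  exact this

/-- Every involution of the stabiliser of the standard dodecad and the point `0` is conjugate to
the standard one. -/
theorem invol_conj {y : Equiv.Perm GolayPt} (hy : y ∈ fixG M12 [0]) (hy2 : y * y = 1)
    (hy1 : y ≠ 1) :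
    ∃ c ∈ fixG M12 [0], IsTable invT0 (c * y * c⁻¹) := by
  obtain ⟨l, hl, hlt⟩ := m11_sift y hy
  have h := conj165_ok
  rw [List.all_eq_true] at h
  have h3 := h l hl
  rw [Bool.or_eq_true, Bool.or_eq_true] at h3
  have e1 : compT l l = idT := by
    have := hlt.mul hlt
    rw [hy2] at this
    rw [this.eq_tableOf, ← isTable_one.eq_tableOf]
  have e2 : l ≠ idT := by
    intro e
    rw [e] at hlt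
    exact hy1 (hlt.inj isTable_one)
  rcases h3 with (h3 | h3) | h3
  · rw [e1] at h3
    simp at h3
  · exact absurd (by simpa using h3) e2
  · rw [List.any_eq_true] at h3
    obtain ⟨c, hc, hceq⟩ := h3
    have hmem := conj165_mem
    rw [List.all_eq_true] at hmem
    have hc' : c ∈ m11Tabs := by simpa using hmem c hc
    obtain ⟨g, hg, hgt⟩ := tabled_m11Tabs c hc'
    refine ⟨g, hg, ?_⟩
    have e3 : compT c (compT l (invT c)) = invT0 := by simpa using hceq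
    have e4 := hgt.mul (hlt.mul hgt.inv)
    rw [e3, ← mul_assoc] at e4
    exact e4

/-- Conjugation between centralisers. -/
def centConjEquiv (H : Subgroup (Equiv.Perm GolayPt)) {y c : Equiv.Perm GolayPt} (hy : y ∈ H)
    (hc : c ∈ H) :
    Subgroup.centralizer ({⟨y, hy⟩} : Set H) ≃* centG H (c * y * c⁻¹) where
  toFun g := ⟨c * g.1.1 * c⁻¹, by
    rw [mem_centG]
    refine ⟨H.mul_mem (H.mul_mem hc g.1.2) (H.inv_mem hc), ?_⟩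
    have h := Subgroup.mem_centralizer_singleton_iff.mp g.2
    have h' : g.1.1 * y = y * g.1.1 := congrArg Subtype.val h
    calc c * g.1.1 * c⁻¹ * (c * y * c⁻¹) = c * (g.1.1 * y) * c⁻¹ := by group
      _ = c * (y * g.1.1) * c⁻¹ := by rw [h']
      _ = c * y * c⁻¹ * (c * g.1.1 * c⁻¹) := by group⟩
  invFun k := ⟨⟨c⁻¹ * k.1 * c, H.mul_mem (H.mul_mem (H.inv_mem hc) (mem_centG.mp k.2).1) hc⟩, by
    rw [Subgroup.mem_centralizer_singleton_iff]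
    apply Subtype.ext
    show c⁻¹ * k.1 * c * y = y * (c⁻¹ * k.1 * c)
    have h := (mem_centG.mp k.2).2
    calc c⁻¹ * k.1 * c * y = c⁻¹ * (k.1 * (c * y * c⁻¹)) * c := by group
      _ = c⁻¹ * (c * y * c⁻¹ * k.1) * c := by rw [h]
      _ = y * (c⁻¹ * k.1 * c) := by group⟩
  left_inv g := by
    apply Subtype.ext
    apply Subtype.ext
    show c⁻¹ * (c * g.1.1 * c⁻¹) * c = g.1.1
    group
  right_inv k := by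
    apply Subtype.ext
    show c * (c⁻¹ * k.1 * c) * c⁻¹ = k.1
    group
  map_mul' g g' := by
    apply Subtype.ext
    show c * (g.1.1 * g'.1.1) * c⁻¹ = c * g.1.1 * c⁻¹ * (c * g'.1.1 * c⁻¹)
    group

/-- Centralisers correspond under an isomorphism. -/
def centralizerCongr {G H : Type*} [Group G] [Group H] (e : G ≃* H) (x : G) :
    Subgroup.centralizer ({x} : Set G) ≃* Subgroup.centralizer ({e x} : Set H) where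
  toFun g := ⟨e g.1, by
    rw [Subgroup.mem_centralizer_singleton_iff, ← map_mul, ← map_mul,
      Subgroup.mem_centralizer_singleton_iff.mp g.2]⟩
  invFun k := ⟨e.symm k.1, by
    rw [Subgroup.mem_centralizer_singleton_iff]
    apply e.injective
    rw [map_mul, map_mul, e.apply_symm_apply, Subgroup.mem_centralizer_singleton_iff.mp k.2]⟩
  left_inv g := by
    apply Subtype.ext
    exact e.symm_apply_apply g.1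
  right_inv k := by
    apply Subtype.ext
    exact e.apply_symm_apply k.1
  map_mul' g g' := by
    apply Subtype.ext
    exact map_mul e g.1 g'.1

/-- In the stabiliser of the standard dodecad and the point `0`, the centraliser of every
involution is `GL(2, 3)`. -/
theorem cent_invol_std (y : fixG M12 [0]) (hy : orderOf y = 2) :
    Nonempty (Subgroup.centralizer ({y} : Set (fixG M12 [0])) ≃* GL (Fin 2) (ZMod 3)) := by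
  have hy2 : y.1 * y.1 = 1 := by
    have := pow_orderOf_eq_one y
    rw [hy, pow_two] at this
    exact congrArg Subtype.val this
  have hy1 : y.1 ≠ 1 := by
    intro h
    have : y = 1 := Subtype.ext h
    rw [this, orderOf_one] at hy
    exact absurd hy (by decide)
  obtain ⟨c, hc, hct⟩ := invol_conj y.2 hy2 hy1
  obtain ⟨e⟩ := cent_std (c * y.1 * c⁻¹) hct
  exact ⟨(centConjEquiv (fixG M12 [0]) y.2 hc).trans e⟩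

/-- In the stabiliser of a dodecad and one of its points, the centraliser of every involution is
`GL(2, 3)`. -/
theorem cent_invol {d : Finset GolayPt} (hd : d ∈ dodecads) {p : GolayPt} (hp : p ∈ d)
    (x : ↥(stabilizer M24 d ⊓ stabilizer M24 p)) (hx : orderOf x = 2) :
    Nonempty (↥(Subgroup.centralizer ({x} : Set ↥(stabilizer M24 d ⊓ stabilizer M24 p))) ≃*
      GL (Fin 2) (ZMod 3)) := by
  obtain ⟨e⟩ := m11StabEquiv hd hp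
  have hx' : orderOf (e x) = 2 := by rw [MulEquiv.orderOf_eq, hx]
  obtain ⟨e2⟩ := cent_invol_std (e x) hx'
  exact ⟨(centralizerCongr e x).trans e2⟩

end Cfsg.Agent.Helper7
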