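import Cfsg.Agent.Helper7.M11PSL11Data

/-!
# The stabiliser of a dodecad, a point on it and a point off it is `PSL(2, 11)` (checks of the data)
-/

set_option autoImplicit false

namespace Cfsg.Agent.Helper7

open Cfsg

theorem c660Tabs_eq : m11Tabs.filter (fun l => Nat.beq (l.getD 5 0) 5) =
    perm660.map (fun i => c660Tabs.getD i []) := by decide +kernel

theorem l11Out_eq : runSLP l11Prog [idT, g11a.1, g11b.1] = c660Tabs := by decide +kernel

theorem c660_length : c660Tabs.length = 660 := by decide +kernel

theorem c660_head : (c660.take 3).map (fun e => (e.1, e.2.1)) = [(idT, (1, 0, 0, 1)), g11a, g11b] := by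
  decide +kernel

theorem c660_det : c660.all (fun e => q11det1 e.2.1 && q11red e.2.1) = true := by decide +kernel

theorem c660_mul : c660.all (fun e => mulChk1 e g11a e.2.2.1 && mulChk1 e g11b e.2.2.2) = true := by
  decide +kernel

theorem c660_ker : c660.all (fun e =>
    !(decide (e.2.1 = (1, 0, 0, 1)) || decide (e.2.1 = (10, 0, 0, 10))) || decide (e.1 = idT)) = true := by
  decide +kernel

end Cfsg.Agent.Helper7
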