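import Cfsg.Agent.Helper7.M12OutData
import Cfsg.Agent.Helper7.M12OutEnum0

/-!
# The outer automorphism group of `M12` has order 2 (enumeration, part 1)
-/

set_option autoImplicit false

namespace Cfsg.Agent.Helper7

theorem o12_main_2 : m11Tabs.all (fun l => o12Check (compT o12T2 l)) = true := by
  decide +kernel

theorem o12_main_3 : m11Tabs.all (fun l => o12Check (compT o12T3 l)) = true := by
  decide +kernel

end Cfsg.Agent.Helper7
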