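import Mathlib
import Cfsg.Prelude.Def_KGroupFacts

/-!
# Generic lemmas for computing an outer automorphism group of order two
-/

set_option autoImplicit false

namespace Cfsg.Agent.Helper7

open scoped Pointwise

/-- If `p` divides the order of `G` exactly once, any two elements of order `p` generate conjugate
subgroups. -/
theorem exists_conj_mem_zpowers {G : Type*} [Group G] [Finite G] (p : ℕ) [Fact p.Prime]
    (hp : (Nat.card G).factorization p = 1) (a y : G) (ha : orderOf a = p) (hy : orderOf y = p) :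
    ∃ g : G, g * y * g⁻¹ ∈ Subgroup.zpowers a := by
  let P : Sylow p G := Sylow.ofCard (Subgroup.zpowers y) (by rw [Nat.card_zpowers, hy, hp, pow_one])
  let P0 : Sylow p G := Sylow.ofCard (Subgroup.zpowers a) (by rw [Nat.card_zpowers, ha, hp, pow_one])
  obtain ⟨g, hg⟩ := MulAction.exists_smul_eq G P P0
  refine ⟨g, ?_⟩
  have h1 : (P0 : Subgroup G) = MulAut.conj g • (P : Subgroup G) := by
    rw [← hg]; rfl
  have h2 : (P0 : Subgroup G) = Subgroup.zpowers a := rfl
  have h3 : (P : Subgroup G) = Subgroup.zpowers y := rfl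
  rw [← h2, h1, h3, Subgroup.mem_pointwise_smul_iff_inv_smul_mem]
  have e : (MulAut.conj g)⁻¹ • (g * y * g⁻¹) = y := by
    rw [← map_inv, MulAut.smul_def, MulAut.conj_apply]
    group
  rw [e]
  exact Subgroup.mem_zpowers y

/-- If 5 divides the order of `G` exactly once and `a` of order 5 is conjugate to its square, then
all elements of order 5 are conjugate to `a`. -/
theorem exists_conj_eq_of_order_five {G : Type*} [Group G] [Finite G]
    (hp : (Nat.card G).factorization 5 = 1) (a n y : G) (ha : orderOf a = 5)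
    (hn : n * a * n⁻¹ = a ^ 2) (hy : orderOf y = 5) : ∃ c : G, c * y * c⁻¹ = a := by
  haveI : Fact (Nat.Prime 5) := ⟨by norm_num⟩
  obtain ⟨g, hg⟩ := exists_conj_mem_zpowers 5 hp a y ha hy
  rw [Subgroup.mem_zpowers_iff] at hg
  obtain ⟨k, hk⟩ := hg
  have ha5 : a ^ 5 = 1 := by rw [← ha]; exact pow_orderOf_eq_one a
  have hconj : ∀ j : ℕ, n * a ^ j * n⁻¹ = (a ^ 2) ^ j := by
    intro j
    rw [← hn, conj_pow]
  -- reduce the exponent modulo 5
  have hk' : a ^ (k % 5) = g * y * g⁻¹ := by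
    rw [← hk]
    have h := zpow_mod_orderOf a k
    rw [ha] at h
    exact_mod_cast h
  have hk0 : 0 ≤ k % 5 := Int.emod_nonneg _ (by norm_num)
  have hk5 : k % 5 < 5 := Int.emod_lt_of_pos _ (by norm_num)
  obtain ⟨m, hm⟩ := Int.eq_ofNat_of_zero_le hk0
  rw [hm, zpow_natCast] at hk'
  have hm5 : m < 5 := by omega
  have hy1 : y ≠ 1 := by
    intro e
    rw [e, orderOf_one] at hy
    omega
  -- the four cases
  interval_cases m
  · exfalso
    apply hy1
    rw [pow_zero] at hk'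
    have : g * y * g⁻¹ = 1 := hk'.symm
    calc y = g⁻¹ * (g * y * g⁻¹) * g := by group
      _ = 1 := by rw [this]; group
  · exact ⟨g, by rw [← hk', pow_one]⟩
  · -- a^2 = n a n⁻¹
    refine ⟨n⁻¹ * g, ?_⟩
    calc n⁻¹ * g * y * (n⁻¹ * g)⁻¹ = n⁻¹ * (g * y * g⁻¹) * n := by group
      _ = n⁻¹ * (n * a * n⁻¹) * n := by rw [← hk', hn]
      _ = a := by group
  · -- a^3 = n^3 a n^-3 since a^8 = a^3
    refine ⟨(n * n * n)⁻¹ * g, ?_⟩
    have e3 : (n * n * n) * a * (n * n * n)⁻¹ = a ^ 3 := by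
      have h1 : n * (a ^ 2) * n⁻¹ = a ^ 4 := by
        rw [hconj 2, ← pow_mul]
      have h2 : n * (a ^ 4) * n⁻¹ = a ^ 8 := by
        rw [hconj 4, ← pow_mul]
      have h8 : a ^ 8 = a ^ 3 := by
        rw [show 8 = 5 + 3 by norm_num, pow_add, ha5, one_mul]
      calc (n * n * n) * a * (n * n * n)⁻¹ = n * (n * (n * a * n⁻¹) * n⁻¹) * n⁻¹ := by group
        _ = a ^ 3 := by rw [hn, h1, h2, h8]
    generalize n * n * n = N at e3 ⊢
    calc N⁻¹ * g * y * (N⁻¹ * g)⁻¹ = N⁻¹ * (g * y * g⁻¹) * N := by group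
      _ = N⁻¹ * (N * a * N⁻¹) * N := by rw [← hk', e3]
      _ = a := by group
  · -- a^4 = n^2 a n^-2
    refine ⟨(n * n)⁻¹ * g, ?_⟩
    have e4 : (n * n) * a * (n * n)⁻¹ = a ^ 4 := by
      have h1 : n * (a ^ 2) * n⁻¹ = a ^ 4 := by
        rw [hconj 2, ← pow_mul]
      calc (n * n) * a * (n * n)⁻¹ = n * (n * a * n⁻¹) * n⁻¹ := by group
        _ = a ^ 4 := by rw [hn, h1]
    generalize n * n = N at e4 ⊢
    calc N⁻¹ * g * y * (N⁻¹ * g)⁻¹ = N⁻¹ * (g * y * g⁻¹) * N := by group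
      _ = N⁻¹ * (N * a * N⁻¹) * N := by rw [← hk', e4]
      _ = a := by group

/-- Two automorphisms agreeing on a generating pair are equal. -/
theorem mulAut_ext_of_gens {G : Type*} [Group G] (a b : G)
    (hgen : Subgroup.closure ({a, b} : Set G) = ⊤) (φ ψ : MulAut G) (ha : φ a = ψ a)
    (hb : φ b = ψ b) : φ = ψ := by
  have hEq : Set.EqOn ((φ : MulAut G) : G →* G) ((ψ : MulAut G) : G →* G)
      (Subgroup.closure ({a, b} : Set G)) := by
    apply MonoidHom.eqOn_closure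
    intro x hx
    rcases hx with hxa | hxb
    · rw [hxa]; exact ha
    · have hxb' : x = b := hxb
      rw [hxb']; exact hb
  ext x
  exact hEq (by rw [hgen]; trivial)

/-- If `G` is generated by `a` and `b`, every image of `a` under an automorphism is conjugate to `a`,
every image of `b` under an automorphism fixing `a` is conjugate to `b` or to `b₂` under the
centraliser of `a`, and there is a non-inner automorphism, then the outer automorphism group has
order 2. -/
theorem inn_index_two_of_gens {G : Type*} [Group G] (a b b₂ : G)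
    (hgen : Subgroup.closure ({a, b} : Set G) = ⊤)
    (h1 : ∀ φ : MulAut G, ∃ c : G, c * φ a * c⁻¹ = a)
    (h2 : ∀ φ : MulAut G, φ a = a →
      ∃ c : G, c * a * c⁻¹ = a ∧ (c * b * c⁻¹ = φ b ∨ c * b₂ * c⁻¹ = φ b))
    (τ : MulAut G) (hτ : τ ∉ Cfsg.Inn G) : (Cfsg.Inn G).index = 2 := by
  -- every automorphism is inner or, up to an inner one, maps `(a, b)` to `(a, b₂)`
  have key : ∀ φ : MulAut G, φ ∈ Cfsg.Inn G ∨
      ∃ ι ∈ Cfsg.Inn G, (ι * φ) a = a ∧ (ι * φ) b = b₂ := by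
    intro φ
    obtain ⟨c, hc⟩ := h1 φ
    have hφ1 : (MulAut.conj c * φ) a = a := by
      rw [MulAut.mul_apply, MulAut.conj_apply]
      exact hc
    obtain ⟨c', hc'a, hc'b⟩ := h2 (MulAut.conj c * φ) hφ1
    have hfa : (MulAut.conj c'⁻¹ * (MulAut.conj c * φ)) a = a := by
      rw [MulAut.mul_apply, hφ1, MulAut.conj_apply, inv_inv]
      calc c'⁻¹ * a * c' = c'⁻¹ * (c' * a * c'⁻¹) * c' := by rw [hc'a]
        _ = a := by group
    have hmem : MulAut.conj c'⁻¹ * MulAut.conj c ∈ Cfsg.Inn G :=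
      ⟨c'⁻¹ * c, by rw [map_mul]⟩
    rcases hc'b with hb | hb
    · left
      have hfb : (MulAut.conj c'⁻¹ * (MulAut.conj c * φ)) b = b := by
        rw [MulAut.mul_apply, ← hb, MulAut.conj_apply, inv_inv]
        group
      have h1' : MulAut.conj c'⁻¹ * (MulAut.conj c * φ) = 1 :=
        mulAut_ext_of_gens a b hgen _ _ hfa hfb
      have : φ = (MulAut.conj c'⁻¹ * MulAut.conj c)⁻¹ := by
        rw [← mul_assoc] at h1'
        exact eq_inv_of_mul_eq_one_right h1'
      rw [this]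
      exact (Cfsg.Inn G).inv_mem hmem
    · right
      refine ⟨MulAut.conj c'⁻¹ * MulAut.conj c, hmem, ?_, ?_⟩
      · rw [mul_assoc]; exact hfa
      · rw [mul_assoc, MulAut.mul_apply, ← hb, MulAut.conj_apply, inv_inv]
        group
  rw [Subgroup.index_eq_two_iff]
  refine ⟨τ, fun φ => ?_⟩
  by_cases hφ : φ ∈ Cfsg.Inn G
  · right
    refine ⟨hφ, fun h => hτ ?_⟩
    have := (Cfsg.Inn G).mul_mem ((Cfsg.Inn G).inv_mem hφ) h
    rwa [inv_mul_cancel_left] at this
  · left
    refine ⟨?_, hφ⟩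
    have hτ' : τ⁻¹ ∉ Cfsg.Inn G := fun h => hτ (by simpa using (Cfsg.Inn G).inv_mem h)
    rcases key φ with h | ⟨ι, hι, ha, hb⟩
    · exact absurd h hφ
    rcases key τ⁻¹ with h | ⟨ι', hι', ha', hb'⟩
    · exact absurd h hτ'
    have e : ι * φ = ι' * τ⁻¹ :=
      mulAut_ext_of_gens a b hgen _ _ (by rw [ha, ha']) (by rw [hb, hb'])
    have e2 : φ * τ = ι⁻¹ * ι' := by
      calc φ * τ = ι⁻¹ * (ι * φ) * τ := by group
        _ = ι⁻¹ * (ι' * τ⁻¹) * τ := by rw [e]
        _ = ι⁻¹ * ι' := by group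
    rw [e2]
    exact (Cfsg.Inn G).mul_mem ((Cfsg.Inn G).inv_mem hι) hι'

/-- Conjugation by an element normalising a subgroup, as an automorphism of the subgroup. -/
def conjAutOf {G : Type*} [Group G] (H : Subgroup G) (g : G) (hg : ∀ x ∈ H, g * x * g⁻¹ ∈ H)
    (hg' : ∀ x ∈ H, g⁻¹ * x * g ∈ H) : MulAut H where
  toFun x := ⟨g * x * g⁻¹, hg x x.2⟩
  invFun x := ⟨g⁻¹ * x * g, hg' x x.2⟩
  left_inv x := by
    apply Subtype.ext
    show g⁻¹ * (g * x * g⁻¹) * g = x
    group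
  right_inv x := by
    apply Subtype.ext
    show g * (g⁻¹ * x * g) * g⁻¹ = x
    group
  map_mul' x y := by
    apply Subtype.ext
    show g * (x * y) * g⁻¹ = (g * x * g⁻¹) * (g * y * g⁻¹)
    group

theorem conjAutOf_apply {G : Type*} [Group G] (H : Subgroup G) (g : G)
    (hg : ∀ x ∈ H, g * x * g⁻¹ ∈ H) (hg' : ∀ x ∈ H, g⁻¹ * x * g ∈ H) (x : H) :
    ((conjAutOf H g hg hg' x : H) : G) = g * x * g⁻¹ := rfl

end Cfsg.Agent.Helper7
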