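import Cfsg.Agent.Helper7.M12OutEnum0
import Cfsg.Agent.Helper7.M12OutEnum1
import Cfsg.Agent.Helper7.M12OutEnum2
import Cfsg.Agent.Helper7.M12OutEnum3
import Cfsg.Agent.Helper7.M12OutEnum4
import Cfsg.Agent.Helper7.M12OutEnum5
import Cfsg.Agent.Helper7.OutTwo
import Cfsg.Agent.Helper7.M11Out

/-!
# The outer automorphism group of `M12` has order 2
-/

set_option autoImplicit false

namespace Cfsg.Agent.Helper7

open Cfsg MulAction
open scoped Pointwise

/-- The relations used to pin down the second generator. -/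
def Rel12 {G : Type*} [Group G] (x y : G) : Prop :=
  y * y = 1 ∧ y ≠ 1 ∧ ((x * x) * y) ^ 6 = 1 ∧ (x * y) ^ 8 = 1 ∧
    (x * (y * ((x * x) * y))) ^ 8 = 1 ∧
    (x * (y * ((x * (x * x)) * (y * ((x * x) * y))))) ^ 6 = 1

theorem rel12_map_iff {G H : Type*} [Group G] [Group H] (f : G →* H) (hf : Function.Injective f)
    (x y : G) : Rel12 (f x) (f y) ↔ Rel12 x y := by
  unfold Rel12
  simp only [← map_mul, ← map_pow, map_eq_one_iff f hf, Ne]

theorem o12Cond_iff {l : List ℕ} {x y : Equiv.Perm GolayPt} (hx : IsTable o12A x)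
    (hy : IsTable l y) : o12Cond l = true ↔ Rel12 x y := by
  have t1 := hy.mul hy
  have t3 := ((hx.mul hx).mul hy).pow 6
  have t4 := (hx.mul hy).pow 8
  have t5 := (hx.mul (hy.mul ((hx.mul hx).mul hy))).pow 8
  have t6 := (hx.mul (hy.mul ((hx.mul (hx.mul hx)).mul (hy.mul ((hx.mul hx).mul hy))))).pow 6
  unfold o12Cond Rel12
  rw [Bool.and_eq_true, Bool.and_eq_true, Bool.and_eq_true, Bool.and_eq_true, Bool.and_eq_true,
    beq_iff_eq, beq_iff_eq, beq_iff_eq, beq_iff_eq, beq_iff_eq,
    Bool.not_eq_true', beq_eq_false_iff_ne, t1.eq_idT_iff, t3.eq_idT_iff, t4.eq_idT_iff,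
    t5.eq_idT_iff, t6.eq_idT_iff, Ne, hy.eq_idT_iff]
  tauto

theorem sporM12_eq : Spor.M12 = M12 := by
  ext g
  rw [mem_M12_iff, Spor.M12, Subgroup.mem_inf, squareDodecad_eq]
  constructor
  · rintro ⟨h1, h2⟩
    exact ⟨h1, mem_stabilizer_iff.mp h2⟩
  · rintro ⟨h1, h2⟩
    exact ⟨h1, mem_stabilizer_iff.mpr h2⟩

/-- Every element of `M12` is the product of a table of the first level and a table of the point
stabiliser. -/
theorem m12_sift : ∀ g ∈ M12, ∃ t ∈ o12Top, ∃ l ∈ m11Tabs, IsTable (compT t l) g := by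
  intro g hg
  have hg' : g ∈ fixG M12 [] := by rw [fixG_nil]; exact hg
  obtain ⟨l, hl, hlt⟩ := chain_sift tabled_m12Levels m12_chainOK m12_bounds g hg'
  have htop := o12Top_eq
  unfold m11Tabs
  cases hL : m12Levels with
  | nil =>
    rw [hL] at htop
    simp at htop
  | cons L Ls =>
    rw [hL] at htop hl
    simp only [List.map_cons, List.head?_cons, Option.some.injEq] at htop
    rw [prodTables, List.mem_flatMap] at hl
    obtain ⟨t, ht, hl⟩ := hl
    rw [List.mem_map] at hl
    obtain ⟨l', hl', rfl⟩ := hl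
    refine ⟨t, htop ▸ ht, l', ?_, hlt⟩
    simpa using hl'

theorem o12_all : ∀ t ∈ o12Top, m11Tabs.all (fun l => o12Check (compT t l)) = true := by
  intro t ht
  simp only [o12Top, List.mem_cons, List.not_mem_nil, or_false] at ht
  rcases ht with rfl | rfl | rfl | rfl | rfl | rfl | rfl | rfl | rfl | rfl | rfl | rfl
  · exact o12_main_0
  · exact o12_main_1
  · exact o12_main_2
  · exact o12_main_3
  · exact o12_main_4
  · exact o12_main_5
  · exact o12_main_6
  · exact o12_main_7
  · exact o12_main_8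
  · exact o12_main_9
  · exact o12_main_10
  · exact o12_main_11

theorem fact5_M12 : (Nat.card ↥M12).factorization 5 = 1 := by
  have hcard : Nat.card ↥M12 = 95040 := card_M12
  rw [hcard]
  have hp : Nat.Prime 5 := by norm_num
  apply le_antisymm
  · by_contra hlt
    have h2 : 2 ≤ (95040 : ℕ).factorization 5 := by omega
    have := (hp.pow_dvd_iff_le_factorization (by norm_num)).2 h2
    revert this
    decide
  · exact (hp.pow_dvd_iff_le_factorization (by norm_num)).1 (by decide)

/-- The projective inversion exchanges the standard dodecad and its complement. -/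
theorem projInv_flip (p : GolayPt) : d0.testBit (idx (projInv p)) = !d0.testBit (idx p) := by
  rw [isTable_projInv.2 p]
  have h := tB_flip
  rw [List.all_eq_true] at h
  have h1 := h (idx p) (List.mem_range.mpr (idx_lt p))
  exact beq_iff_eq.mp h1

theorem projInv_inv_flip (p : GolayPt) : d0.testBit (idx (projInv⁻¹ p)) = !d0.testBit (idx p) := by
  have h := projInv_flip (projInv⁻¹ p)
  have e : projInv (projInv⁻¹ p) = p := projInv.apply_symm_apply p
  rw [e] at h
  rw [h, Bool.not_not]

theorem projInv_conj_mem : ∀ x ∈ M12, projInv * x * projInv⁻¹ ∈ M12 := by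
  intro x hx
  rw [M12, mem_setStab] at hx ⊢
  refine ⟨M24.mul_mem (M24.mul_mem projInv_mem_M24 hx.1) (M24.inv_mem projInv_mem_M24), fun p => ?_⟩
  rw [Equiv.Perm.mul_apply, Equiv.Perm.mul_apply, projInv_flip, hx.2, projInv_inv_flip, Bool.not_not]

theorem projInv_conj_mem' : ∀ x ∈ M12, projInv⁻¹ * x * projInv ∈ M12 := by
  intro x hx
  rw [M12, mem_setStab] at hx ⊢
  refine ⟨M24.mul_mem (M24.mul_mem (M24.inv_mem projInv_mem_M24) hx.1) projInv_mem_M24, fun p => ?_⟩
  rw [Equiv.Perm.mul_apply, Equiv.Perm.mul_apply, projInv_inv_flip, hx.2, projInv_flip, Bool.not_not]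

/-- The automorphism of `M12` induced by the projective inversion. -/
noncomputable def tau12 : MulAut ↥M12 := conjAutOf M12 projInv projInv_conj_mem projInv_conj_mem'

theorem tau12_not_inner : tau12 ∉ Cfsg.Inn ↥M12 := by
  rintro ⟨m, hm⟩
  obtain ⟨gx, hgx, htx⟩ : Tabled M12 o12X := by
    rw [← o12X_eq]; exact tabled_prodAt m12Levels tabled_m12Levels _
  have h1 : MulAut.conj m ⟨gx, hgx⟩ = tau12 ⟨gx, hgx⟩ := by rw [hm]
  have h2 : (m : Equiv.Perm GolayPt) * gx * (m : Equiv.Perm GolayPt)⁻¹ = projInv * gx * projInv⁻¹ := by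
    have := congrArg Subtype.val h1
    rw [MulAut.conj_apply] at this
    exact this
  -- `z` centralises `gx`
  set z : Equiv.Perm GolayPt := (m : Equiv.Perm GolayPt)⁻¹ * projInv with hz
  have hcomm : gx * z = z * gx := by
    calc gx * z = (m : Equiv.Perm GolayPt)⁻¹ * ((m : Equiv.Perm GolayPt) * gx *
          (m : Equiv.Perm GolayPt)⁻¹) * projInv := by rw [hz]; group
      _ = (m : Equiv.Perm GolayPt)⁻¹ * (projInv * gx * projInv⁻¹) * projInv := by rw [h2]
      _ = z * gx := by rw [hz]; group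
  have hfix0 : gx (pt 0) = pt 0 := by
    rw [htx.apply, idx_pt (by norm_num), o12X_zero]
  have hfixq : gx (z (pt 0)) = z (pt 0) := by
    have := congrArg (fun f : Equiv.Perm GolayPt => f (pt 0)) hcomm
    simp only [Equiv.Perm.mul_apply] at this
    rw [this, hfix0]
  have hq : d0.testBit (idx (z (pt 0))) = false := by
    have hm' : (m : Equiv.Perm GolayPt)⁻¹ ∈ M12 := M12.inv_mem m.2
    have hm'' := (mem_setStab (H := M24) (S := d0)).mp hm'
    rw [hz, Equiv.Perm.mul_apply, hm''.2, projInv_flip, idx_pt (by norm_num)]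
    decide
  have hX := o12X_fix
  rw [List.all_eq_true] at hX
  have h3 := hX (idx (z (pt 0))) (List.mem_range.mpr (idx_lt _))
  rw [hq, Bool.false_or, Bool.not_eq_true', beq_eq_false_iff_ne] at h3
  apply h3
  rw [← htx.2, hfixq]

theorem o12Ca_tabled : ∀ c ∈ o12Ca, Tabled M12 c := by
  intro c hc
  rw [← o12Ca_eq, List.mem_map] at hc
  obtain ⟨i, _, rfl⟩ := hc
  exact tabled_prodAt m12Levels tabled_m12Levels _

/-- The outer automorphism group of the stabiliser of the standard dodecad has order 2. -/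
theorem inn_M12_index : (Cfsg.Inn ↥M12).index = 2 := by
  obtain ⟨ga, hga, hta⟩ : Tabled M12 o12A := by
    rw [← o12A_eq]; exact tabled_prodAt m12Levels tabled_m12Levels _
  obtain ⟨gb, hgb, htb⟩ : Tabled M12 o12B := by
    rw [← o12B_eq]; exact tabled_prodAt m12Levels tabled_m12Levels _
  obtain ⟨gn, hgn, htn⟩ : Tabled M12 o12N := by
    rw [← o12N_eq]; exact tabled_prodAt m12Levels tabled_m12Levels _
  obtain ⟨gb2, hgb2, htb2⟩ : Tabled M12 o12B2 := by
    rw [← o12B2_eq]; exact tabled_prodAt m12Levels tabled_m12Levels _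
  have hrel : Rel12 ga gb := (o12Cond_iff hta htb).mp o12B_cond
  have ha5 : ga ^ 5 = 1 := by
    have h := hta.pow 5
    rw [o12A_pow] at h
    exact h.inj isTable_one
  have ha1 : ga ≠ 1 := by
    intro e
    have := (hta.eq_idT_iff).mpr e
    have h2 := o12A_ne
    rw [this] at h2
    simp at h2
  have hna : gn * ga * gn⁻¹ = ga ^ 2 := by
    have h := htn.mul (hta.mul htn.inv)
    rw [o12N_conj] at h
    rw [pow_two, mul_assoc]
    exact h.inj (hta.mul hta)
  have hord : orderOf (⟨ga, hga⟩ : ↥M12) = 5 := by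
    haveI : Fact (Nat.Prime 5) := ⟨by norm_num⟩
    apply orderOf_eq_prime
    · apply Subtype.ext
      rw [Subgroup.coe_pow]
      exact ha5
    · intro e
      exact ha1 (congrArg Subtype.val e)
  apply inn_index_two_of_gens (⟨ga, hga⟩ : ↥M12) ⟨gb, hgb⟩ ⟨gb2, hgb2⟩ _ _ _ tau12 tau12_not_inner
  · -- generation
    set K : Subgroup (Equiv.Perm GolayPt) :=
      (Subgroup.closure ({⟨ga, hga⟩, ⟨gb, hgb⟩} : Set ↥M12)).map M12.subtype with hKdef
    have hKa : Tabled K o12A :=
      ⟨ga, ⟨⟨ga, hga⟩, Subgroup.subset_closure (by simp), rfl⟩, hta⟩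
    have hKb : Tabled K o12B :=
      ⟨gb, ⟨⟨gb, hgb⟩, Subgroup.subset_closure (by simp), rfl⟩, htb⟩
    have hK : ∀ l ∈ o12Out, Tabled K l := by
      rw [← o12Out_eq]
      apply tabled_runSLP
      intro l hl
      simp only [List.mem_cons, List.not_mem_nil, or_false] at hl
      rcases hl with rfl | rfl | rfl
      · exact tabled_idT _
      · exact hKa
      · exact hKb
    have hle : fixG M12 [] ≤ K := by
      apply chain_le (H := M12) (F := []) (Ls := m12Levels) tabled_m12Levels m12_chainOK m12_bounds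
      intro L hL l hl
      have h := o12_trans
      rw [List.all_eq_true] at h
      have h2 := h L hL
      rw [List.all_eq_true] at h2
      exact hK l (by simpa using h2 l hl)
    rw [fixG_nil] at hle
    rw [eq_top_iff]
    intro x _
    obtain ⟨y, hy, hyx⟩ := hle x.2
    have : y = x := Subtype.ext hyx
    rwa [← this]
  · -- images of the element of order 5
    intro φ
    apply exists_conj_eq_of_order_five fact5_M12 (⟨ga, hga⟩ : ↥M12) ⟨gn, hgn⟩ _ hord
    · apply Subtype.ext
      rw [Subgroup.coe_pow]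
      exact hna
    · rw [MulEquiv.orderOf_eq]
      exact hord
  · -- images of the second generator
    intro φ hφa
    obtain ⟨t, ht, l', hl', hlt⟩ := m12_sift (φ ⟨gb, hgb⟩).1 (φ ⟨gb, hgb⟩).2
    have hrel' : Rel12 ga (φ ⟨gb, hgb⟩).1 := by
      have h1 : Rel12 (⟨ga, hga⟩ : ↥M12) ⟨gb, hgb⟩ :=
        (rel12_map_iff M12.subtype M12.subtype_injective _ _).mp hrel
      have h2 : Rel12 (φ ⟨ga, hga⟩) (φ ⟨gb, hgb⟩) :=
        (rel12_map_iff (φ : ↥M12 ≃* ↥M12).toMonoidHom φ.injective _ _).mpr h1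
      rw [hφa] at h2
      exact (rel12_map_iff M12.subtype M12.subtype_injective _ _).mpr h2
    have hcond := (o12Cond_iff hta hlt).mpr hrel'
    have hm := o12_all t ht
    rw [List.all_eq_true] at hm
    have h3 := hm l' hl'
    rw [o12Check, hcond] at h3
    have h4 : compT t l' ∈ o12Conj := by simpa using h3
    rw [← o12Conj_eq, List.mem_append, List.mem_map, List.mem_map] at h4
    have hcentral : ∀ c ∈ o12Ca, ∀ gc : Equiv.Perm GolayPt, IsTable c gc → gc * ga * gc⁻¹ = ga := by
      intro c hc gc hgct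
      have hcm := o12Ca_comm
      rw [List.all_eq_true] at hcm
      have e : compT c o12A = compT o12A c := by simpa using hcm c hc
      have e1 := hgct.mul hta
      rw [e] at e1
      have hcomm : gc * ga = ga * gc := e1.inj (hta.mul hgct)
      rw [hcomm]
      group
    rcases h4 with ⟨c, hc, hcl⟩ | ⟨c, hc, hcl⟩
    · obtain ⟨gc, hgc, hgct⟩ := o12Ca_tabled c hc
      refine ⟨⟨gc, hgc⟩, Subtype.ext (hcentral c hc gc hgct), Or.inl (Subtype.ext ?_)⟩
      show gc * gb * gc⁻¹ = (φ ⟨gb, hgb⟩).1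
      have e1 := hgct.mul (htb.mul hgct.inv)
      rw [hcl] at e1
      rw [mul_assoc]
      exact e1.inj hlt
    · obtain ⟨gc, hgc, hgct⟩ := o12Ca_tabled c hc
      refine ⟨⟨gc, hgc⟩, Subtype.ext (hcentral c hc gc hgct), Or.inr (Subtype.ext ?_)⟩
      show gc * gb2 * gc⁻¹ = (φ ⟨gb, hgb⟩).1
      have e1 := hgct.mul (htb2.mul hgct.inv)
      rw [hcl] at e1
      rw [mul_assoc]
      exact e1.inj hlt

/-- The outer automorphism group of `M12` has order 2. -/
theorem card_out_M12 : Nat.card (Cfsg.Out ↥Spor.M12) = 2 := by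
  rw [sporM12_eq]
  show (Cfsg.Inn ↥M12).index = 2
  exact inn_M12_index

end Cfsg.Agent.Helper7
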