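import Cfsg.Agent.Helper7.M22OutData

/-!
# The outer automorphism group of `M22` has order 2 (enumeration, part 0)
-/

set_option autoImplicit false

namespace Cfsg.Agent.Helper7

/-- Products of a table of the first level with the tables of the second level. -/
def o22TT_0 : List (List ℕ) := [
  [0, 1, 2, 3, 4, 5, 6, 7, 8, 9, 10, 11, 12, 13, 14, 15, 16, 17, 18, 19, 20, 21, 22, 23],
  [0, 1, 2, 4, 23, 19, 3, 13, 17, 7, 22, 10, 16, 8, 5, 15, 11, 9, 6, 21, 14, 20, 12, 18],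
  [0, 1, 2, 5, 4, 21, 16, 18, 23, 11, 19, 20, 9, 12, 22, 14, 3, 8, 15, 17, 13, 6, 7, 10],
  [0, 1, 2, 6, 7, 5, 10, 23, 4, 16, 19, 17, 21, 22, 12, 8, 14, 13, 11, 20, 3, 9, 18, 15],
  [0, 1, 2, 7, 6, 3, 15, 23, 13, 22, 21, 14, 19, 16, 12, 8, 17, 4, 11, 9, 5, 20, 18, 10],
  [0, 1, 2, 8, 22, 6, 12, 10, 19, 11, 21, 18, 5, 13, 20, 15, 16, 14, 9, 3, 17, 7, 23, 4],
  [0, 1, 2, 9, 8, 3, 5, 13, 10, 19, 7, 18, 17, 14, 22, 23, 20, 11, 16, 15, 21, 12, 4, 6],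
  [0, 1, 2, 10, 23, 5, 19, 15, 7, 14, 20, 13, 9, 18, 21, 4, 12, 22, 17, 3, 6, 16, 11, 8],
  [0, 1, 2, 11, 4, 14, 5, 15, 9, 20, 21, 7, 17, 23, 19, 3, 22, 10, 8, 6, 18, 12, 16, 13],
  [0, 1, 2, 12, 23, 19, 5, 11, 3, 6, 8, 13, 18, 9, 17, 4, 10, 22, 21, 7, 14, 16, 15, 20],
  [0, 1, 2, 13, 23, 21, 5, 4, 14, 6, 16, 15, 22, 8, 3, 10, 11, 20, 7, 19, 17, 9, 12, 18],
  [0, 1, 2, 14, 3, 19, 12, 23, 4, 16, 5, 21, 17, 22, 10, 20, 6, 13, 15, 8, 7, 18, 9, 11],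
  [0, 1, 2, 15, 23, 3, 21, 10, 6, 17, 9, 4, 20, 18, 19, 13, 12, 16, 14, 5, 7, 22, 11, 8],
  [0, 1, 2, 16, 18, 21, 19, 10, 4, 3, 17, 8, 6, 7, 9, 23, 22, 12, 20, 13, 5, 11, 15, 14],
  [0, 1, 2, 17, 14, 21, 13, 23, 10, 9, 5, 7, 3, 20, 11, 18, 6, 15, 12, 16, 19, 22, 8, 4],
  [0, 1, 2, 18, 9, 14, 11, 4, 3, 12, 5, 8, 19, 10, 22, 13, 20, 7, 16, 21, 6, 17, 23, 15],
  [0, 1, 2, 19, 15, 5, 20, 8, 23, 12, 3, 22, 16, 11, 9, 7, 21, 18, 13, 6, 10, 14, 17, 4],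
  [0, 1, 2, 20, 8, 5, 3, 4, 15, 21, 6, 18, 14, 17, 16, 23, 9, 11, 22, 10, 19, 12, 13, 7],
  [0, 1, 2, 21, 10, 3, 9, 8, 23, 12, 5, 16, 22, 11, 20, 6, 19, 18, 4, 7, 15, 17, 14, 13],
  [0, 1, 2, 22, 18, 19, 21, 15, 13, 5, 14, 8, 7, 6, 20, 23, 16, 12, 9, 4, 3, 11, 10, 17],
  [0, 1, 2, 23, 17, 20, 16, 3, 6, 22, 14, 13, 5, 11, 10, 7, 21, 9, 12, 19, 18, 8, 4, 15]
]

theorem o22TT_0_eq : o22Snd.map (compT o22T0) = o22TT_0 := by decide +kernel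

theorem o22_c0_0 : l960Tabs.all (fun l => o22Check (compT [0, 1, 2, 3, 4, 5, 6, 7, 8, 9, 10, 11, 12, 13, 14, 15, 16, 17, 18, 19, 20, 21, 22, 23] l)) = true := by
  decide +kernel

theorem o22_c0_1 : l960Tabs.all (fun l => o22Check (compT [0, 1, 2, 4, 23, 19, 3, 13, 17, 7, 22, 10, 16, 8, 5, 15, 11, 9, 6, 21, 14, 20, 12, 18] l)) = true := by
  decide +kernel

theorem o22_c0_2 : l960Tabs.all (fun l => o22Check (compT [0, 1, 2, 5, 4, 21, 16, 18, 23, 11, 19, 20, 9, 12, 22, 14, 3, 8, 15, 17, 13, 6, 7, 10] l)) = true := by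
  decide +kernel

theorem o22_c0_3 : l960Tabs.all (fun l => o22Check (compT [0, 1, 2, 6, 7, 5, 10, 23, 4, 16, 19, 17, 21, 22, 12, 8, 14, 13, 11, 20, 3, 9, 18, 15] l)) = true := by
  decide +kernel

theorem o22_c0_4 : l960Tabs.all (fun l => o22Check (compT [0, 1, 2, 7, 6, 3, 15, 23, 13, 22, 21, 14, 19, 16, 12, 8, 17, 4, 11, 9, 5, 20, 18, 10] l)) = true := by
  decide +kernel

theorem o22_c0_5 : l960Tabs.all (fun l => o22Check (compT [0, 1, 2, 8, 22, 6, 12, 10, 19, 11, 21, 18, 5, 13, 20, 15, 16, 14, 9, 3, 17, 7, 23, 4] l)) = true := by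
  decide +kernel

theorem o22_c0_6 : l960Tabs.all (fun l => o22Check (compT [0, 1, 2, 9, 8, 3, 5, 13, 10, 19, 7, 18, 17, 14, 22, 23, 20, 11, 16, 15, 21, 12, 4, 6] l)) = true := by
  decide +kernel

theorem o22_c0_7 : l960Tabs.all (fun l => o22Check (compT [0, 1, 2, 10, 23, 5, 19, 15, 7, 14, 20, 13, 9, 18, 21, 4, 12, 22, 17, 3, 6, 16, 11, 8] l)) = true := by
  decide +kernel

theorem o22_c0_8 : l960Tabs.all (fun l => o22Check (compT [0, 1, 2, 11, 4, 14, 5, 15, 9, 20, 21, 7, 17, 23, 19, 3, 22, 10, 8, 6, 18, 12, 16, 13] l)) = true := by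
  decide +kernel

theorem o22_c0_9 : l960Tabs.all (fun l => o22Check (compT [0, 1, 2, 12, 23, 19, 5, 11, 3, 6, 8, 13, 18, 9, 17, 4, 10, 22, 21, 7, 14, 16, 15, 20] l)) = true := by
  decide +kernel

theorem o22_c0_10 : l960Tabs.all (fun l => o22Check (compT [0, 1, 2, 13, 23, 21, 5, 4, 14, 6, 16, 15, 22, 8, 3, 10, 11, 20, 7, 19, 17, 9, 12, 18] l)) = true := by
  decide +kernel

theorem o22_c0_11 : l960Tabs.all (fun l => o22Check (compT [0, 1, 2, 14, 3, 19, 12, 23, 4, 16, 5, 21, 17, 22, 10, 20, 6, 13, 15, 8, 7, 18, 9, 11] l)) = true := by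
  decide +kernel

theorem o22_c0_12 : l960Tabs.all (fun l => o22Check (compT [0, 1, 2, 15, 23, 3, 21, 10, 6, 17, 9, 4, 20, 18, 19, 13, 12, 16, 14, 5, 7, 22, 11, 8] l)) = true := by
  decide +kernel

theorem o22_c0_13 : l960Tabs.all (fun l => o22Check (compT [0, 1, 2, 16, 18, 21, 19, 10, 4, 3, 17, 8, 6, 7, 9, 23, 22, 12, 20, 13, 5, 11, 15, 14] l)) = true := by
  decide +kernel

theorem o22_c0_14 : l960Tabs.all (fun l => o22Check (compT [0, 1, 2, 17, 14, 21, 13, 23, 10, 9, 5, 7, 3, 20, 11, 18, 6, 15, 12, 16, 19, 22, 8, 4] l)) = true := by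
  decide +kernel

theorem o22_c0_15 : l960Tabs.all (fun l => o22Check (compT [0, 1, 2, 18, 9, 14, 11, 4, 3, 12, 5, 8, 19, 10, 22, 13, 20, 7, 16, 21, 6, 17, 23, 15] l)) = true := by
  decide +kernel

theorem o22_c0_16 : l960Tabs.all (fun l => o22Check (compT [0, 1, 2, 19, 15, 5, 20, 8, 23, 12, 3, 22, 16, 11, 9, 7, 21, 18, 13, 6, 10, 14, 17, 4] l)) = true := by
  decide +kernel

theorem o22_c0_17 : l960Tabs.all (fun l => o22Check (compT [0, 1, 2, 20, 8, 5, 3, 4, 15, 21, 6, 18, 14, 17, 16, 23, 9, 11, 22, 10, 19, 12, 13, 7] l)) = true := by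
  decide +kernel

theorem o22_c0_18 : l960Tabs.all (fun l => o22Check (compT [0, 1, 2, 21, 10, 3, 9, 8, 23, 12, 5, 16, 22, 11, 20, 6, 19, 18, 4, 7, 15, 17, 14, 13] l)) = true := by
  decide +kernel

theorem o22_c0_19 : l960Tabs.all (fun l => o22Check (compT [0, 1, 2, 22, 18, 19, 21, 15, 13, 5, 14, 8, 7, 6, 20, 23, 16, 12, 9, 4, 3, 11, 10, 17] l)) = true := by
  decide +kernel

theorem o22_c0_20 : l960Tabs.all (fun l => o22Check (compT [0, 1, 2, 23, 17, 20, 16, 3, 6, 22, 14, 13, 5, 11, 10, 7, 21, 9, 12, 19, 18, 8, 4, 15] l)) = true := by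
  decide +kernel

theorem o22_chunk_0 : ∀ tt ∈ o22TT_0, l960Tabs.all (fun l => o22Check (compT tt l)) = true := by
  intro tt ht
  simp only [o22TT_0, List.mem_cons, List.not_mem_nil, or_false] at ht
  rcases ht with rfl | rfl | rfl | rfl | rfl | rfl | rfl | rfl | rfl | rfl | rfl | rfl | rfl | rfl | rfl | rfl | rfl | rfl | rfl | rfl | rfl
  · exact o22_c0_0
  · exact o22_c0_1
  · exact o22_c0_2
  · exact o22_c0_3
  · exact o22_c0_4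
  · exact o22_c0_5
  · exact o22_c0_6
  · exact o22_c0_7
  · exact o22_c0_8
  · exact o22_c0_9
  · exact o22_c0_10
  · exact o22_c0_11
  · exact o22_c0_12
  · exact o22_c0_13
  · exact o22_c0_14
  · exact o22_c0_15
  · exact o22_c0_16
  · exact o22_c0_17
  · exact o22_c0_18
  · exact o22_c0_19
  · exact o22_c0_20

end Cfsg.Agent.Helper7
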