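import Cfsg.Agent.Helper7.M22OutData
import Cfsg.Agent.Helper7.M22OutEnum0

/-!
# The outer automorphism group of `M22` has order 2 (enumeration, part 1)
-/

set_option autoImplicit false

namespace Cfsg.Agent.Helper7

/-- Products of a table of the first level with the tables of the second level. -/
def o22TT_1 : List (List ℕ) := [
  [0, 1, 3, 15, 22, 10, 6, 21, 2, 20, 12, 17, 23, 13, 11, 8, 19, 18, 14, 16, 9, 4, 7, 5],
  [0, 1, 3, 22, 5, 16, 15, 13, 18, 21, 7, 12, 19, 2, 10, 8, 17, 20, 6, 4, 11, 9, 23, 14],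
  [0, 1, 3, 10, 22, 4, 19, 14, 5, 17, 16, 9, 20, 23, 7, 11, 15, 2, 8, 18, 13, 6, 21, 12],
  [0, 1, 3, 6, 21, 10, 12, 5, 22, 19, 16, 18, 4, 7, 23, 2, 11, 13, 17, 9, 15, 20, 14, 8],
  [0, 1, 3, 21, 6, 15, 8, 5, 13, 7, 4, 11, 16, 19, 23, 2, 18, 22, 17, 20, 10, 9, 14, 12],
  [0, 1, 3, 2, 7, 6, 23, 12, 16, 17, 4, 14, 10, 13, 9, 8, 19, 11, 20, 15, 18, 21, 5, 22],
  [0, 1, 3, 20, 2, 15, 10, 13, 12, 16, 21, 14, 18, 11, 7, 5, 9, 17, 19, 8, 4, 23, 22, 6],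
  [0, 1, 3, 12, 5, 10, 16, 8, 21, 11, 9, 13, 20, 14, 4, 22, 23, 7, 18, 15, 6, 19, 17, 2],
  [0, 1, 3, 17, 22, 11, 10, 8, 20, 9, 4, 21, 18, 5, 16, 15, 7, 12, 2, 6, 14, 23, 19, 13],
  [0, 1, 3, 23, 5, 16, 10, 17, 15, 6, 2, 13, 14, 20, 18, 22, 12, 7, 4, 21, 11, 19, 8, 9],
  [0, 1, 3, 13, 5, 4, 10, 22, 11, 6, 19, 8, 7, 2, 15, 12, 17, 9, 21, 16, 18, 20, 23, 14],
  [0, 1, 3, 11, 15, 16, 23, 5, 22, 19, 10, 4, 18, 7, 12, 9, 6, 13, 8, 2, 21, 14, 20, 17],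
  [0, 1, 3, 8, 5, 15, 4, 12, 6, 18, 20, 22, 9, 14, 16, 13, 23, 19, 11, 10, 21, 7, 17, 2],
  [0, 1, 3, 19, 14, 4, 16, 12, 22, 15, 18, 2, 6, 21, 20, 5, 7, 23, 9, 13, 10, 17, 8, 11],
  [0, 1, 3, 18, 11, 4, 13, 5, 12, 20, 10, 21, 15, 9, 17, 14, 6, 8, 23, 19, 16, 7, 2, 22],
  [0, 1, 3, 14, 20, 11, 17, 22, 15, 23, 10, 2, 16, 12, 7, 13, 9, 21, 19, 4, 6, 18, 5, 8],
  [0, 1, 3, 16, 8, 10, 9, 2, 5, 23, 15, 7, 19, 17, 20, 21, 4, 14, 13, 6, 12, 11, 18, 22],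
  [0, 1, 3, 9, 2, 10, 15, 22, 8, 4, 6, 14, 11, 18, 19, 5, 20, 17, 7, 12, 16, 23, 13, 21],
  [0, 1, 3, 4, 12, 15, 20, 2, 5, 23, 10, 19, 7, 17, 9, 6, 16, 14, 22, 21, 8, 18, 11, 13],
  [0, 1, 3, 7, 14, 16, 4, 8, 13, 10, 11, 2, 21, 6, 9, 5, 19, 23, 20, 22, 15, 17, 12, 18],
  [0, 1, 3, 5, 18, 9, 19, 15, 6, 7, 11, 13, 10, 17, 12, 21, 4, 20, 23, 16, 14, 2, 22, 8]
]

theorem o22TT_1_eq : o22Snd.map (compT o22T1) = o22TT_1 := by decide +kernel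

theorem o22_c1_0 : l960Tabs.all (fun l => o22Check (compT [0, 1, 3, 15, 22, 10, 6, 21, 2, 20, 12, 17, 23, 13, 11, 8, 19, 18, 14, 16, 9, 4, 7, 5] l)) = true := by
  decide +kernel

theorem o22_c1_1 : l960Tabs.all (fun l => o22Check (compT [0, 1, 3, 22, 5, 16, 15, 13, 18, 21, 7, 12, 19, 2, 10, 8, 17, 20, 6, 4, 11, 9, 23, 14] l)) = true := by
  decide +kernel

theorem o22_c1_2 : l960Tabs.all (fun l => o22Check (compT [0, 1, 3, 10, 22, 4, 19, 14, 5, 17, 16, 9, 20, 23, 7, 11, 15, 2, 8, 18, 13, 6, 21, 12] l)) = true := by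
  decide +kernel

theorem o22_c1_3 : l960Tabs.all (fun l => o22Check (compT [0, 1, 3, 6, 21, 10, 12, 5, 22, 19, 16, 18, 4, 7, 23, 2, 11, 13, 17, 9, 15, 20, 14, 8] l)) = true := by
  decide +kernel

theorem o22_c1_4 : l960Tabs.all (fun l => o22Check (compT [0, 1, 3, 21, 6, 15, 8, 5, 13, 7, 4, 11, 16, 19, 23, 2, 18, 22, 17, 20, 10, 9, 14, 12] l)) = true := by
  decide +kernel

theorem o22_c1_5 : l960Tabs.all (fun l => o22Check (compT [0, 1, 3, 2, 7, 6, 23, 12, 16, 17, 4, 14, 10, 13, 9, 8, 19, 11, 20, 15, 18, 21, 5, 22] l)) = true := by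
  decide +kernel

theorem o22_c1_6 : l960Tabs.all (fun l => o22Check (compT [0, 1, 3, 20, 2, 15, 10, 13, 12, 16, 21, 14, 18, 11, 7, 5, 9, 17, 19, 8, 4, 23, 22, 6] l)) = true := by
  decide +kernel

theorem o22_c1_7 : l960Tabs.all (fun l => o22Check (compT [0, 1, 3, 12, 5, 10, 16, 8, 21, 11, 9, 13, 20, 14, 4, 22, 23, 7, 18, 15, 6, 19, 17, 2] l)) = true := by
  decide +kernel

theorem o22_c1_8 : l960Tabs.all (fun l => o22Check (compT [0, 1, 3, 17, 22, 11, 10, 8, 20, 9, 4, 21, 18, 5, 16, 15, 7, 12, 2, 6, 14, 23, 19, 13] l)) = true := by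
  decide +kernel

theorem o22_c1_9 : l960Tabs.all (fun l => o22Check (compT [0, 1, 3, 23, 5, 16, 10, 17, 15, 6, 2, 13, 14, 20, 18, 22, 12, 7, 4, 21, 11, 19, 8, 9] l)) = true := by
  decide +kernel

theorem o22_c1_10 : l960Tabs.all (fun l => o22Check (compT [0, 1, 3, 13, 5, 4, 10, 22, 11, 6, 19, 8, 7, 2, 15, 12, 17, 9, 21, 16, 18, 20, 23, 14] l)) = true := by
  decide +kernel

theorem o22_c1_11 : l960Tabs.all (fun l => o22Check (compT [0, 1, 3, 11, 15, 16, 23, 5, 22, 19, 10, 4, 18, 7, 12, 9, 6, 13, 8, 2, 21, 14, 20, 17] l)) = true := by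
  decide +kernel

theorem o22_c1_12 : l960Tabs.all (fun l => o22Check (compT [0, 1, 3, 8, 5, 15, 4, 12, 6, 18, 20, 22, 9, 14, 16, 13, 23, 19, 11, 10, 21, 7, 17, 2] l)) = true := by
  decide +kernel

theorem o22_c1_13 : l960Tabs.all (fun l => o22Check (compT [0, 1, 3, 19, 14, 4, 16, 12, 22, 15, 18, 2, 6, 21, 20, 5, 7, 23, 9, 13, 10, 17, 8, 11] l)) = true := by
  decide +kernel

theorem o22_c1_14 : l960Tabs.all (fun l => o22Check (compT [0, 1, 3, 18, 11, 4, 13, 5, 12, 20, 10, 21, 15, 9, 17, 14, 6, 8, 23, 19, 16, 7, 2, 22] l)) = true := by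
  decide +kernel

theorem o22_c1_15 : l960Tabs.all (fun l => o22Check (compT [0, 1, 3, 14, 20, 11, 17, 22, 15, 23, 10, 2, 16, 12, 7, 13, 9, 21, 19, 4, 6, 18, 5, 8] l)) = true := by
  decide +kernel

theorem o22_c1_16 : l960Tabs.all (fun l => o22Check (compT [0, 1, 3, 16, 8, 10, 9, 2, 5, 23, 15, 7, 19, 17, 20, 21, 4, 14, 13, 6, 12, 11, 18, 22] l)) = true := by
  decide +kernel

theorem o22_c1_17 : l960Tabs.all (fun l => o22Check (compT [0, 1, 3, 9, 2, 10, 15, 22, 8, 4, 6, 14, 11, 18, 19, 5, 20, 17, 7, 12, 16, 23, 13, 21] l)) = true := by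
  decide +kernel

theorem o22_c1_18 : l960Tabs.all (fun l => o22Check (compT [0, 1, 3, 4, 12, 15, 20, 2, 5, 23, 10, 19, 7, 17, 9, 6, 16, 14, 22, 21, 8, 18, 11, 13] l)) = true := by
  decide +kernel

theorem o22_c1_19 : l960Tabs.all (fun l => o22Check (compT [0, 1, 3, 7, 14, 16, 4, 8, 13, 10, 11, 2, 21, 6, 9, 5, 19, 23, 20, 22, 15, 17, 12, 18] l)) = true := by
  decide +kernel

theorem o22_c1_20 : l960Tabs.all (fun l => o22Check (compT [0, 1, 3, 5, 18, 9, 19, 15, 6, 7, 11, 13, 10, 17, 12, 21, 4, 20, 23, 16, 14, 2, 22, 8] l)) = true := by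
  decide +kernel

theorem o22_chunk_1 : ∀ tt ∈ o22TT_1, l960Tabs.all (fun l => o22Check (compT tt l)) = true := by
  intro tt ht
  simp only [o22TT_1, List.mem_cons, List.not_mem_nil, or_false] at ht
  rcases ht with rfl | rfl | rfl | rfl | rfl | rfl | rfl | rfl | rfl | rfl | rfl | rfl | rfl | rfl | rfl | rfl | rfl | rfl | rfl | rfl | rfl
  · exact o22_c1_0
  · exact o22_c1_1
  · exact o22_c1_2
  · exact o22_c1_3
  · exact o22_c1_4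
  · exact o22_c1_5
  · exact o22_c1_6
  · exact o22_c1_7
  · exact o22_c1_8
  · exact o22_c1_9
  · exact o22_c1_10
  · exact o22_c1_11
  · exact o22_c1_12
  · exact o22_c1_13
  · exact o22_c1_14
  · exact o22_c1_15
  · exact o22_c1_16
  · exact o22_c1_17
  · exact o22_c1_18
  · exact o22_c1_19
  · exact o22_c1_20

end Cfsg.Agent.Helper7
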