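import Cfsg.Agent.Helper7.M22OutData
import Cfsg.Agent.Helper7.M22OutEnum2

/-!
# The outer automorphism group of `M22` has order 2 (enumeration, part 3)
-/

set_option autoImplicit false

namespace Cfsg.Agent.Helper7

/-- Products of a table of the first level with the tables of the second level. -/
def o22TT_3 : List (List ℕ) := [
  [0, 1, 5, 17, 13, 15, 23, 20, 11, 2, 10, 14, 4, 7, 9, 8, 19, 16, 12, 6, 21, 18, 3, 22],
  [0, 1, 5, 13, 22, 6, 17, 7, 16, 20, 3, 10, 19, 11, 15, 8, 14, 2, 23, 18, 9, 21, 4, 12],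
  [0, 1, 5, 15, 13, 18, 19, 12, 22, 14, 6, 21, 2, 4, 3, 9, 17, 11, 8, 16, 7, 23, 20, 10],
  [0, 1, 5, 23, 20, 15, 10, 22, 13, 19, 6, 16, 18, 3, 4, 11, 9, 7, 14, 21, 17, 2, 12, 8],
  [0, 1, 5, 20, 23, 17, 8, 22, 7, 3, 18, 9, 6, 19, 4, 11, 16, 13, 14, 2, 15, 21, 12, 10],
  [0, 1, 5, 11, 3, 23, 4, 10, 6, 14, 18, 12, 15, 7, 21, 8, 19, 9, 2, 17, 16, 20, 22, 13],
  [0, 1, 5, 2, 11, 17, 15, 7, 10, 6, 20, 12, 16, 9, 3, 22, 21, 14, 19, 8, 18, 4, 13, 23],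
  [0, 1, 5, 10, 22, 15, 6, 8, 20, 9, 21, 7, 2, 12, 18, 13, 4, 3, 16, 17, 23, 19, 14, 11],
  [0, 1, 5, 14, 13, 9, 15, 8, 2, 21, 18, 20, 16, 22, 6, 17, 3, 10, 11, 23, 12, 4, 19, 7],
  [0, 1, 5, 4, 22, 6, 15, 14, 17, 23, 11, 7, 12, 2, 16, 13, 10, 3, 18, 20, 9, 19, 8, 21],
  [0, 1, 5, 7, 22, 18, 15, 13, 9, 23, 19, 8, 3, 11, 17, 10, 14, 21, 20, 6, 16, 2, 4, 12],
  [0, 1, 5, 9, 17, 6, 4, 22, 13, 19, 15, 18, 16, 3, 10, 21, 23, 7, 8, 11, 20, 12, 2, 14],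
  [0, 1, 5, 8, 22, 17, 18, 10, 23, 16, 2, 13, 21, 12, 6, 7, 4, 19, 9, 15, 20, 3, 14, 11],
  [0, 1, 5, 19, 12, 18, 6, 10, 13, 17, 16, 11, 23, 20, 2, 22, 3, 4, 21, 7, 15, 14, 8, 9],
  [0, 1, 5, 16, 9, 18, 7, 22, 10, 2, 15, 20, 17, 21, 14, 12, 23, 8, 4, 19, 6, 3, 11, 13],
  [0, 1, 5, 12, 2, 9, 14, 13, 17, 4, 15, 11, 6, 10, 3, 7, 21, 20, 19, 18, 23, 16, 22, 8],
  [0, 1, 5, 6, 8, 15, 21, 11, 22, 4, 17, 3, 19, 14, 2, 20, 18, 12, 7, 23, 10, 9, 16, 13],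
  [0, 1, 5, 21, 11, 15, 17, 13, 8, 18, 23, 12, 9, 16, 19, 22, 2, 14, 3, 10, 6, 4, 7, 20],
  [0, 1, 5, 18, 10, 17, 2, 11, 22, 4, 15, 19, 3, 14, 21, 23, 6, 12, 13, 20, 8, 16, 9, 7],
  [0, 1, 5, 3, 12, 6, 18, 8, 7, 15, 9, 11, 20, 23, 21, 22, 19, 4, 2, 13, 17, 14, 10, 16],
  [0, 1, 5, 22, 16, 21, 19, 17, 23, 3, 9, 7, 15, 14, 10, 20, 18, 2, 4, 6, 12, 11, 13, 8]
]

theorem o22TT_3_eq : o22Snd.map (compT o22T3) = o22TT_3 := by decide +kernel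

theorem o22_c3_0 : l960Tabs.all (fun l => o22Check (compT [0, 1, 5, 17, 13, 15, 23, 20, 11, 2, 10, 14, 4, 7, 9, 8, 19, 16, 12, 6, 21, 18, 3, 22] l)) = true := by
  decide +kernel

theorem o22_c3_1 : l960Tabs.all (fun l => o22Check (compT [0, 1, 5, 13, 22, 6, 17, 7, 16, 20, 3, 10, 19, 11, 15, 8, 14, 2, 23, 18, 9, 21, 4, 12] l)) = true := by
  decide +kernel

theorem o22_c3_2 : l960Tabs.all (fun l => o22Check (compT [0, 1, 5, 15, 13, 18, 19, 12, 22, 14, 6, 21, 2, 4, 3, 9, 17, 11, 8, 16, 7, 23, 20, 10] l)) = true := by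
  decide +kernel

theorem o22_c3_3 : l960Tabs.all (fun l => o22Check (compT [0, 1, 5, 23, 20, 15, 10, 22, 13, 19, 6, 16, 18, 3, 4, 11, 9, 7, 14, 21, 17, 2, 12, 8] l)) = true := by
  decide +kernel

theorem o22_c3_4 : l960Tabs.all (fun l => o22Check (compT [0, 1, 5, 20, 23, 17, 8, 22, 7, 3, 18, 9, 6, 19, 4, 11, 16, 13, 14, 2, 15, 21, 12, 10] l)) = true := by
  decide +kernel

theorem o22_c3_5 : l960Tabs.all (fun l => o22Check (compT [0, 1, 5, 11, 3, 23, 4, 10, 6, 14, 18, 12, 15, 7, 21, 8, 19, 9, 2, 17, 16, 20, 22, 13] l)) = true := by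
  decide +kernel

theorem o22_c3_6 : l960Tabs.all (fun l => o22Check (compT [0, 1, 5, 2, 11, 17, 15, 7, 10, 6, 20, 12, 16, 9, 3, 22, 21, 14, 19, 8, 18, 4, 13, 23] l)) = true := by
  decide +kernel

theorem o22_c3_7 : l960Tabs.all (fun l => o22Check (compT [0, 1, 5, 10, 22, 15, 6, 8, 20, 9, 21, 7, 2, 12, 18, 13, 4, 3, 16, 17, 23, 19, 14, 11] l)) = true := by
  decide +kernel

theorem o22_c3_8 : l960Tabs.all (fun l => o22Check (compT [0, 1, 5, 14, 13, 9, 15, 8, 2, 21, 18, 20, 16, 22, 6, 17, 3, 10, 11, 23, 12, 4, 19, 7] l)) = true := by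
  decide +kernel

theorem o22_c3_9 : l960Tabs.all (fun l => o22Check (compT [0, 1, 5, 4, 22, 6, 15, 14, 17, 23, 11, 7, 12, 2, 16, 13, 10, 3, 18, 20, 9, 19, 8, 21] l)) = true := by
  decide +kernel

theorem o22_c3_10 : l960Tabs.all (fun l => o22Check (compT [0, 1, 5, 7, 22, 18, 15, 13, 9, 23, 19, 8, 3, 11, 17, 10, 14, 21, 20, 6, 16, 2, 4, 12] l)) = true := by
  decide +kernel

theorem o22_c3_11 : l960Tabs.all (fun l => o22Check (compT [0, 1, 5, 9, 17, 6, 4, 22, 13, 19, 15, 18, 16, 3, 10, 21, 23, 7, 8, 11, 20, 12, 2, 14] l)) = true := by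
  decide +kernel

theorem o22_c3_12 : l960Tabs.all (fun l => o22Check (compT [0, 1, 5, 8, 22, 17, 18, 10, 23, 16, 2, 13, 21, 12, 6, 7, 4, 19, 9, 15, 20, 3, 14, 11] l)) = true := by
  decide +kernel

theorem o22_c3_13 : l960Tabs.all (fun l => o22Check (compT [0, 1, 5, 19, 12, 18, 6, 10, 13, 17, 16, 11, 23, 20, 2, 22, 3, 4, 21, 7, 15, 14, 8, 9] l)) = true := by
  decide +kernel

theorem o22_c3_14 : l960Tabs.all (fun l => o22Check (compT [0, 1, 5, 16, 9, 18, 7, 22, 10, 2, 15, 20, 17, 21, 14, 12, 23, 8, 4, 19, 6, 3, 11, 13] l)) = true := by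
  decide +kernel

theorem o22_c3_15 : l960Tabs.all (fun l => o22Check (compT [0, 1, 5, 12, 2, 9, 14, 13, 17, 4, 15, 11, 6, 10, 3, 7, 21, 20, 19, 18, 23, 16, 22, 8] l)) = true := by
  decide +kernel

theorem o22_c3_16 : l960Tabs.all (fun l => o22Check (compT [0, 1, 5, 6, 8, 15, 21, 11, 22, 4, 17, 3, 19, 14, 2, 20, 18, 12, 7, 23, 10, 9, 16, 13] l)) = true := by
  decide +kernel

theorem o22_c3_17 : l960Tabs.all (fun l => o22Check (compT [0, 1, 5, 21, 11, 15, 17, 13, 8, 18, 23, 12, 9, 16, 19, 22, 2, 14, 3, 10, 6, 4, 7, 20] l)) = true := by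
  decide +kernel

theorem o22_c3_18 : l960Tabs.all (fun l => o22Check (compT [0, 1, 5, 18, 10, 17, 2, 11, 22, 4, 15, 19, 3, 14, 21, 23, 6, 12, 13, 20, 8, 16, 9, 7] l)) = true := by
  decide +kernel

theorem o22_c3_19 : l960Tabs.all (fun l => o22Check (compT [0, 1, 5, 3, 12, 6, 18, 8, 7, 15, 9, 11, 20, 23, 21, 22, 19, 4, 2, 13, 17, 14, 10, 16] l)) = true := by
  decide +kernel

theorem o22_c3_20 : l960Tabs.all (fun l => o22Check (compT [0, 1, 5, 22, 16, 21, 19, 17, 23, 3, 9, 7, 15, 14, 10, 20, 18, 2, 4, 6, 12, 11, 13, 8] l)) = true := by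
  decide +kernel

theorem o22_chunk_3 : ∀ tt ∈ o22TT_3, l960Tabs.all (fun l => o22Check (compT tt l)) = true := by
  intro tt ht
  simp only [o22TT_3, List.mem_cons, List.not_mem_nil, or_false] at ht
  rcases ht with rfl | rfl | rfl | rfl | rfl | rfl | rfl | rfl | rfl | rfl | rfl | rfl | rfl | rfl | rfl | rfl | rfl | rfl | rfl | rfl | rfl
  · exact o22_c3_0
  · exact o22_c3_1
  · exact o22_c3_2
  · exact o22_c3_3
  · exact o22_c3_4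
  · exact o22_c3_5
  · exact o22_c3_6
  · exact o22_c3_7
  · exact o22_c3_8
  · exact o22_c3_9
  · exact o22_c3_10
  · exact o22_c3_11
  · exact o22_c3_12
  · exact o22_c3_13
  · exact o22_c3_14
  · exact o22_c3_15
  · exact o22_c3_16
  · exact o22_c3_17
  · exact o22_c3_18
  · exact o22_c3_19
  · exact o22_c3_20

end Cfsg.Agent.Helper7
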