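import Cfsg.Agent.Helper7.M22OutData
import Cfsg.Agent.Helper7.M22OutEnum4

/-!
# The outer automorphism group of `M22` has order 2 (enumeration, part 5)
-/

set_option autoImplicit false

namespace Cfsg.Agent.Helper7

/-- Products of a table of the first level with the tables of the second level. -/
def o22TT_5 : List (List ℕ) := [
  [0, 1, 7, 19, 14, 8, 9, 16, 5, 11, 4, 12, 17, 2, 10, 13, 22, 20, 21, 3, 6, 23, 15, 18],
  [0, 1, 7, 14, 18, 3, 19, 2, 20, 16, 15, 4, 22, 5, 8, 13, 12, 11, 9, 23, 10, 6, 17, 21],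
  [0, 1, 7, 8, 14, 23, 22, 21, 18, 12, 3, 6, 11, 17, 15, 10, 19, 5, 13, 20, 2, 9, 16, 4],
  [0, 1, 7, 9, 16, 8, 4, 18, 14, 22, 3, 20, 23, 15, 17, 5, 10, 2, 12, 6, 19, 11, 21, 13],
  [0, 1, 7, 16, 9, 19, 13, 18, 2, 15, 23, 10, 3, 22, 17, 5, 20, 14, 12, 11, 8, 6, 21, 4],
  [0, 1, 7, 5, 15, 9, 17, 4, 3, 12, 23, 21, 8, 2, 6, 13, 22, 10, 11, 19, 20, 16, 18, 14],
  [0, 1, 7, 11, 5, 19, 8, 2, 4, 3, 16, 21, 20, 10, 15, 18, 6, 12, 22, 13, 23, 17, 14, 9],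
  [0, 1, 7, 4, 18, 8, 3, 13, 16, 10, 6, 2, 11, 21, 23, 14, 17, 15, 20, 19, 9, 22, 12, 5],
  [0, 1, 7, 12, 14, 10, 8, 13, 11, 6, 23, 16, 20, 18, 3, 19, 15, 4, 5, 9, 21, 17, 22, 2],
  [0, 1, 7, 17, 18, 3, 8, 12, 19, 9, 5, 2, 21, 11, 20, 14, 4, 15, 23, 16, 10, 22, 13, 6],
  [0, 1, 7, 2, 18, 23, 8, 14, 10, 9, 22, 13, 15, 5, 19, 4, 12, 6, 16, 3, 20, 11, 17, 21],
  [0, 1, 7, 10, 19, 3, 17, 18, 14, 22, 8, 23, 20, 15, 4, 6, 9, 2, 13, 5, 16, 21, 11, 12],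
  [0, 1, 7, 13, 18, 19, 23, 4, 9, 20, 11, 14, 6, 21, 3, 2, 17, 22, 10, 8, 16, 15, 12, 5],
  [0, 1, 7, 22, 21, 23, 3, 4, 14, 19, 20, 5, 9, 16, 11, 18, 15, 17, 6, 2, 8, 12, 13, 10],
  [0, 1, 7, 20, 10, 23, 2, 18, 4, 11, 8, 16, 19, 6, 12, 21, 9, 13, 17, 22, 3, 15, 5, 14],
  [0, 1, 7, 21, 11, 10, 12, 14, 19, 17, 8, 5, 3, 4, 15, 2, 6, 16, 22, 23, 9, 20, 18, 13],
  [0, 1, 7, 3, 13, 8, 6, 5, 18, 17, 19, 15, 22, 12, 11, 16, 23, 21, 2, 9, 4, 10, 20, 14],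
  [0, 1, 7, 6, 5, 8, 19, 14, 13, 23, 9, 21, 10, 20, 22, 18, 11, 12, 15, 4, 3, 17, 2, 16],
  [0, 1, 7, 23, 4, 19, 11, 5, 18, 17, 8, 22, 15, 12, 6, 9, 3, 21, 14, 16, 13, 20, 10, 2],
  [0, 1, 7, 15, 21, 3, 23, 13, 2, 8, 10, 5, 16, 9, 6, 18, 22, 17, 11, 14, 19, 12, 4, 20],
  [0, 1, 7, 18, 20, 6, 22, 19, 9, 15, 10, 2, 8, 12, 4, 16, 23, 11, 17, 3, 21, 5, 14, 13]
]

theorem o22TT_5_eq : o22Snd.map (compT o22T5) = o22TT_5 := by decide +kernel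

theorem o22_c5_0 : l960Tabs.all (fun l => o22Check (compT [0, 1, 7, 19, 14, 8, 9, 16, 5, 11, 4, 12, 17, 2, 10, 13, 22, 20, 21, 3, 6, 23, 15, 18] l)) = true := by
  decide +kernel

theorem o22_c5_1 : l960Tabs.all (fun l => o22Check (compT [0, 1, 7, 14, 18, 3, 19, 2, 20, 16, 15, 4, 22, 5, 8, 13, 12, 11, 9, 23, 10, 6, 17, 21] l)) = true := by
  decide +kernel

theorem o22_c5_2 : l960Tabs.all (fun l => o22Check (compT [0, 1, 7, 8, 14, 23, 22, 21, 18, 12, 3, 6, 11, 17, 15, 10, 19, 5, 13, 20, 2, 9, 16, 4] l)) = true := by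
  decide +kernel

theorem o22_c5_3 : l960Tabs.all (fun l => o22Check (compT [0, 1, 7, 9, 16, 8, 4, 18, 14, 22, 3, 20, 23, 15, 17, 5, 10, 2, 12, 6, 19, 11, 21, 13] l)) = true := by
  decide +kernel

theorem o22_c5_4 : l960Tabs.all (fun l => o22Check (compT [0, 1, 7, 16, 9, 19, 13, 18, 2, 15, 23, 10, 3, 22, 17, 5, 20, 14, 12, 11, 8, 6, 21, 4] l)) = true := by
  decide +kernel

theorem o22_c5_5 : l960Tabs.all (fun l => o22Check (compT [0, 1, 7, 5, 15, 9, 17, 4, 3, 12, 23, 21, 8, 2, 6, 13, 22, 10, 11, 19, 20, 16, 18, 14] l)) = true := by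
  decide +kernel

theorem o22_c5_6 : l960Tabs.all (fun l => o22Check (compT [0, 1, 7, 11, 5, 19, 8, 2, 4, 3, 16, 21, 20, 10, 15, 18, 6, 12, 22, 13, 23, 17, 14, 9] l)) = true := by
  decide +kernel

theorem o22_c5_7 : l960Tabs.all (fun l => o22Check (compT [0, 1, 7, 4, 18, 8, 3, 13, 16, 10, 6, 2, 11, 21, 23, 14, 17, 15, 20, 19, 9, 22, 12, 5] l)) = true := by
  decide +kernel

theorem o22_c5_8 : l960Tabs.all (fun l => o22Check (compT [0, 1, 7, 12, 14, 10, 8, 13, 11, 6, 23, 16, 20, 18, 3, 19, 15, 4, 5, 9, 21, 17, 22, 2] l)) = true := by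
  decide +kernel

theorem o22_c5_9 : l960Tabs.all (fun l => o22Check (compT [0, 1, 7, 17, 18, 3, 8, 12, 19, 9, 5, 2, 21, 11, 20, 14, 4, 15, 23, 16, 10, 22, 13, 6] l)) = true := by
  decide +kernel

theorem o22_c5_10 : l960Tabs.all (fun l => o22Check (compT [0, 1, 7, 2, 18, 23, 8, 14, 10, 9, 22, 13, 15, 5, 19, 4, 12, 6, 16, 3, 20, 11, 17, 21] l)) = true := by
  decide +kernel

theorem o22_c5_11 : l960Tabs.all (fun l => o22Check (compT [0, 1, 7, 10, 19, 3, 17, 18, 14, 22, 8, 23, 20, 15, 4, 6, 9, 2, 13, 5, 16, 21, 11, 12] l)) = true := by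
  decide +kernel

theorem o22_c5_12 : l960Tabs.all (fun l => o22Check (compT [0, 1, 7, 13, 18, 19, 23, 4, 9, 20, 11, 14, 6, 21, 3, 2, 17, 22, 10, 8, 16, 15, 12, 5] l)) = true := by
  decide +kernel

theorem o22_c5_13 : l960Tabs.all (fun l => o22Check (compT [0, 1, 7, 22, 21, 23, 3, 4, 14, 19, 20, 5, 9, 16, 11, 18, 15, 17, 6, 2, 8, 12, 13, 10] l)) = true := by
  decide +kernel

theorem o22_c5_14 : l960Tabs.all (fun l => o22Check (compT [0, 1, 7, 20, 10, 23, 2, 18, 4, 11, 8, 16, 19, 6, 12, 21, 9, 13, 17, 22, 3, 15, 5, 14] l)) = true := by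
  decide +kernel

theorem o22_c5_15 : l960Tabs.all (fun l => o22Check (compT [0, 1, 7, 21, 11, 10, 12, 14, 19, 17, 8, 5, 3, 4, 15, 2, 6, 16, 22, 23, 9, 20, 18, 13] l)) = true := by
  decide +kernel

theorem o22_c5_16 : l960Tabs.all (fun l => o22Check (compT [0, 1, 7, 3, 13, 8, 6, 5, 18, 17, 19, 15, 22, 12, 11, 16, 23, 21, 2, 9, 4, 10, 20, 14] l)) = true := by
  decide +kernel

theorem o22_c5_17 : l960Tabs.all (fun l => o22Check (compT [0, 1, 7, 6, 5, 8, 19, 14, 13, 23, 9, 21, 10, 20, 22, 18, 11, 12, 15, 4, 3, 17, 2, 16] l)) = true := by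
  decide +kernel

theorem o22_c5_18 : l960Tabs.all (fun l => o22Check (compT [0, 1, 7, 23, 4, 19, 11, 5, 18, 17, 8, 22, 15, 12, 6, 9, 3, 21, 14, 16, 13, 20, 10, 2] l)) = true := by
  decide +kernel

theorem o22_c5_19 : l960Tabs.all (fun l => o22Check (compT [0, 1, 7, 15, 21, 3, 23, 13, 2, 8, 10, 5, 16, 9, 6, 18, 22, 17, 11, 14, 19, 12, 4, 20] l)) = true := by
  decide +kernel

theorem o22_c5_20 : l960Tabs.all (fun l => o22Check (compT [0, 1, 7, 18, 20, 6, 22, 19, 9, 15, 10, 2, 8, 12, 4, 16, 23, 11, 17, 3, 21, 5, 14, 13] l)) = true := by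
  decide +kernel

theorem o22_chunk_5 : ∀ tt ∈ o22TT_5, l960Tabs.all (fun l => o22Check (compT tt l)) = true := by
  intro tt ht
  simp only [o22TT_5, List.mem_cons, List.not_mem_nil, or_false] at ht
  rcases ht with rfl | rfl | rfl | rfl | rfl | rfl | rfl | rfl | rfl | rfl | rfl | rfl | rfl | rfl | rfl | rfl | rfl | rfl | rfl | rfl | rfl
  · exact o22_c5_0
  · exact o22_c5_1
  · exact o22_c5_2
  · exact o22_c5_3
  · exact o22_c5_4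
  · exact o22_c5_5
  · exact o22_c5_6
  · exact o22_c5_7
  · exact o22_c5_8
  · exact o22_c5_9
  · exact o22_c5_10
  · exact o22_c5_11
  · exact o22_c5_12
  · exact o22_c5_13
  · exact o22_c5_14
  · exact o22_c5_15
  · exact o22_c5_16
  · exact o22_c5_17
  · exact o22_c5_18
  · exact o22_c5_19
  · exact o22_c5_20

end Cfsg.Agent.Helper7
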