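import Cfsg.Agent.Helper7.M22OutData
import Cfsg.Agent.Helper7.M22OutEnum5

/-!
# The outer automorphism group of `M22` has order 2 (enumeration, part 6)
-/

set_option autoImplicit false

namespace Cfsg.Agent.Helper7

/-- Products of a table of the first level with the tables of the second level. -/
def o22TT_6 : List (List ℕ) := [
  [0, 1, 8, 19, 20, 11, 3, 18, 9, 15, 10, 2, 7, 21, 5, 14, 23, 6, 13, 22, 12, 4, 16, 17],
  [0, 1, 8, 20, 17, 22, 19, 21, 6, 18, 16, 10, 23, 9, 11, 14, 2, 15, 3, 4, 5, 12, 7, 13],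
  [0, 1, 8, 11, 20, 4, 23, 13, 17, 2, 22, 12, 15, 7, 16, 5, 19, 9, 14, 6, 21, 3, 18, 10],
  [0, 1, 8, 3, 18, 11, 10, 17, 20, 23, 22, 6, 4, 16, 7, 9, 5, 21, 2, 12, 19, 15, 13, 14],
  [0, 1, 8, 18, 3, 19, 14, 17, 21, 16, 4, 5, 22, 23, 7, 9, 6, 20, 2, 15, 11, 12, 13, 10],
  [0, 1, 8, 9, 16, 3, 7, 10, 22, 2, 4, 13, 11, 21, 12, 14, 23, 5, 15, 19, 6, 18, 17, 20],
  [0, 1, 8, 15, 9, 19, 11, 21, 10, 22, 18, 13, 6, 5, 16, 17, 12, 2, 23, 14, 4, 7, 20, 3],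
  [0, 1, 8, 10, 17, 11, 22, 14, 18, 5, 12, 21, 15, 13, 4, 20, 7, 16, 6, 19, 3, 23, 2, 9],
  [0, 1, 8, 2, 20, 5, 11, 14, 15, 12, 4, 18, 6, 17, 22, 19, 16, 10, 9, 3, 13, 7, 23, 21],
  [0, 1, 8, 7, 17, 22, 11, 2, 19, 3, 9, 21, 13, 15, 6, 20, 10, 16, 4, 18, 5, 23, 14, 12],
  [0, 1, 8, 21, 17, 4, 11, 20, 5, 3, 23, 14, 16, 9, 19, 10, 2, 12, 18, 22, 6, 15, 7, 13],
  [0, 1, 8, 5, 19, 22, 7, 17, 20, 23, 11, 4, 6, 16, 10, 12, 3, 21, 14, 9, 18, 13, 15, 2],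
  [0, 1, 8, 14, 17, 19, 4, 10, 3, 6, 15, 20, 12, 13, 22, 21, 7, 23, 5, 11, 18, 16, 2, 9],
  [0, 1, 8, 23, 13, 4, 22, 10, 20, 19, 6, 9, 3, 18, 15, 17, 16, 7, 12, 21, 11, 2, 14, 5],
  [0, 1, 8, 6, 5, 4, 21, 17, 10, 15, 11, 18, 19, 12, 2, 13, 3, 14, 7, 23, 22, 16, 9, 20],
  [0, 1, 8, 13, 15, 5, 2, 20, 19, 7, 11, 9, 22, 10, 16, 21, 12, 18, 23, 4, 3, 6, 17, 14],
  [0, 1, 8, 22, 14, 11, 12, 9, 17, 7, 19, 16, 23, 2, 15, 18, 4, 13, 21, 3, 10, 5, 6, 20],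
  [0, 1, 8, 12, 9, 11, 19, 20, 14, 4, 3, 13, 5, 6, 23, 17, 15, 2, 16, 10, 22, 7, 21, 18],
  [0, 1, 8, 4, 10, 19, 15, 9, 17, 7, 11, 23, 16, 2, 12, 3, 22, 13, 20, 18, 14, 6, 5, 21],
  [0, 1, 8, 16, 13, 22, 4, 14, 21, 11, 5, 9, 18, 3, 12, 17, 23, 7, 15, 20, 19, 2, 10, 6],
  [0, 1, 8, 17, 6, 12, 23, 19, 3, 16, 5, 21, 11, 2, 10, 18, 4, 15, 7, 22, 13, 9, 20, 14]
]

theorem o22TT_6_eq : o22Snd.map (compT o22T6) = o22TT_6 := by decide +kernel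

theorem o22_c6_0 : l960Tabs.all (fun l => o22Check (compT [0, 1, 8, 19, 20, 11, 3, 18, 9, 15, 10, 2, 7, 21, 5, 14, 23, 6, 13, 22, 12, 4, 16, 17] l)) = true := by
  decide +kernel

theorem o22_c6_1 : l960Tabs.all (fun l => o22Check (compT [0, 1, 8, 20, 17, 22, 19, 21, 6, 18, 16, 10, 23, 9, 11, 14, 2, 15, 3, 4, 5, 12, 7, 13] l)) = true := by
  decide +kernel

theorem o22_c6_2 : l960Tabs.all (fun l => o22Check (compT [0, 1, 8, 11, 20, 4, 23, 13, 17, 2, 22, 12, 15, 7, 16, 5, 19, 9, 14, 6, 21, 3, 18, 10] l)) = true := by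
  decide +kernel

theorem o22_c6_3 : l960Tabs.all (fun l => o22Check (compT [0, 1, 8, 3, 18, 11, 10, 17, 20, 23, 22, 6, 4, 16, 7, 9, 5, 21, 2, 12, 19, 15, 13, 14] l)) = true := by
  decide +kernel

theorem o22_c6_4 : l960Tabs.all (fun l => o22Check (compT [0, 1, 8, 18, 3, 19, 14, 17, 21, 16, 4, 5, 22, 23, 7, 9, 6, 20, 2, 15, 11, 12, 13, 10] l)) = true := by
  decide +kernel

theorem o22_c6_5 : l960Tabs.all (fun l => o22Check (compT [0, 1, 8, 9, 16, 3, 7, 10, 22, 2, 4, 13, 11, 21, 12, 14, 23, 5, 15, 19, 6, 18, 17, 20] l)) = true := by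
  decide +kernel

theorem o22_c6_6 : l960Tabs.all (fun l => o22Check (compT [0, 1, 8, 15, 9, 19, 11, 21, 10, 22, 18, 13, 6, 5, 16, 17, 12, 2, 23, 14, 4, 7, 20, 3] l)) = true := by
  decide +kernel

theorem o22_c6_7 : l960Tabs.all (fun l => o22Check (compT [0, 1, 8, 10, 17, 11, 22, 14, 18, 5, 12, 21, 15, 13, 4, 20, 7, 16, 6, 19, 3, 23, 2, 9] l)) = true := by
  decide +kernel

theorem o22_c6_8 : l960Tabs.all (fun l => o22Check (compT [0, 1, 8, 2, 20, 5, 11, 14, 15, 12, 4, 18, 6, 17, 22, 19, 16, 10, 9, 3, 13, 7, 23, 21] l)) = true := by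
  decide +kernel

theorem o22_c6_9 : l960Tabs.all (fun l => o22Check (compT [0, 1, 8, 7, 17, 22, 11, 2, 19, 3, 9, 21, 13, 15, 6, 20, 10, 16, 4, 18, 5, 23, 14, 12] l)) = true := by
  decide +kernel

theorem o22_c6_10 : l960Tabs.all (fun l => o22Check (compT [0, 1, 8, 21, 17, 4, 11, 20, 5, 3, 23, 14, 16, 9, 19, 10, 2, 12, 18, 22, 6, 15, 7, 13] l)) = true := by
  decide +kernel

theorem o22_c6_11 : l960Tabs.all (fun l => o22Check (compT [0, 1, 8, 5, 19, 22, 7, 17, 20, 23, 11, 4, 6, 16, 10, 12, 3, 21, 14, 9, 18, 13, 15, 2] l)) = true := by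
  decide +kernel

theorem o22_c6_12 : l960Tabs.all (fun l => o22Check (compT [0, 1, 8, 14, 17, 19, 4, 10, 3, 6, 15, 20, 12, 13, 22, 21, 7, 23, 5, 11, 18, 16, 2, 9] l)) = true := by
  decide +kernel

theorem o22_c6_13 : l960Tabs.all (fun l => o22Check (compT [0, 1, 8, 23, 13, 4, 22, 10, 20, 19, 6, 9, 3, 18, 15, 17, 16, 7, 12, 21, 11, 2, 14, 5] l)) = true := by
  decide +kernel

theorem o22_c6_14 : l960Tabs.all (fun l => o22Check (compT [0, 1, 8, 6, 5, 4, 21, 17, 10, 15, 11, 18, 19, 12, 2, 13, 3, 14, 7, 23, 22, 16, 9, 20] l)) = true := by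
  decide +kernel

theorem o22_c6_15 : l960Tabs.all (fun l => o22Check (compT [0, 1, 8, 13, 15, 5, 2, 20, 19, 7, 11, 9, 22, 10, 16, 21, 12, 18, 23, 4, 3, 6, 17, 14] l)) = true := by
  decide +kernel

theorem o22_c6_16 : l960Tabs.all (fun l => o22Check (compT [0, 1, 8, 22, 14, 11, 12, 9, 17, 7, 19, 16, 23, 2, 15, 18, 4, 13, 21, 3, 10, 5, 6, 20] l)) = true := by
  decide +kernel

theorem o22_c6_17 : l960Tabs.all (fun l => o22Check (compT [0, 1, 8, 12, 9, 11, 19, 20, 14, 4, 3, 13, 5, 6, 23, 17, 15, 2, 16, 10, 22, 7, 21, 18] l)) = true := by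
  decide +kernel

theorem o22_c6_18 : l960Tabs.all (fun l => o22Check (compT [0, 1, 8, 4, 10, 19, 15, 9, 17, 7, 11, 23, 16, 2, 12, 3, 22, 13, 20, 18, 14, 6, 5, 21] l)) = true := by
  decide +kernel

theorem o22_c6_19 : l960Tabs.all (fun l => o22Check (compT [0, 1, 8, 16, 13, 22, 4, 14, 21, 11, 5, 9, 18, 3, 12, 17, 23, 7, 15, 20, 19, 2, 10, 6] l)) = true := by
  decide +kernel

theorem o22_c6_20 : l960Tabs.all (fun l => o22Check (compT [0, 1, 8, 17, 6, 12, 23, 19, 3, 16, 5, 21, 11, 2, 10, 18, 4, 15, 7, 22, 13, 9, 20, 14] l)) = true := by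
  decide +kernel

theorem o22_chunk_6 : ∀ tt ∈ o22TT_6, l960Tabs.all (fun l => o22Check (compT tt l)) = true := by
  intro tt ht
  simp only [o22TT_6, List.mem_cons, List.not_mem_nil, or_false] at ht
  rcases ht with rfl | rfl | rfl | rfl | rfl | rfl | rfl | rfl | rfl | rfl | rfl | rfl | rfl | rfl | rfl | rfl | rfl | rfl | rfl | rfl | rfl
  · exact o22_c6_0
  · exact o22_c6_1
  · exact o22_c6_2
  · exact o22_c6_3
  · exact o22_c6_4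
  · exact o22_c6_5
  · exact o22_c6_6
  · exact o22_c6_7
  · exact o22_c6_8
  · exact o22_c6_9
  · exact o22_c6_10
  · exact o22_c6_11
  · exact o22_c6_12
  · exact o22_c6_13
  · exact o22_c6_14
  · exact o22_c6_15
  · exact o22_c6_16
  · exact o22_c6_17
  · exact o22_c6_18
  · exact o22_c6_19
  · exact o22_c6_20

end Cfsg.Agent.Helper7
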