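import Cfsg.Agent.Helper7.M22OutData
import Cfsg.Agent.Helper7.M22OutEnum6

/-!
# The outer automorphism group of `M22` has order 2 (enumeration, part 7)
-/

set_option autoImplicit false

namespace Cfsg.Agent.Helper7

/-- Products of a table of the first level with the tables of the second level. -/
def o22TT_7 : List (List ℕ) := [
  [0, 1, 9, 22, 12, 2, 19, 13, 15, 14, 10, 8, 18, 4, 11, 5, 17, 3, 21, 16, 7, 20, 23, 6],
  [0, 1, 9, 12, 6, 16, 22, 4, 3, 13, 23, 10, 17, 15, 2, 5, 8, 14, 19, 20, 11, 7, 18, 21],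
  [0, 1, 9, 2, 12, 20, 17, 21, 6, 8, 16, 7, 14, 18, 23, 11, 22, 15, 5, 3, 4, 19, 13, 10],
  [0, 1, 9, 19, 13, 2, 10, 6, 12, 17, 16, 3, 20, 23, 18, 15, 11, 4, 8, 7, 22, 14, 21, 5],
  [0, 1, 9, 13, 19, 22, 5, 6, 4, 23, 20, 11, 16, 17, 18, 15, 3, 12, 8, 14, 2, 7, 21, 10],
  [0, 1, 9, 15, 23, 19, 18, 10, 16, 8, 20, 21, 2, 4, 7, 5, 17, 11, 14, 22, 3, 13, 6, 12],
  [0, 1, 9, 14, 15, 22, 2, 4, 10, 16, 13, 21, 3, 11, 23, 6, 7, 8, 17, 5, 20, 18, 12, 19],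
  [0, 1, 9, 10, 6, 2, 16, 5, 13, 11, 7, 4, 14, 21, 20, 12, 18, 23, 3, 22, 19, 17, 8, 15],
  [0, 1, 9, 8, 12, 11, 2, 5, 14, 7, 20, 13, 3, 6, 16, 22, 23, 10, 15, 19, 21, 18, 17, 4],
  [0, 1, 9, 18, 6, 16, 2, 8, 22, 19, 15, 4, 21, 14, 3, 12, 10, 23, 20, 13, 11, 17, 5, 7],
  [0, 1, 9, 4, 6, 20, 2, 12, 11, 19, 17, 5, 23, 15, 22, 10, 8, 7, 13, 16, 3, 14, 18, 21],
  [0, 1, 9, 11, 22, 16, 18, 6, 12, 17, 2, 20, 3, 23, 10, 7, 19, 4, 5, 15, 13, 21, 14, 8],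
  [0, 1, 9, 5, 6, 22, 20, 10, 19, 3, 14, 12, 7, 21, 16, 4, 18, 17, 11, 2, 13, 23, 8, 15],
  [0, 1, 9, 17, 21, 20, 16, 10, 12, 22, 3, 15, 19, 13, 14, 6, 23, 18, 7, 4, 2, 8, 5, 11],
  [0, 1, 9, 3, 11, 20, 4, 6, 10, 14, 2, 13, 22, 7, 8, 21, 19, 5, 18, 17, 16, 23, 15, 12],
  [0, 1, 9, 21, 14, 11, 8, 12, 22, 18, 2, 15, 16, 10, 23, 4, 7, 13, 17, 20, 19, 3, 6, 5],
  [0, 1, 9, 16, 5, 2, 7, 15, 6, 18, 22, 23, 17, 8, 14, 13, 20, 21, 4, 19, 10, 11, 3, 12],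
  [0, 1, 9, 7, 15, 2, 22, 12, 5, 20, 19, 21, 11, 3, 17, 6, 14, 8, 23, 10, 16, 18, 4, 13],
  [0, 1, 9, 20, 10, 22, 14, 15, 6, 18, 2, 17, 23, 8, 7, 19, 16, 21, 12, 13, 5, 3, 11, 4],
  [0, 1, 9, 23, 21, 16, 20, 5, 4, 2, 11, 15, 13, 19, 7, 6, 17, 18, 14, 12, 22, 8, 10, 3],
  [0, 1, 9, 6, 3, 7, 17, 22, 19, 23, 11, 4, 2, 8, 10, 13, 20, 14, 18, 16, 21, 15, 12, 5]
]

theorem o22TT_7_eq : o22Snd.map (compT o22T7) = o22TT_7 := by decide +kernel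

theorem o22_c7_0 : l960Tabs.all (fun l => o22Check (compT [0, 1, 9, 22, 12, 2, 19, 13, 15, 14, 10, 8, 18, 4, 11, 5, 17, 3, 21, 16, 7, 20, 23, 6] l)) = true := by
  decide +kernel

theorem o22_c7_1 : l960Tabs.all (fun l => o22Check (compT [0, 1, 9, 12, 6, 16, 22, 4, 3, 13, 23, 10, 17, 15, 2, 5, 8, 14, 19, 20, 11, 7, 18, 21] l)) = true := by
  decide +kernel

theorem o22_c7_2 : l960Tabs.all (fun l => o22Check (compT [0, 1, 9, 2, 12, 20, 17, 21, 6, 8, 16, 7, 14, 18, 23, 11, 22, 15, 5, 3, 4, 19, 13, 10] l)) = true := by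
  decide +kernel

theorem o22_c7_3 : l960Tabs.all (fun l => o22Check (compT [0, 1, 9, 19, 13, 2, 10, 6, 12, 17, 16, 3, 20, 23, 18, 15, 11, 4, 8, 7, 22, 14, 21, 5] l)) = true := by
  decide +kernel

theorem o22_c7_4 : l960Tabs.all (fun l => o22Check (compT [0, 1, 9, 13, 19, 22, 5, 6, 4, 23, 20, 11, 16, 17, 18, 15, 3, 12, 8, 14, 2, 7, 21, 10] l)) = true := by
  decide +kernel

theorem o22_c7_5 : l960Tabs.all (fun l => o22Check (compT [0, 1, 9, 15, 23, 19, 18, 10, 16, 8, 20, 21, 2, 4, 7, 5, 17, 11, 14, 22, 3, 13, 6, 12] l)) = true := by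
  decide +kernel

theorem o22_c7_6 : l960Tabs.all (fun l => o22Check (compT [0, 1, 9, 14, 15, 22, 2, 4, 10, 16, 13, 21, 3, 11, 23, 6, 7, 8, 17, 5, 20, 18, 12, 19] l)) = true := by
  decide +kernel

theorem o22_c7_7 : l960Tabs.all (fun l => o22Check (compT [0, 1, 9, 10, 6, 2, 16, 5, 13, 11, 7, 4, 14, 21, 20, 12, 18, 23, 3, 22, 19, 17, 8, 15] l)) = true := by
  decide +kernel

theorem o22_c7_8 : l960Tabs.all (fun l => o22Check (compT [0, 1, 9, 8, 12, 11, 2, 5, 14, 7, 20, 13, 3, 6, 16, 22, 23, 10, 15, 19, 21, 18, 17, 4] l)) = true := by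
  decide +kernel

theorem o22_c7_9 : l960Tabs.all (fun l => o22Check (compT [0, 1, 9, 18, 6, 16, 2, 8, 22, 19, 15, 4, 21, 14, 3, 12, 10, 23, 20, 13, 11, 17, 5, 7] l)) = true := by
  decide +kernel

theorem o22_c7_10 : l960Tabs.all (fun l => o22Check (compT [0, 1, 9, 4, 6, 20, 2, 12, 11, 19, 17, 5, 23, 15, 22, 10, 8, 7, 13, 16, 3, 14, 18, 21] l)) = true := by
  decide +kernel

theorem o22_c7_11 : l960Tabs.all (fun l => o22Check (compT [0, 1, 9, 11, 22, 16, 18, 6, 12, 17, 2, 20, 3, 23, 10, 7, 19, 4, 5, 15, 13, 21, 14, 8] l)) = true := by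
  decide +kernel

theorem o22_c7_12 : l960Tabs.all (fun l => o22Check (compT [0, 1, 9, 5, 6, 22, 20, 10, 19, 3, 14, 12, 7, 21, 16, 4, 18, 17, 11, 2, 13, 23, 8, 15] l)) = true := by
  decide +kernel

theorem o22_c7_13 : l960Tabs.all (fun l => o22Check (compT [0, 1, 9, 17, 21, 20, 16, 10, 12, 22, 3, 15, 19, 13, 14, 6, 23, 18, 7, 4, 2, 8, 5, 11] l)) = true := by
  decide +kernel

theorem o22_c7_14 : l960Tabs.all (fun l => o22Check (compT [0, 1, 9, 3, 11, 20, 4, 6, 10, 14, 2, 13, 22, 7, 8, 21, 19, 5, 18, 17, 16, 23, 15, 12] l)) = true := by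
  decide +kernel

theorem o22_c7_15 : l960Tabs.all (fun l => o22Check (compT [0, 1, 9, 21, 14, 11, 8, 12, 22, 18, 2, 15, 16, 10, 23, 4, 7, 13, 17, 20, 19, 3, 6, 5] l)) = true := by
  decide +kernel

theorem o22_c7_16 : l960Tabs.all (fun l => o22Check (compT [0, 1, 9, 16, 5, 2, 7, 15, 6, 18, 22, 23, 17, 8, 14, 13, 20, 21, 4, 19, 10, 11, 3, 12] l)) = true := by
  decide +kernel

theorem o22_c7_17 : l960Tabs.all (fun l => o22Check (compT [0, 1, 9, 7, 15, 2, 22, 12, 5, 20, 19, 21, 11, 3, 17, 6, 14, 8, 23, 10, 16, 18, 4, 13] l)) = true := by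
  decide +kernel

theorem o22_c7_18 : l960Tabs.all (fun l => o22Check (compT [0, 1, 9, 20, 10, 22, 14, 15, 6, 18, 2, 17, 23, 8, 7, 19, 16, 21, 12, 13, 5, 3, 11, 4] l)) = true := by
  decide +kernel

theorem o22_c7_19 : l960Tabs.all (fun l => o22Check (compT [0, 1, 9, 23, 21, 16, 20, 5, 4, 2, 11, 15, 13, 19, 7, 6, 17, 18, 14, 12, 22, 8, 10, 3] l)) = true := by
  decide +kernel

theorem o22_c7_20 : l960Tabs.all (fun l => o22Check (compT [0, 1, 9, 6, 3, 7, 17, 22, 19, 23, 11, 4, 2, 8, 10, 13, 20, 14, 18, 16, 21, 15, 12, 5] l)) = true := by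
  decide +kernel

theorem o22_chunk_7 : ∀ tt ∈ o22TT_7, l960Tabs.all (fun l => o22Check (compT tt l)) = true := by
  intro tt ht
  simp only [o22TT_7, List.mem_cons, List.not_mem_nil, or_false] at ht
  rcases ht with rfl | rfl | rfl | rfl | rfl | rfl | rfl | rfl | rfl | rfl | rfl | rfl | rfl | rfl | rfl | rfl | rfl | rfl | rfl | rfl | rfl
  · exact o22_c7_0
  · exact o22_c7_1
  · exact o22_c7_2
  · exact o22_c7_3
  · exact o22_c7_4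
  · exact o22_c7_5
  · exact o22_c7_6
  · exact o22_c7_7
  · exact o22_c7_8
  · exact o22_c7_9
  · exact o22_c7_10
  · exact o22_c7_11
  · exact o22_c7_12
  · exact o22_c7_13
  · exact o22_c7_14
  · exact o22_c7_15
  · exact o22_c7_16
  · exact o22_c7_17
  · exact o22_c7_18
  · exact o22_c7_19
  · exact o22_c7_20

end Cfsg.Agent.Helper7
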