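import Cfsg.Agent.Helper7.M22OutData
import Cfsg.Agent.Helper7.M22OutEnum7

/-!
# The outer automorphism group of `M22` has order 2 (enumeration, part 8)
-/

set_option autoImplicit false

namespace Cfsg.Agent.Helper7

/-- Products of a table of the first level with the tables of the second level. -/
def o22TT_8 : List (List ℕ) := [
  [0, 1, 10, 7, 18, 2, 14, 8, 23, 6, 20, 5, 19, 13, 4, 11, 22, 3, 16, 17, 21, 15, 9, 12],
  [0, 1, 10, 18, 12, 17, 7, 13, 3, 8, 9, 20, 22, 23, 2, 11, 5, 6, 14, 15, 4, 21, 19, 16],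
  [0, 1, 10, 2, 18, 15, 22, 16, 12, 5, 17, 21, 6, 19, 9, 4, 7, 23, 11, 3, 13, 14, 8, 20],
  [0, 1, 10, 14, 8, 2, 20, 12, 18, 22, 17, 3, 15, 9, 19, 23, 4, 13, 5, 21, 7, 6, 16, 11],
  [0, 1, 10, 8, 14, 7, 11, 12, 13, 9, 15, 4, 17, 22, 19, 23, 3, 18, 5, 6, 2, 21, 16, 20],
  [0, 1, 10, 23, 9, 14, 19, 20, 17, 5, 15, 16, 2, 13, 21, 11, 22, 4, 6, 7, 3, 8, 12, 18],
  [0, 1, 10, 6, 23, 7, 2, 13, 20, 17, 8, 16, 3, 4, 9, 12, 21, 5, 22, 11, 15, 19, 18, 14],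
  [0, 1, 10, 20, 12, 2, 17, 11, 8, 4, 21, 13, 6, 16, 15, 18, 19, 9, 3, 7, 14, 22, 5, 23],
  [0, 1, 10, 5, 18, 4, 2, 11, 6, 21, 15, 8, 3, 12, 17, 7, 9, 20, 23, 14, 16, 19, 22, 13],
  [0, 1, 10, 19, 12, 17, 2, 5, 7, 14, 23, 13, 16, 6, 3, 18, 20, 9, 15, 8, 4, 22, 11, 21],
  [0, 1, 10, 13, 12, 15, 2, 18, 4, 14, 22, 11, 9, 23, 7, 20, 5, 21, 8, 17, 3, 6, 19, 16],
  [0, 1, 10, 4, 7, 17, 19, 12, 18, 22, 2, 15, 3, 9, 20, 21, 14, 13, 11, 23, 8, 16, 6, 5],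
  [0, 1, 10, 11, 12, 7, 15, 20, 14, 3, 6, 18, 21, 16, 17, 13, 19, 22, 4, 2, 8, 9, 5, 23],
  [0, 1, 10, 22, 16, 15, 17, 20, 18, 7, 3, 23, 14, 8, 6, 12, 9, 19, 21, 13, 2, 5, 11, 4],
  [0, 1, 10, 3, 4, 15, 13, 12, 20, 6, 2, 8, 7, 21, 5, 16, 14, 11, 19, 22, 17, 9, 23, 18],
  [0, 1, 10, 16, 6, 4, 5, 18, 7, 19, 2, 23, 17, 20, 9, 13, 21, 8, 22, 15, 14, 3, 12, 11],
  [0, 1, 10, 17, 11, 2, 21, 23, 12, 19, 7, 9, 22, 5, 6, 8, 15, 16, 13, 14, 20, 4, 3, 18],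
  [0, 1, 10, 21, 23, 2, 7, 18, 11, 15, 14, 16, 4, 3, 22, 12, 6, 5, 9, 20, 17, 19, 13, 8],
  [0, 1, 10, 15, 20, 7, 6, 23, 12, 19, 2, 22, 9, 5, 21, 14, 17, 16, 18, 8, 11, 3, 4, 13],
  [0, 1, 10, 9, 16, 17, 15, 11, 13, 2, 4, 23, 8, 14, 21, 12, 22, 19, 6, 18, 7, 5, 20, 3],
  [0, 1, 10, 12, 3, 21, 22, 7, 14, 9, 4, 13, 2, 5, 20, 8, 15, 6, 19, 17, 16, 23, 18, 11]
]

theorem o22TT_8_eq : o22Snd.map (compT o22T8) = o22TT_8 := by decide +kernel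

theorem o22_c8_0 : l960Tabs.all (fun l => o22Check (compT [0, 1, 10, 7, 18, 2, 14, 8, 23, 6, 20, 5, 19, 13, 4, 11, 22, 3, 16, 17, 21, 15, 9, 12] l)) = true := by
  decide +kernel

theorem o22_c8_1 : l960Tabs.all (fun l => o22Check (compT [0, 1, 10, 18, 12, 17, 7, 13, 3, 8, 9, 20, 22, 23, 2, 11, 5, 6, 14, 15, 4, 21, 19, 16] l)) = true := by
  decide +kernel

theorem o22_c8_2 : l960Tabs.all (fun l => o22Check (compT [0, 1, 10, 2, 18, 15, 22, 16, 12, 5, 17, 21, 6, 19, 9, 4, 7, 23, 11, 3, 13, 14, 8, 20] l)) = true := by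
  decide +kernel

theorem o22_c8_3 : l960Tabs.all (fun l => o22Check (compT [0, 1, 10, 14, 8, 2, 20, 12, 18, 22, 17, 3, 15, 9, 19, 23, 4, 13, 5, 21, 7, 6, 16, 11] l)) = true := by
  decide +kernel

theorem o22_c8_4 : l960Tabs.all (fun l => o22Check (compT [0, 1, 10, 8, 14, 7, 11, 12, 13, 9, 15, 4, 17, 22, 19, 23, 3, 18, 5, 6, 2, 21, 16, 20] l)) = true := by
  decide +kernel

theorem o22_c8_5 : l960Tabs.all (fun l => o22Check (compT [0, 1, 10, 23, 9, 14, 19, 20, 17, 5, 15, 16, 2, 13, 21, 11, 22, 4, 6, 7, 3, 8, 12, 18] l)) = true := by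
  decide +kernel

theorem o22_c8_6 : l960Tabs.all (fun l => o22Check (compT [0, 1, 10, 6, 23, 7, 2, 13, 20, 17, 8, 16, 3, 4, 9, 12, 21, 5, 22, 11, 15, 19, 18, 14] l)) = true := by
  decide +kernel

theorem o22_c8_7 : l960Tabs.all (fun l => o22Check (compT [0, 1, 10, 20, 12, 2, 17, 11, 8, 4, 21, 13, 6, 16, 15, 18, 19, 9, 3, 7, 14, 22, 5, 23] l)) = true := by
  decide +kernel

theorem o22_c8_8 : l960Tabs.all (fun l => o22Check (compT [0, 1, 10, 5, 18, 4, 2, 11, 6, 21, 15, 8, 3, 12, 17, 7, 9, 20, 23, 14, 16, 19, 22, 13] l)) = true := by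
  decide +kernel

theorem o22_c8_9 : l960Tabs.all (fun l => o22Check (compT [0, 1, 10, 19, 12, 17, 2, 5, 7, 14, 23, 13, 16, 6, 3, 18, 20, 9, 15, 8, 4, 22, 11, 21] l)) = true := by
  decide +kernel

theorem o22_c8_10 : l960Tabs.all (fun l => o22Check (compT [0, 1, 10, 13, 12, 15, 2, 18, 4, 14, 22, 11, 9, 23, 7, 20, 5, 21, 8, 17, 3, 6, 19, 16] l)) = true := by
  decide +kernel

theorem o22_c8_11 : l960Tabs.all (fun l => o22Check (compT [0, 1, 10, 4, 7, 17, 19, 12, 18, 22, 2, 15, 3, 9, 20, 21, 14, 13, 11, 23, 8, 16, 6, 5] l)) = true := by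
  decide +kernel

theorem o22_c8_12 : l960Tabs.all (fun l => o22Check (compT [0, 1, 10, 11, 12, 7, 15, 20, 14, 3, 6, 18, 21, 16, 17, 13, 19, 22, 4, 2, 8, 9, 5, 23] l)) = true := by
  decide +kernel

theorem o22_c8_13 : l960Tabs.all (fun l => o22Check (compT [0, 1, 10, 22, 16, 15, 17, 20, 18, 7, 3, 23, 14, 8, 6, 12, 9, 19, 21, 13, 2, 5, 11, 4] l)) = true := by
  decide +kernel

theorem o22_c8_14 : l960Tabs.all (fun l => o22Check (compT [0, 1, 10, 3, 4, 15, 13, 12, 20, 6, 2, 8, 7, 21, 5, 16, 14, 11, 19, 22, 17, 9, 23, 18] l)) = true := by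
  decide +kernel

theorem o22_c8_15 : l960Tabs.all (fun l => o22Check (compT [0, 1, 10, 16, 6, 4, 5, 18, 7, 19, 2, 23, 17, 20, 9, 13, 21, 8, 22, 15, 14, 3, 12, 11] l)) = true := by
  decide +kernel

theorem o22_c8_16 : l960Tabs.all (fun l => o22Check (compT [0, 1, 10, 17, 11, 2, 21, 23, 12, 19, 7, 9, 22, 5, 6, 8, 15, 16, 13, 14, 20, 4, 3, 18] l)) = true := by
  decide +kernel

theorem o22_c8_17 : l960Tabs.all (fun l => o22Check (compT [0, 1, 10, 21, 23, 2, 7, 18, 11, 15, 14, 16, 4, 3, 22, 12, 6, 5, 9, 20, 17, 19, 13, 8] l)) = true := by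
  decide +kernel

theorem o22_c8_18 : l960Tabs.all (fun l => o22Check (compT [0, 1, 10, 15, 20, 7, 6, 23, 12, 19, 2, 22, 9, 5, 21, 14, 17, 16, 18, 8, 11, 3, 4, 13] l)) = true := by
  decide +kernel

theorem o22_c8_19 : l960Tabs.all (fun l => o22Check (compT [0, 1, 10, 9, 16, 17, 15, 11, 13, 2, 4, 23, 8, 14, 21, 12, 22, 19, 6, 18, 7, 5, 20, 3] l)) = true := by
  decide +kernel

theorem o22_c8_20 : l960Tabs.all (fun l => o22Check (compT [0, 1, 10, 12, 3, 21, 22, 7, 14, 9, 4, 13, 2, 5, 20, 8, 15, 6, 19, 17, 16, 23, 18, 11] l)) = true := by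
  decide +kernel

theorem o22_chunk_8 : ∀ tt ∈ o22TT_8, l960Tabs.all (fun l => o22Check (compT tt l)) = true := by
  intro tt ht
  simp only [o22TT_8, List.mem_cons, List.not_mem_nil, or_false] at ht
  rcases ht with rfl | rfl | rfl | rfl | rfl | rfl | rfl | rfl | rfl | rfl | rfl | rfl | rfl | rfl | rfl | rfl | rfl | rfl | rfl | rfl | rfl
  · exact o22_c8_0
  · exact o22_c8_1
  · exact o22_c8_2
  · exact o22_c8_3
  · exact o22_c8_4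
  · exact o22_c8_5
  · exact o22_c8_6
  · exact o22_c8_7
  · exact o22_c8_8
  · exact o22_c8_9
  · exact o22_c8_10
  · exact o22_c8_11
  · exact o22_c8_12
  · exact o22_c8_13
  · exact o22_c8_14
  · exact o22_c8_15
  · exact o22_c8_16
  · exact o22_c8_17
  · exact o22_c8_18
  · exact o22_c8_19
  · exact o22_c8_20

end Cfsg.Agent.Helper7
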