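import Cfsg.Agent.Helper7.M22OutData
import Cfsg.Agent.Helper7.M22OutEnum8

/-!
# The outer automorphism group of `M22` has order 2 (enumeration, part 9)
-/

set_option autoImplicit false

namespace Cfsg.Agent.Helper7

/-- Products of a table of the first level with the tables of the second level. -/
def o22TT_9 : List (List ℕ) := [
  [0, 1, 11, 22, 8, 23, 9, 15, 4, 2, 20, 6, 13, 21, 10, 5, 14, 17, 18, 12, 16, 19, 3, 7],
  [0, 1, 11, 8, 7, 12, 22, 21, 17, 15, 3, 20, 14, 4, 23, 5, 6, 2, 9, 19, 10, 16, 13, 18],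
  [0, 1, 11, 23, 8, 19, 14, 18, 7, 6, 12, 16, 2, 13, 3, 10, 22, 4, 5, 17, 21, 9, 15, 20],
  [0, 1, 11, 9, 15, 23, 20, 7, 8, 14, 12, 17, 19, 3, 13, 4, 10, 21, 6, 16, 22, 2, 18, 5],
  [0, 1, 11, 15, 9, 22, 5, 7, 21, 3, 19, 10, 12, 14, 13, 4, 17, 8, 6, 2, 23, 16, 18, 20],
  [0, 1, 11, 4, 3, 9, 13, 20, 12, 6, 19, 18, 23, 21, 16, 5, 14, 10, 2, 22, 17, 15, 7, 8],
  [0, 1, 11, 2, 4, 22, 23, 21, 20, 12, 15, 18, 17, 10, 3, 7, 16, 6, 14, 5, 19, 13, 8, 9],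
  [0, 1, 11, 20, 7, 23, 12, 5, 15, 10, 16, 21, 2, 18, 19, 8, 13, 3, 17, 22, 9, 14, 6, 4],
  [0, 1, 11, 6, 8, 10, 23, 5, 2, 16, 19, 15, 17, 7, 12, 22, 3, 20, 4, 9, 18, 13, 14, 21],
  [0, 1, 11, 13, 7, 12, 23, 6, 22, 9, 4, 21, 18, 2, 17, 8, 20, 3, 19, 15, 10, 14, 5, 16],
  [0, 1, 11, 21, 7, 19, 23, 8, 10, 9, 14, 5, 3, 4, 22, 20, 6, 16, 15, 12, 17, 2, 13, 18],
  [0, 1, 11, 10, 22, 12, 13, 7, 8, 14, 23, 19, 17, 3, 20, 16, 9, 21, 5, 4, 15, 18, 2, 6],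
  [0, 1, 11, 5, 7, 22, 19, 20, 9, 17, 2, 8, 16, 18, 12, 21, 13, 14, 10, 23, 15, 3, 6, 4],
  [0, 1, 11, 14, 18, 19, 12, 20, 8, 22, 17, 4, 9, 15, 2, 7, 3, 13, 16, 21, 23, 6, 5, 10],
  [0, 1, 11, 17, 10, 19, 21, 7, 20, 2, 23, 15, 22, 16, 6, 18, 9, 5, 13, 14, 12, 3, 4, 8],
  [0, 1, 11, 18, 2, 10, 6, 8, 22, 13, 23, 4, 12, 20, 3, 21, 16, 15, 14, 19, 9, 17, 7, 5],
  [0, 1, 11, 12, 5, 23, 16, 4, 7, 13, 22, 3, 14, 6, 2, 15, 19, 18, 21, 9, 20, 10, 17, 8],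
  [0, 1, 11, 16, 4, 23, 22, 8, 5, 19, 9, 18, 10, 17, 14, 7, 2, 6, 3, 20, 12, 13, 21, 15],
  [0, 1, 11, 19, 20, 22, 2, 4, 7, 13, 23, 14, 3, 6, 16, 9, 12, 18, 8, 15, 5, 17, 10, 21],
  [0, 1, 11, 3, 18, 12, 19, 5, 21, 23, 10, 4, 15, 9, 16, 7, 14, 13, 2, 8, 22, 6, 20, 17],
  [0, 1, 11, 7, 17, 16, 14, 22, 9, 3, 10, 21, 23, 6, 20, 15, 19, 2, 13, 12, 18, 4, 8, 5]
]

theorem o22TT_9_eq : o22Snd.map (compT o22T9) = o22TT_9 := by decide +kernel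

theorem o22_c9_0 : l960Tabs.all (fun l => o22Check (compT [0, 1, 11, 22, 8, 23, 9, 15, 4, 2, 20, 6, 13, 21, 10, 5, 14, 17, 18, 12, 16, 19, 3, 7] l)) = true := by
  decide +kernel

theorem o22_c9_1 : l960Tabs.all (fun l => o22Check (compT [0, 1, 11, 8, 7, 12, 22, 21, 17, 15, 3, 20, 14, 4, 23, 5, 6, 2, 9, 19, 10, 16, 13, 18] l)) = true := by
  decide +kernel

theorem o22_c9_2 : l960Tabs.all (fun l => o22Check (compT [0, 1, 11, 23, 8, 19, 14, 18, 7, 6, 12, 16, 2, 13, 3, 10, 22, 4, 5, 17, 21, 9, 15, 20] l)) = true := by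
  decide +kernel

theorem o22_c9_3 : l960Tabs.all (fun l => o22Check (compT [0, 1, 11, 9, 15, 23, 20, 7, 8, 14, 12, 17, 19, 3, 13, 4, 10, 21, 6, 16, 22, 2, 18, 5] l)) = true := by
  decide +kernel

theorem o22_c9_4 : l960Tabs.all (fun l => o22Check (compT [0, 1, 11, 15, 9, 22, 5, 7, 21, 3, 19, 10, 12, 14, 13, 4, 17, 8, 6, 2, 23, 16, 18, 20] l)) = true := by
  decide +kernel

theorem o22_c9_5 : l960Tabs.all (fun l => o22Check (compT [0, 1, 11, 4, 3, 9, 13, 20, 12, 6, 19, 18, 23, 21, 16, 5, 14, 10, 2, 22, 17, 15, 7, 8] l)) = true := by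
  decide +kernel

theorem o22_c9_6 : l960Tabs.all (fun l => o22Check (compT [0, 1, 11, 2, 4, 22, 23, 21, 20, 12, 15, 18, 17, 10, 3, 7, 16, 6, 14, 5, 19, 13, 8, 9] l)) = true := by
  decide +kernel

theorem o22_c9_7 : l960Tabs.all (fun l => o22Check (compT [0, 1, 11, 20, 7, 23, 12, 5, 15, 10, 16, 21, 2, 18, 19, 8, 13, 3, 17, 22, 9, 14, 6, 4] l)) = true := by
  decide +kernel

theorem o22_c9_8 : l960Tabs.all (fun l => o22Check (compT [0, 1, 11, 6, 8, 10, 23, 5, 2, 16, 19, 15, 17, 7, 12, 22, 3, 20, 4, 9, 18, 13, 14, 21] l)) = true := by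
  decide +kernel

theorem o22_c9_9 : l960Tabs.all (fun l => o22Check (compT [0, 1, 11, 13, 7, 12, 23, 6, 22, 9, 4, 21, 18, 2, 17, 8, 20, 3, 19, 15, 10, 14, 5, 16] l)) = true := by
  decide +kernel

theorem o22_c9_10 : l960Tabs.all (fun l => o22Check (compT [0, 1, 11, 21, 7, 19, 23, 8, 10, 9, 14, 5, 3, 4, 22, 20, 6, 16, 15, 12, 17, 2, 13, 18] l)) = true := by
  decide +kernel

theorem o22_c9_11 : l960Tabs.all (fun l => o22Check (compT [0, 1, 11, 10, 22, 12, 13, 7, 8, 14, 23, 19, 17, 3, 20, 16, 9, 21, 5, 4, 15, 18, 2, 6] l)) = true := by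
  decide +kernel

theorem o22_c9_12 : l960Tabs.all (fun l => o22Check (compT [0, 1, 11, 5, 7, 22, 19, 20, 9, 17, 2, 8, 16, 18, 12, 21, 13, 14, 10, 23, 15, 3, 6, 4] l)) = true := by
  decide +kernel

theorem o22_c9_13 : l960Tabs.all (fun l => o22Check (compT [0, 1, 11, 14, 18, 19, 12, 20, 8, 22, 17, 4, 9, 15, 2, 7, 3, 13, 16, 21, 23, 6, 5, 10] l)) = true := by
  decide +kernel

theorem o22_c9_14 : l960Tabs.all (fun l => o22Check (compT [0, 1, 11, 17, 10, 19, 21, 7, 20, 2, 23, 15, 22, 16, 6, 18, 9, 5, 13, 14, 12, 3, 4, 8] l)) = true := by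
  decide +kernel

theorem o22_c9_15 : l960Tabs.all (fun l => o22Check (compT [0, 1, 11, 18, 2, 10, 6, 8, 22, 13, 23, 4, 12, 20, 3, 21, 16, 15, 14, 19, 9, 17, 7, 5] l)) = true := by
  decide +kernel

theorem o22_c9_16 : l960Tabs.all (fun l => o22Check (compT [0, 1, 11, 12, 5, 23, 16, 4, 7, 13, 22, 3, 14, 6, 2, 15, 19, 18, 21, 9, 20, 10, 17, 8] l)) = true := by
  decide +kernel

theorem o22_c9_17 : l960Tabs.all (fun l => o22Check (compT [0, 1, 11, 16, 4, 23, 22, 8, 5, 19, 9, 18, 10, 17, 14, 7, 2, 6, 3, 20, 12, 13, 21, 15] l)) = true := by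
  decide +kernel

theorem o22_c9_18 : l960Tabs.all (fun l => o22Check (compT [0, 1, 11, 19, 20, 22, 2, 4, 7, 13, 23, 14, 3, 6, 16, 9, 12, 18, 8, 15, 5, 17, 10, 21] l)) = true := by
  decide +kernel

theorem o22_c9_19 : l960Tabs.all (fun l => o22Check (compT [0, 1, 11, 3, 18, 12, 19, 5, 21, 23, 10, 4, 15, 9, 16, 7, 14, 13, 2, 8, 22, 6, 20, 17] l)) = true := by
  decide +kernel

theorem o22_c9_20 : l960Tabs.all (fun l => o22Check (compT [0, 1, 11, 7, 17, 16, 14, 22, 9, 3, 10, 21, 23, 6, 20, 15, 19, 2, 13, 12, 18, 4, 8, 5] l)) = true := by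
  decide +kernel

theorem o22_chunk_9 : ∀ tt ∈ o22TT_9, l960Tabs.all (fun l => o22Check (compT tt l)) = true := by
  intro tt ht
  simp only [o22TT_9, List.mem_cons, List.not_mem_nil, or_false] at ht
  rcases ht with rfl | rfl | rfl | rfl | rfl | rfl | rfl | rfl | rfl | rfl | rfl | rfl | rfl | rfl | rfl | rfl | rfl | rfl | rfl | rfl | rfl
  · exact o22_c9_0
  · exact o22_c9_1
  · exact o22_c9_2
  · exact o22_c9_3
  · exact o22_c9_4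
  · exact o22_c9_5
  · exact o22_c9_6
  · exact o22_c9_7
  · exact o22_c9_8
  · exact o22_c9_9
  · exact o22_c9_10
  · exact o22_c9_11
  · exact o22_c9_12
  · exact o22_c9_13
  · exact o22_c9_14
  · exact o22_c9_15
  · exact o22_c9_16
  · exact o22_c9_17
  · exact o22_c9_18
  · exact o22_c9_19
  · exact o22_c9_20

end Cfsg.Agent.Helper7
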