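import Cfsg.Agent.Helper7.M22OutData
import Cfsg.Agent.Helper7.M22OutEnum9

/-!
# The outer automorphism group of `M22` has order 2 (enumeration, part 10)
-/

set_option autoImplicit false

namespace Cfsg.Agent.Helper7

/-- Products of a table of the first level with the tables of the second level. -/
def o22TT_10 : List (List ℕ) := [
  [0, 1, 12, 3, 15, 2, 8, 22, 14, 5, 21, 20, 23, 11, 10, 18, 19, 4, 13, 6, 17, 16, 9, 7],
  [0, 1, 12, 15, 7, 6, 3, 11, 4, 22, 9, 21, 19, 14, 2, 18, 20, 5, 8, 16, 10, 17, 23, 13],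
  [0, 1, 12, 2, 15, 16, 19, 13, 7, 20, 6, 17, 5, 23, 9, 10, 3, 14, 18, 4, 11, 8, 22, 21],
  [0, 1, 12, 8, 22, 2, 21, 7, 15, 19, 6, 4, 16, 9, 23, 14, 10, 11, 20, 17, 3, 5, 13, 18],
  [0, 1, 12, 22, 8, 3, 18, 7, 11, 9, 16, 10, 6, 19, 23, 14, 4, 15, 20, 5, 2, 17, 13, 21],
  [0, 1, 12, 14, 9, 8, 23, 21, 6, 20, 16, 13, 2, 11, 17, 18, 19, 10, 5, 3, 4, 22, 7, 15],
  [0, 1, 12, 5, 14, 3, 2, 11, 21, 6, 22, 13, 4, 10, 9, 7, 17, 20, 19, 18, 16, 23, 15, 8],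
  [0, 1, 12, 21, 7, 2, 6, 18, 22, 10, 17, 11, 5, 13, 16, 15, 23, 9, 4, 3, 8, 19, 20, 14],
  [0, 1, 12, 20, 15, 10, 2, 18, 5, 17, 16, 22, 4, 7, 6, 3, 9, 21, 14, 8, 13, 23, 19, 11],
  [0, 1, 12, 23, 7, 6, 2, 20, 3, 8, 14, 11, 13, 5, 4, 15, 21, 9, 16, 22, 10, 19, 18, 17],
  [0, 1, 12, 11, 7, 16, 2, 15, 10, 8, 19, 18, 9, 14, 3, 21, 20, 17, 22, 6, 4, 5, 23, 13],
  [0, 1, 12, 10, 3, 6, 23, 7, 15, 19, 2, 16, 4, 9, 21, 17, 8, 11, 18, 14, 22, 13, 5, 20],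
  [0, 1, 12, 18, 7, 3, 16, 21, 8, 4, 5, 15, 17, 13, 6, 11, 23, 19, 10, 2, 22, 9, 20, 14],
  [0, 1, 12, 19, 13, 16, 6, 21, 15, 3, 4, 14, 8, 22, 5, 7, 9, 23, 17, 11, 2, 20, 18, 10],
  [0, 1, 12, 4, 10, 16, 11, 7, 21, 5, 2, 22, 3, 17, 20, 13, 8, 18, 23, 19, 6, 9, 14, 15],
  [0, 1, 12, 13, 5, 10, 20, 15, 3, 23, 2, 14, 6, 21, 9, 11, 17, 22, 19, 16, 8, 4, 7, 18],
  [0, 1, 12, 6, 18, 2, 17, 14, 7, 23, 3, 9, 19, 20, 5, 22, 16, 13, 11, 8, 21, 10, 4, 15],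
  [0, 1, 12, 17, 14, 2, 3, 15, 18, 16, 8, 13, 10, 4, 19, 7, 5, 20, 9, 21, 6, 23, 11, 22],
  [0, 1, 12, 16, 21, 3, 5, 14, 7, 23, 2, 19, 9, 20, 17, 8, 6, 13, 15, 22, 18, 4, 10, 11],
  [0, 1, 12, 9, 13, 6, 16, 18, 11, 2, 10, 14, 22, 8, 17, 7, 19, 23, 5, 15, 3, 20, 21, 4],
  [0, 1, 12, 7, 4, 17, 19, 3, 8, 9, 10, 11, 2, 20, 21, 22, 16, 5, 23, 6, 13, 14, 15, 18]
]

theorem o22TT_10_eq : o22Snd.map (compT o22T10) = o22TT_10 := by decide +kernel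

theorem o22_c10_0 : l960Tabs.all (fun l => o22Check (compT [0, 1, 12, 3, 15, 2, 8, 22, 14, 5, 21, 20, 23, 11, 10, 18, 19, 4, 13, 6, 17, 16, 9, 7] l)) = true := by
  decide +kernel

theorem o22_c10_1 : l960Tabs.all (fun l => o22Check (compT [0, 1, 12, 15, 7, 6, 3, 11, 4, 22, 9, 21, 19, 14, 2, 18, 20, 5, 8, 16, 10, 17, 23, 13] l)) = true := by
  decide +kernel

theorem o22_c10_2 : l960Tabs.all (fun l => o22Check (compT [0, 1, 12, 2, 15, 16, 19, 13, 7, 20, 6, 17, 5, 23, 9, 10, 3, 14, 18, 4, 11, 8, 22, 21] l)) = true := by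
  decide +kernel

theorem o22_c10_3 : l960Tabs.all (fun l => o22Check (compT [0, 1, 12, 8, 22, 2, 21, 7, 15, 19, 6, 4, 16, 9, 23, 14, 10, 11, 20, 17, 3, 5, 13, 18] l)) = true := by
  decide +kernel

theorem o22_c10_4 : l960Tabs.all (fun l => o22Check (compT [0, 1, 12, 22, 8, 3, 18, 7, 11, 9, 16, 10, 6, 19, 23, 14, 4, 15, 20, 5, 2, 17, 13, 21] l)) = true := by
  decide +kernel

theorem o22_c10_5 : l960Tabs.all (fun l => o22Check (compT [0, 1, 12, 14, 9, 8, 23, 21, 6, 20, 16, 13, 2, 11, 17, 18, 19, 10, 5, 3, 4, 22, 7, 15] l)) = true := by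
  decide +kernel

theorem o22_c10_6 : l960Tabs.all (fun l => o22Check (compT [0, 1, 12, 5, 14, 3, 2, 11, 21, 6, 22, 13, 4, 10, 9, 7, 17, 20, 19, 18, 16, 23, 15, 8] l)) = true := by
  decide +kernel

theorem o22_c10_7 : l960Tabs.all (fun l => o22Check (compT [0, 1, 12, 21, 7, 2, 6, 18, 22, 10, 17, 11, 5, 13, 16, 15, 23, 9, 4, 3, 8, 19, 20, 14] l)) = true := by
  decide +kernel

theorem o22_c10_8 : l960Tabs.all (fun l => o22Check (compT [0, 1, 12, 20, 15, 10, 2, 18, 5, 17, 16, 22, 4, 7, 6, 3, 9, 21, 14, 8, 13, 23, 19, 11] l)) = true := by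
  decide +kernel

theorem o22_c10_9 : l960Tabs.all (fun l => o22Check (compT [0, 1, 12, 23, 7, 6, 2, 20, 3, 8, 14, 11, 13, 5, 4, 15, 21, 9, 16, 22, 10, 19, 18, 17] l)) = true := by
  decide +kernel

theorem o22_c10_10 : l960Tabs.all (fun l => o22Check (compT [0, 1, 12, 11, 7, 16, 2, 15, 10, 8, 19, 18, 9, 14, 3, 21, 20, 17, 22, 6, 4, 5, 23, 13] l)) = true := by
  decide +kernel

theorem o22_c10_11 : l960Tabs.all (fun l => o22Check (compT [0, 1, 12, 10, 3, 6, 23, 7, 15, 19, 2, 16, 4, 9, 21, 17, 8, 11, 18, 14, 22, 13, 5, 20] l)) = true := by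
  decide +kernel

theorem o22_c10_12 : l960Tabs.all (fun l => o22Check (compT [0, 1, 12, 18, 7, 3, 16, 21, 8, 4, 5, 15, 17, 13, 6, 11, 23, 19, 10, 2, 22, 9, 20, 14] l)) = true := by
  decide +kernel

theorem o22_c10_13 : l960Tabs.all (fun l => o22Check (compT [0, 1, 12, 19, 13, 16, 6, 21, 15, 3, 4, 14, 8, 22, 5, 7, 9, 23, 17, 11, 2, 20, 18, 10] l)) = true := by
  decide +kernel

theorem o22_c10_14 : l960Tabs.all (fun l => o22Check (compT [0, 1, 12, 4, 10, 16, 11, 7, 21, 5, 2, 22, 3, 17, 20, 13, 8, 18, 23, 19, 6, 9, 14, 15] l)) = true := by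
  decide +kernel

theorem o22_c10_15 : l960Tabs.all (fun l => o22Check (compT [0, 1, 12, 13, 5, 10, 20, 15, 3, 23, 2, 14, 6, 21, 9, 11, 17, 22, 19, 16, 8, 4, 7, 18] l)) = true := by
  decide +kernel

theorem o22_c10_16 : l960Tabs.all (fun l => o22Check (compT [0, 1, 12, 6, 18, 2, 17, 14, 7, 23, 3, 9, 19, 20, 5, 22, 16, 13, 11, 8, 21, 10, 4, 15] l)) = true := by
  decide +kernel

theorem o22_c10_17 : l960Tabs.all (fun l => o22Check (compT [0, 1, 12, 17, 14, 2, 3, 15, 18, 16, 8, 13, 10, 4, 19, 7, 5, 20, 9, 21, 6, 23, 11, 22] l)) = true := by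
  decide +kernel

theorem o22_c10_18 : l960Tabs.all (fun l => o22Check (compT [0, 1, 12, 16, 21, 3, 5, 14, 7, 23, 2, 19, 9, 20, 17, 8, 6, 13, 15, 22, 18, 4, 10, 11] l)) = true := by
  decide +kernel

theorem o22_c10_19 : l960Tabs.all (fun l => o22Check (compT [0, 1, 12, 9, 13, 6, 16, 18, 11, 2, 10, 14, 22, 8, 17, 7, 19, 23, 5, 15, 3, 20, 21, 4] l)) = true := by
  decide +kernel

theorem o22_c10_20 : l960Tabs.all (fun l => o22Check (compT [0, 1, 12, 7, 4, 17, 19, 3, 8, 9, 10, 11, 2, 20, 21, 22, 16, 5, 23, 6, 13, 14, 15, 18] l)) = true := by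
  decide +kernel

theorem o22_chunk_10 : ∀ tt ∈ o22TT_10, l960Tabs.all (fun l => o22Check (compT tt l)) = true := by
  intro tt ht
  simp only [o22TT_10, List.mem_cons, List.not_mem_nil, or_false] at ht
  rcases ht with rfl | rfl | rfl | rfl | rfl | rfl | rfl | rfl | rfl | rfl | rfl | rfl | rfl | rfl | rfl | rfl | rfl | rfl | rfl | rfl | rfl
  · exact o22_c10_0
  · exact o22_c10_1
  · exact o22_c10_2
  · exact o22_c10_3
  · exact o22_c10_4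
  · exact o22_c10_5
  · exact o22_c10_6
  · exact o22_c10_7
  · exact o22_c10_8
  · exact o22_c10_9
  · exact o22_c10_10
  · exact o22_c10_11
  · exact o22_c10_12
  · exact o22_c10_13
  · exact o22_c10_14
  · exact o22_c10_15
  · exact o22_c10_16
  · exact o22_c10_17
  · exact o22_c10_18
  · exact o22_c10_19
  · exact o22_c10_20

end Cfsg.Agent.Helper7
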