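import Cfsg.Agent.Helper7.M22OutData

/-!
# The outer automorphism group of `M22` has order 2 (enumeration, part 11)
-/

set_option autoImplicit false

namespace Cfsg.Agent.Helper7

/-- Products of a table of the first level with the tables of the second level. -/
def o22TT_11 : List (List ℕ) := [
  [0, 1, 13, 16, 11, 15, 14, 17, 2, 8, 12, 18, 3, 9, 10, 4, 23, 7, 20, 22, 19, 6, 5, 21],
  [0, 1, 13, 11, 21, 22, 16, 9, 7, 17, 5, 12, 23, 2, 15, 4, 18, 8, 14, 6, 10, 19, 3, 20],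
  [0, 1, 13, 15, 11, 6, 23, 20, 21, 18, 22, 19, 8, 3, 5, 10, 16, 2, 4, 7, 9, 14, 17, 12],
  [0, 1, 13, 14, 17, 15, 12, 21, 11, 23, 22, 7, 6, 5, 3, 2, 10, 9, 18, 19, 16, 8, 20, 4],
  [0, 1, 13, 17, 14, 16, 4, 21, 9, 5, 6, 10, 22, 23, 3, 2, 7, 11, 18, 8, 15, 19, 20, 12],
  [0, 1, 13, 2, 5, 14, 3, 12, 22, 18, 6, 20, 15, 9, 19, 4, 23, 10, 8, 16, 7, 17, 21, 11],
  [0, 1, 13, 8, 2, 16, 15, 9, 12, 22, 17, 20, 7, 10, 5, 21, 19, 18, 23, 4, 6, 3, 11, 14],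
  [0, 1, 13, 12, 21, 15, 22, 4, 17, 10, 19, 9, 8, 20, 6, 11, 3, 5, 7, 16, 14, 23, 18, 2],
  [0, 1, 13, 18, 11, 10, 15, 4, 8, 19, 6, 17, 7, 21, 22, 16, 5, 12, 2, 14, 20, 3, 23, 9],
  [0, 1, 13, 3, 21, 22, 15, 18, 16, 14, 2, 9, 20, 8, 7, 11, 12, 5, 6, 17, 10, 23, 4, 19],
  [0, 1, 13, 9, 21, 6, 15, 11, 10, 14, 23, 4, 5, 2, 16, 12, 18, 19, 17, 22, 7, 8, 3, 20],
  [0, 1, 13, 10, 16, 22, 3, 21, 11, 23, 15, 6, 7, 5, 12, 19, 14, 9, 4, 2, 17, 20, 8, 18],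
  [0, 1, 13, 4, 21, 16, 6, 12, 14, 7, 8, 11, 19, 20, 22, 9, 3, 23, 10, 15, 17, 5, 18, 2],
  [0, 1, 13, 23, 20, 6, 22, 12, 11, 16, 7, 2, 14, 17, 8, 21, 5, 3, 19, 9, 15, 18, 4, 10],
  [0, 1, 13, 7, 10, 6, 9, 21, 12, 8, 15, 17, 16, 19, 18, 20, 14, 4, 3, 23, 22, 5, 2, 11],
  [0, 1, 13, 20, 8, 10, 18, 11, 16, 3, 15, 2, 22, 12, 5, 9, 19, 17, 23, 6, 14, 7, 21, 4],
  [0, 1, 13, 22, 4, 15, 19, 2, 21, 3, 16, 5, 23, 18, 8, 17, 6, 20, 9, 14, 12, 10, 7, 11],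
  [0, 1, 13, 19, 2, 15, 16, 11, 4, 6, 14, 20, 10, 7, 23, 21, 8, 18, 5, 12, 22, 3, 9, 17],
  [0, 1, 13, 6, 12, 16, 8, 2, 21, 3, 15, 23, 5, 18, 19, 14, 22, 20, 11, 17, 4, 7, 10, 9],
  [0, 1, 13, 5, 20, 22, 6, 4, 9, 15, 10, 2, 17, 14, 19, 21, 23, 3, 8, 11, 16, 18, 12, 7],
  [0, 1, 13, 21, 7, 19, 23, 16, 14, 5, 10, 9, 15, 18, 12, 17, 6, 8, 3, 22, 20, 2, 11, 4]
]

theorem o22TT_11_eq : o22Snd.map (compT o22T11) = o22TT_11 := by decide +kernel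

theorem o22_c11_0 : l960Tabs.all (fun l => o22Check (compT [0, 1, 13, 16, 11, 15, 14, 17, 2, 8, 12, 18, 3, 9, 10, 4, 23, 7, 20, 22, 19, 6, 5, 21] l)) = true := by
  decide +kernel

theorem o22_c11_1 : l960Tabs.all (fun l => o22Check (compT [0, 1, 13, 11, 21, 22, 16, 9, 7, 17, 5, 12, 23, 2, 15, 4, 18, 8, 14, 6, 10, 19, 3, 20] l)) = true := by
  decide +kernel

theorem o22_c11_2 : l960Tabs.all (fun l => o22Check (compT [0, 1, 13, 15, 11, 6, 23, 20, 21, 18, 22, 19, 8, 3, 5, 10, 16, 2, 4, 7, 9, 14, 17, 12] l)) = true := by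
  decide +kernel

theorem o22_c11_3 : l960Tabs.all (fun l => o22Check (compT [0, 1, 13, 14, 17, 15, 12, 21, 11, 23, 22, 7, 6, 5, 3, 2, 10, 9, 18, 19, 16, 8, 20, 4] l)) = true := by
  decide +kernel

theorem o22_c11_4 : l960Tabs.all (fun l => o22Check (compT [0, 1, 13, 17, 14, 16, 4, 21, 9, 5, 6, 10, 22, 23, 3, 2, 7, 11, 18, 8, 15, 19, 20, 12] l)) = true := by
  decide +kernel

theorem o22_c11_5 : l960Tabs.all (fun l => o22Check (compT [0, 1, 13, 2, 5, 14, 3, 12, 22, 18, 6, 20, 15, 9, 19, 4, 23, 10, 8, 16, 7, 17, 21, 11] l)) = true := by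
  decide +kernel

theorem o22_c11_6 : l960Tabs.all (fun l => o22Check (compT [0, 1, 13, 8, 2, 16, 15, 9, 12, 22, 17, 20, 7, 10, 5, 21, 19, 18, 23, 4, 6, 3, 11, 14] l)) = true := by
  decide +kernel

theorem o22_c11_7 : l960Tabs.all (fun l => o22Check (compT [0, 1, 13, 12, 21, 15, 22, 4, 17, 10, 19, 9, 8, 20, 6, 11, 3, 5, 7, 16, 14, 23, 18, 2] l)) = true := by
  decide +kernel

theorem o22_c11_8 : l960Tabs.all (fun l => o22Check (compT [0, 1, 13, 18, 11, 10, 15, 4, 8, 19, 6, 17, 7, 21, 22, 16, 5, 12, 2, 14, 20, 3, 23, 9] l)) = true := by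
  decide +kernel

theorem o22_c11_9 : l960Tabs.all (fun l => o22Check (compT [0, 1, 13, 3, 21, 22, 15, 18, 16, 14, 2, 9, 20, 8, 7, 11, 12, 5, 6, 17, 10, 23, 4, 19] l)) = true := by
  decide +kernel

theorem o22_c11_10 : l960Tabs.all (fun l => o22Check (compT [0, 1, 13, 9, 21, 6, 15, 11, 10, 14, 23, 4, 5, 2, 16, 12, 18, 19, 17, 22, 7, 8, 3, 20] l)) = true := by
  decide +kernel

theorem o22_c11_11 : l960Tabs.all (fun l => o22Check (compT [0, 1, 13, 10, 16, 22, 3, 21, 11, 23, 15, 6, 7, 5, 12, 19, 14, 9, 4, 2, 17, 20, 8, 18] l)) = true := by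
  decide +kernel

theorem o22_c11_12 : l960Tabs.all (fun l => o22Check (compT [0, 1, 13, 4, 21, 16, 6, 12, 14, 7, 8, 11, 19, 20, 22, 9, 3, 23, 10, 15, 17, 5, 18, 2] l)) = true := by
  decide +kernel

theorem o22_c11_13 : l960Tabs.all (fun l => o22Check (compT [0, 1, 13, 23, 20, 6, 22, 12, 11, 16, 7, 2, 14, 17, 8, 21, 5, 3, 19, 9, 15, 18, 4, 10] l)) = true := by
  decide +kernel

theorem o22_c11_14 : l960Tabs.all (fun l => o22Check (compT [0, 1, 13, 7, 10, 6, 9, 21, 12, 8, 15, 17, 16, 19, 18, 20, 14, 4, 3, 23, 22, 5, 2, 11] l)) = true := by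
  decide +kernel

theorem o22_c11_15 : l960Tabs.all (fun l => o22Check (compT [0, 1, 13, 20, 8, 10, 18, 11, 16, 3, 15, 2, 22, 12, 5, 9, 19, 17, 23, 6, 14, 7, 21, 4] l)) = true := by
  decide +kernel

theorem o22_c11_16 : l960Tabs.all (fun l => o22Check (compT [0, 1, 13, 22, 4, 15, 19, 2, 21, 3, 16, 5, 23, 18, 8, 17, 6, 20, 9, 14, 12, 10, 7, 11] l)) = true := by
  decide +kernel

theorem o22_c11_17 : l960Tabs.all (fun l => o22Check (compT [0, 1, 13, 19, 2, 15, 16, 11, 4, 6, 14, 20, 10, 7, 23, 21, 8, 18, 5, 12, 22, 3, 9, 17] l)) = true := by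
  decide +kernel

theorem o22_c11_18 : l960Tabs.all (fun l => o22Check (compT [0, 1, 13, 6, 12, 16, 8, 2, 21, 3, 15, 23, 5, 18, 19, 14, 22, 20, 11, 17, 4, 7, 10, 9] l)) = true := by
  decide +kernel

theorem o22_c11_19 : l960Tabs.all (fun l => o22Check (compT [0, 1, 13, 5, 20, 22, 6, 4, 9, 15, 10, 2, 17, 14, 19, 21, 23, 3, 8, 11, 16, 18, 12, 7] l)) = true := by
  decide +kernel

theorem o22_c11_20 : l960Tabs.all (fun l => o22Check (compT [0, 1, 13, 21, 7, 19, 23, 16, 14, 5, 10, 9, 15, 18, 12, 17, 6, 8, 3, 22, 20, 2, 11, 4] l)) = true := by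
  decide +kernel

theorem o22_chunk_11 : ∀ tt ∈ o22TT_11, l960Tabs.all (fun l => o22Check (compT tt l)) = true := by
  intro tt ht
  simp only [o22TT_11, List.mem_cons, List.not_mem_nil, or_false] at ht
  rcases ht with rfl | rfl | rfl | rfl | rfl | rfl | rfl | rfl | rfl | rfl | rfl | rfl | rfl | rfl | rfl | rfl | rfl | rfl | rfl | rfl | rfl
  · exact o22_c11_0
  · exact o22_c11_1
  · exact o22_c11_2
  · exact o22_c11_3
  · exact o22_c11_4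
  · exact o22_c11_5
  · exact o22_c11_6
  · exact o22_c11_7
  · exact o22_c11_8
  · exact o22_c11_9
  · exact o22_c11_10
  · exact o22_c11_11
  · exact o22_c11_12
  · exact o22_c11_13
  · exact o22_c11_14
  · exact o22_c11_15
  · exact o22_c11_16
  · exact o22_c11_17
  · exact o22_c11_18
  · exact o22_c11_19
  · exact o22_c11_20

end Cfsg.Agent.Helper7
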