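import Cfsg.Agent.Helper7.M22OutData
import Cfsg.Agent.Helper7.M22OutEnum11

/-!
# The outer automorphism group of `M22` has order 2 (enumeration, part 12)
-/

set_option autoImplicit false

namespace Cfsg.Agent.Helper7

/-- Products of a table of the first level with the tables of the second level. -/
def o22TT_12 : List (List ℕ) := [
  [0, 1, 14, 23, 18, 9, 16, 4, 5, 11, 10, 15, 21, 12, 8, 2, 3, 22, 20, 17, 13, 7, 6, 19],
  [0, 1, 14, 18, 19, 17, 23, 12, 22, 4, 6, 10, 3, 5, 9, 2, 15, 11, 16, 7, 8, 13, 21, 20],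
  [0, 1, 14, 9, 18, 7, 3, 20, 19, 15, 17, 13, 11, 21, 6, 8, 23, 5, 2, 22, 12, 16, 4, 10],
  [0, 1, 14, 16, 4, 9, 10, 19, 18, 3, 17, 22, 7, 6, 21, 5, 8, 12, 15, 13, 23, 11, 20, 2],
  [0, 1, 14, 4, 16, 23, 2, 19, 12, 6, 7, 8, 17, 3, 21, 5, 22, 18, 15, 11, 9, 13, 20, 10],
  [0, 1, 14, 5, 6, 16, 21, 10, 17, 15, 7, 20, 9, 12, 13, 2, 3, 8, 11, 23, 22, 4, 19, 18],
  [0, 1, 14, 11, 5, 23, 9, 12, 10, 17, 4, 20, 22, 8, 6, 19, 13, 15, 3, 2, 7, 21, 18, 16],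
  [0, 1, 14, 10, 19, 9, 17, 2, 4, 8, 13, 12, 11, 20, 7, 18, 21, 6, 22, 23, 16, 3, 15, 5],
  [0, 1, 14, 15, 18, 8, 9, 2, 11, 13, 7, 4, 22, 19, 17, 23, 6, 10, 5, 16, 20, 21, 3, 12],
  [0, 1, 14, 21, 19, 17, 9, 15, 23, 16, 5, 12, 20, 11, 22, 18, 10, 6, 7, 4, 8, 3, 2, 13],
  [0, 1, 14, 12, 19, 7, 9, 18, 8, 16, 3, 2, 6, 5, 23, 10, 15, 13, 4, 17, 22, 11, 21, 20],
  [0, 1, 14, 8, 23, 17, 21, 19, 18, 3, 9, 7, 22, 6, 10, 13, 16, 12, 2, 5, 4, 20, 11, 15],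
  [0, 1, 14, 2, 19, 23, 7, 10, 16, 22, 11, 18, 13, 20, 17, 12, 21, 3, 8, 9, 4, 6, 15, 5],
  [0, 1, 14, 3, 20, 7, 17, 10, 18, 23, 22, 5, 16, 4, 11, 19, 6, 21, 13, 12, 9, 15, 2, 8],
  [0, 1, 14, 22, 8, 7, 12, 19, 10, 11, 9, 4, 23, 13, 15, 20, 16, 2, 21, 3, 17, 6, 5, 18],
  [0, 1, 14, 20, 11, 8, 15, 18, 23, 21, 9, 5, 17, 10, 6, 12, 13, 4, 3, 7, 16, 22, 19, 2],
  [0, 1, 14, 17, 2, 9, 13, 5, 19, 21, 23, 6, 3, 15, 11, 4, 7, 20, 12, 16, 10, 8, 22, 18],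
  [0, 1, 14, 13, 5, 9, 23, 18, 2, 7, 16, 20, 8, 22, 3, 19, 11, 15, 6, 10, 17, 21, 12, 4],
  [0, 1, 14, 7, 10, 23, 11, 5, 19, 21, 9, 3, 6, 15, 13, 16, 17, 20, 18, 4, 2, 22, 8, 12],
  [0, 1, 14, 6, 20, 17, 7, 2, 12, 9, 8, 5, 4, 16, 13, 19, 3, 21, 11, 18, 23, 15, 10, 22],
  [0, 1, 14, 19, 22, 13, 3, 23, 16, 6, 8, 12, 9, 15, 10, 4, 7, 11, 21, 17, 20, 5, 18, 2]
]

theorem o22TT_12_eq : o22Snd.map (compT o22T12) = o22TT_12 := by decide +kernel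

theorem o22_c12_0 : l960Tabs.all (fun l => o22Check (compT [0, 1, 14, 23, 18, 9, 16, 4, 5, 11, 10, 15, 21, 12, 8, 2, 3, 22, 20, 17, 13, 7, 6, 19] l)) = true := by
  decide +kernel

theorem o22_c12_1 : l960Tabs.all (fun l => o22Check (compT [0, 1, 14, 18, 19, 17, 23, 12, 22, 4, 6, 10, 3, 5, 9, 2, 15, 11, 16, 7, 8, 13, 21, 20] l)) = true := by
  decide +kernel

theorem o22_c12_2 : l960Tabs.all (fun l => o22Check (compT [0, 1, 14, 9, 18, 7, 3, 20, 19, 15, 17, 13, 11, 21, 6, 8, 23, 5, 2, 22, 12, 16, 4, 10] l)) = true := by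
  decide +kernel

theorem o22_c12_3 : l960Tabs.all (fun l => o22Check (compT [0, 1, 14, 16, 4, 9, 10, 19, 18, 3, 17, 22, 7, 6, 21, 5, 8, 12, 15, 13, 23, 11, 20, 2] l)) = true := by
  decide +kernel

theorem o22_c12_4 : l960Tabs.all (fun l => o22Check (compT [0, 1, 14, 4, 16, 23, 2, 19, 12, 6, 7, 8, 17, 3, 21, 5, 22, 18, 15, 11, 9, 13, 20, 10] l)) = true := by
  decide +kernel

theorem o22_c12_5 : l960Tabs.all (fun l => o22Check (compT [0, 1, 14, 5, 6, 16, 21, 10, 17, 15, 7, 20, 9, 12, 13, 2, 3, 8, 11, 23, 22, 4, 19, 18] l)) = true := by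
  decide +kernel

theorem o22_c12_6 : l960Tabs.all (fun l => o22Check (compT [0, 1, 14, 11, 5, 23, 9, 12, 10, 17, 4, 20, 22, 8, 6, 19, 13, 15, 3, 2, 7, 21, 18, 16] l)) = true := by
  decide +kernel

theorem o22_c12_7 : l960Tabs.all (fun l => o22Check (compT [0, 1, 14, 10, 19, 9, 17, 2, 4, 8, 13, 12, 11, 20, 7, 18, 21, 6, 22, 23, 16, 3, 15, 5] l)) = true := by
  decide +kernel

theorem o22_c12_8 : l960Tabs.all (fun l => o22Check (compT [0, 1, 14, 15, 18, 8, 9, 2, 11, 13, 7, 4, 22, 19, 17, 23, 6, 10, 5, 16, 20, 21, 3, 12] l)) = true := by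
  decide +kernel

theorem o22_c12_9 : l960Tabs.all (fun l => o22Check (compT [0, 1, 14, 21, 19, 17, 9, 15, 23, 16, 5, 12, 20, 11, 22, 18, 10, 6, 7, 4, 8, 3, 2, 13] l)) = true := by
  decide +kernel

theorem o22_c12_10 : l960Tabs.all (fun l => o22Check (compT [0, 1, 14, 12, 19, 7, 9, 18, 8, 16, 3, 2, 6, 5, 23, 10, 15, 13, 4, 17, 22, 11, 21, 20] l)) = true := by
  decide +kernel

theorem o22_c12_11 : l960Tabs.all (fun l => o22Check (compT [0, 1, 14, 8, 23, 17, 21, 19, 18, 3, 9, 7, 22, 6, 10, 13, 16, 12, 2, 5, 4, 20, 11, 15] l)) = true := by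
  decide +kernel

theorem o22_c12_12 : l960Tabs.all (fun l => o22Check (compT [0, 1, 14, 2, 19, 23, 7, 10, 16, 22, 11, 18, 13, 20, 17, 12, 21, 3, 8, 9, 4, 6, 15, 5] l)) = true := by
  decide +kernel

theorem o22_c12_13 : l960Tabs.all (fun l => o22Check (compT [0, 1, 14, 3, 20, 7, 17, 10, 18, 23, 22, 5, 16, 4, 11, 19, 6, 21, 13, 12, 9, 15, 2, 8] l)) = true := by
  decide +kernel

theorem o22_c12_14 : l960Tabs.all (fun l => o22Check (compT [0, 1, 14, 22, 8, 7, 12, 19, 10, 11, 9, 4, 23, 13, 15, 20, 16, 2, 21, 3, 17, 6, 5, 18] l)) = true := by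
  decide +kernel

theorem o22_c12_15 : l960Tabs.all (fun l => o22Check (compT [0, 1, 14, 20, 11, 8, 15, 18, 23, 21, 9, 5, 17, 10, 6, 12, 13, 4, 3, 7, 16, 22, 19, 2] l)) = true := by
  decide +kernel

theorem o22_c12_16 : l960Tabs.all (fun l => o22Check (compT [0, 1, 14, 17, 2, 9, 13, 5, 19, 21, 23, 6, 3, 15, 11, 4, 7, 20, 12, 16, 10, 8, 22, 18] l)) = true := by
  decide +kernel

theorem o22_c12_17 : l960Tabs.all (fun l => o22Check (compT [0, 1, 14, 13, 5, 9, 23, 18, 2, 7, 16, 20, 8, 22, 3, 19, 11, 15, 6, 10, 17, 21, 12, 4] l)) = true := by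
  decide +kernel

theorem o22_c12_18 : l960Tabs.all (fun l => o22Check (compT [0, 1, 14, 7, 10, 23, 11, 5, 19, 21, 9, 3, 6, 15, 13, 16, 17, 20, 18, 4, 2, 22, 8, 12] l)) = true := by
  decide +kernel

theorem o22_c12_19 : l960Tabs.all (fun l => o22Check (compT [0, 1, 14, 6, 20, 17, 7, 2, 12, 9, 8, 5, 4, 16, 13, 19, 3, 21, 11, 18, 23, 15, 10, 22] l)) = true := by
  decide +kernel

theorem o22_c12_20 : l960Tabs.all (fun l => o22Check (compT [0, 1, 14, 19, 22, 13, 3, 23, 16, 6, 8, 12, 9, 15, 10, 4, 7, 11, 21, 17, 20, 5, 18, 2] l)) = true := by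
  decide +kernel

theorem o22_chunk_12 : ∀ tt ∈ o22TT_12, l960Tabs.all (fun l => o22Check (compT tt l)) = true := by
  intro tt ht
  simp only [o22TT_12, List.mem_cons, List.not_mem_nil, or_false] at ht
  rcases ht with rfl | rfl | rfl | rfl | rfl | rfl | rfl | rfl | rfl | rfl | rfl | rfl | rfl | rfl | rfl | rfl | rfl | rfl | rfl | rfl | rfl
  · exact o22_c12_0
  · exact o22_c12_1
  · exact o22_c12_2
  · exact o22_c12_3
  · exact o22_c12_4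
  · exact o22_c12_5
  · exact o22_c12_6
  · exact o22_c12_7
  · exact o22_c12_8
  · exact o22_c12_9
  · exact o22_c12_10
  · exact o22_c12_11
  · exact o22_c12_12
  · exact o22_c12_13
  · exact o22_c12_14
  · exact o22_c12_15
  · exact o22_c12_16
  · exact o22_c12_17
  · exact o22_c12_18
  · exact o22_c12_19
  · exact o22_c12_20

end Cfsg.Agent.Helper7
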