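import Cfsg.Agent.Helper7.M22OutData
import Cfsg.Agent.Helper7.M22OutEnum12

/-!
# The outer automorphism group of `M22` has order 2 (enumeration, part 13)
-/

set_option autoImplicit false

namespace Cfsg.Agent.Helper7

/-- Products of a table of the first level with the tables of the second level. -/
def o22TT_13 : List (List ℕ) := [
  [0, 1, 15, 16, 7, 8, 22, 21, 14, 5, 10, 9, 13, 20, 2, 11, 6, 19, 4, 23, 18, 12, 17, 3],
  [0, 1, 15, 7, 3, 23, 16, 20, 19, 21, 17, 10, 6, 14, 8, 11, 9, 5, 22, 12, 2, 18, 13, 4],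
  [0, 1, 15, 8, 7, 12, 6, 4, 3, 9, 23, 18, 5, 13, 17, 2, 16, 14, 11, 19, 20, 22, 21, 10],
  [0, 1, 15, 22, 21, 8, 10, 3, 7, 6, 23, 19, 12, 17, 13, 14, 2, 20, 9, 18, 16, 5, 4, 11],
  [0, 1, 15, 21, 22, 16, 11, 3, 20, 17, 12, 2, 23, 6, 13, 14, 19, 7, 9, 5, 8, 18, 4, 10],
  [0, 1, 15, 14, 17, 22, 13, 10, 23, 9, 12, 4, 8, 20, 18, 11, 6, 2, 5, 16, 19, 21, 3, 7],
  [0, 1, 15, 5, 14, 16, 8, 20, 10, 23, 21, 4, 19, 2, 17, 3, 18, 9, 6, 11, 12, 13, 7, 22],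
  [0, 1, 15, 10, 3, 8, 23, 11, 21, 2, 18, 20, 5, 4, 12, 7, 13, 17, 19, 16, 22, 6, 9, 14],
  [0, 1, 15, 9, 7, 2, 8, 11, 5, 18, 12, 21, 19, 3, 23, 16, 17, 10, 14, 22, 4, 13, 6, 20],
  [0, 1, 15, 13, 3, 23, 8, 9, 16, 22, 14, 20, 4, 5, 19, 7, 10, 17, 12, 21, 2, 6, 11, 18],
  [0, 1, 15, 20, 3, 12, 8, 7, 2, 22, 6, 11, 17, 14, 16, 10, 9, 18, 21, 23, 19, 5, 13, 4],
  [0, 1, 15, 2, 16, 23, 13, 3, 7, 6, 8, 12, 19, 17, 10, 18, 22, 20, 11, 14, 21, 4, 5, 9],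
  [0, 1, 15, 11, 3, 16, 12, 10, 22, 19, 5, 7, 18, 4, 23, 20, 13, 6, 2, 8, 21, 17, 9, 14],
  [0, 1, 15, 6, 4, 12, 23, 10, 7, 16, 19, 14, 22, 21, 5, 3, 17, 13, 18, 20, 8, 9, 11, 2],
  [0, 1, 15, 19, 2, 12, 20, 3, 10, 5, 8, 21, 16, 18, 9, 4, 22, 11, 13, 6, 23, 17, 14, 7],
  [0, 1, 15, 4, 5, 2, 9, 7, 16, 13, 8, 14, 23, 10, 17, 20, 18, 21, 6, 12, 22, 19, 3, 11],
  [0, 1, 15, 23, 11, 8, 18, 14, 3, 13, 16, 17, 6, 9, 5, 21, 12, 4, 20, 22, 10, 2, 19, 7],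
  [0, 1, 15, 18, 14, 8, 16, 7, 11, 12, 22, 4, 2, 19, 6, 3, 5, 9, 17, 10, 23, 13, 20, 21],
  [0, 1, 15, 12, 10, 16, 5, 14, 3, 13, 8, 6, 17, 9, 18, 22, 23, 4, 7, 21, 11, 19, 2, 20],
  [0, 1, 15, 17, 4, 23, 12, 11, 20, 8, 2, 14, 21, 22, 18, 3, 6, 13, 5, 7, 16, 9, 10, 19],
  [0, 1, 15, 3, 19, 18, 6, 16, 22, 17, 2, 20, 8, 9, 10, 21, 12, 5, 13, 23, 4, 14, 7, 11]
]

theorem o22TT_13_eq : o22Snd.map (compT o22T13) = o22TT_13 := by decide +kernel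

theorem o22_c13_0 : l960Tabs.all (fun l => o22Check (compT [0, 1, 15, 16, 7, 8, 22, 21, 14, 5, 10, 9, 13, 20, 2, 11, 6, 19, 4, 23, 18, 12, 17, 3] l)) = true := by
  decide +kernel

theorem o22_c13_1 : l960Tabs.all (fun l => o22Check (compT [0, 1, 15, 7, 3, 23, 16, 20, 19, 21, 17, 10, 6, 14, 8, 11, 9, 5, 22, 12, 2, 18, 13, 4] l)) = true := by
  decide +kernel

theorem o22_c13_2 : l960Tabs.all (fun l => o22Check (compT [0, 1, 15, 8, 7, 12, 6, 4, 3, 9, 23, 18, 5, 13, 17, 2, 16, 14, 11, 19, 20, 22, 21, 10] l)) = true := by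
  decide +kernel

theorem o22_c13_3 : l960Tabs.all (fun l => o22Check (compT [0, 1, 15, 22, 21, 8, 10, 3, 7, 6, 23, 19, 12, 17, 13, 14, 2, 20, 9, 18, 16, 5, 4, 11] l)) = true := by
  decide +kernel

theorem o22_c13_4 : l960Tabs.all (fun l => o22Check (compT [0, 1, 15, 21, 22, 16, 11, 3, 20, 17, 12, 2, 23, 6, 13, 14, 19, 7, 9, 5, 8, 18, 4, 10] l)) = true := by
  decide +kernel

theorem o22_c13_5 : l960Tabs.all (fun l => o22Check (compT [0, 1, 15, 14, 17, 22, 13, 10, 23, 9, 12, 4, 8, 20, 18, 11, 6, 2, 5, 16, 19, 21, 3, 7] l)) = true := by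
  decide +kernel

theorem o22_c13_6 : l960Tabs.all (fun l => o22Check (compT [0, 1, 15, 5, 14, 16, 8, 20, 10, 23, 21, 4, 19, 2, 17, 3, 18, 9, 6, 11, 12, 13, 7, 22] l)) = true := by
  decide +kernel

theorem o22_c13_7 : l960Tabs.all (fun l => o22Check (compT [0, 1, 15, 10, 3, 8, 23, 11, 21, 2, 18, 20, 5, 4, 12, 7, 13, 17, 19, 16, 22, 6, 9, 14] l)) = true := by
  decide +kernel

theorem o22_c13_8 : l960Tabs.all (fun l => o22Check (compT [0, 1, 15, 9, 7, 2, 8, 11, 5, 18, 12, 21, 19, 3, 23, 16, 17, 10, 14, 22, 4, 13, 6, 20] l)) = true := by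
  decide +kernel

theorem o22_c13_9 : l960Tabs.all (fun l => o22Check (compT [0, 1, 15, 13, 3, 23, 8, 9, 16, 22, 14, 20, 4, 5, 19, 7, 10, 17, 12, 21, 2, 6, 11, 18] l)) = true := by
  decide +kernel

theorem o22_c13_10 : l960Tabs.all (fun l => o22Check (compT [0, 1, 15, 20, 3, 12, 8, 7, 2, 22, 6, 11, 17, 14, 16, 10, 9, 18, 21, 23, 19, 5, 13, 4] l)) = true := by
  decide +kernel

theorem o22_c13_11 : l960Tabs.all (fun l => o22Check (compT [0, 1, 15, 2, 16, 23, 13, 3, 7, 6, 8, 12, 19, 17, 10, 18, 22, 20, 11, 14, 21, 4, 5, 9] l)) = true := by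
  decide +kernel

theorem o22_c13_12 : l960Tabs.all (fun l => o22Check (compT [0, 1, 15, 11, 3, 16, 12, 10, 22, 19, 5, 7, 18, 4, 23, 20, 13, 6, 2, 8, 21, 17, 9, 14] l)) = true := by
  decide +kernel

theorem o22_c13_13 : l960Tabs.all (fun l => o22Check (compT [0, 1, 15, 6, 4, 12, 23, 10, 7, 16, 19, 14, 22, 21, 5, 3, 17, 13, 18, 20, 8, 9, 11, 2] l)) = true := by
  decide +kernel

theorem o22_c13_14 : l960Tabs.all (fun l => o22Check (compT [0, 1, 15, 19, 2, 12, 20, 3, 10, 5, 8, 21, 16, 18, 9, 4, 22, 11, 13, 6, 23, 17, 14, 7] l)) = true := by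
  decide +kernel

theorem o22_c13_15 : l960Tabs.all (fun l => o22Check (compT [0, 1, 15, 4, 5, 2, 9, 7, 16, 13, 8, 14, 23, 10, 17, 20, 18, 21, 6, 12, 22, 19, 3, 11] l)) = true := by
  decide +kernel

theorem o22_c13_16 : l960Tabs.all (fun l => o22Check (compT [0, 1, 15, 23, 11, 8, 18, 14, 3, 13, 16, 17, 6, 9, 5, 21, 12, 4, 20, 22, 10, 2, 19, 7] l)) = true := by
  decide +kernel

theorem o22_c13_17 : l960Tabs.all (fun l => o22Check (compT [0, 1, 15, 18, 14, 8, 16, 7, 11, 12, 22, 4, 2, 19, 6, 3, 5, 9, 17, 10, 23, 13, 20, 21] l)) = true := by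
  decide +kernel

theorem o22_c13_18 : l960Tabs.all (fun l => o22Check (compT [0, 1, 15, 12, 10, 16, 5, 14, 3, 13, 8, 6, 17, 9, 18, 22, 23, 4, 7, 21, 11, 19, 2, 20] l)) = true := by
  decide +kernel

theorem o22_c13_19 : l960Tabs.all (fun l => o22Check (compT [0, 1, 15, 17, 4, 23, 12, 11, 20, 8, 2, 14, 21, 22, 18, 3, 6, 13, 5, 7, 16, 9, 10, 19] l)) = true := by
  decide +kernel

theorem o22_c13_20 : l960Tabs.all (fun l => o22Check (compT [0, 1, 15, 3, 19, 18, 6, 16, 22, 17, 2, 20, 8, 9, 10, 21, 12, 5, 13, 23, 4, 14, 7, 11] l)) = true := by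
  decide +kernel

theorem o22_chunk_13 : ∀ tt ∈ o22TT_13, l960Tabs.all (fun l => o22Check (compT tt l)) = true := by
  intro tt ht
  simp only [o22TT_13, List.mem_cons, List.not_mem_nil, or_false] at ht
  rcases ht with rfl | rfl | rfl | rfl | rfl | rfl | rfl | rfl | rfl | rfl | rfl | rfl | rfl | rfl | rfl | rfl | rfl | rfl | rfl | rfl | rfl
  · exact o22_c13_0
  · exact o22_c13_1
  · exact o22_c13_2
  · exact o22_c13_3
  · exact o22_c13_4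
  · exact o22_c13_5
  · exact o22_c13_6
  · exact o22_c13_7
  · exact o22_c13_8
  · exact o22_c13_9
  · exact o22_c13_10
  · exact o22_c13_11
  · exact o22_c13_12
  · exact o22_c13_13
  · exact o22_c13_14
  · exact o22_c13_15
  · exact o22_c13_16
  · exact o22_c13_17
  · exact o22_c13_18
  · exact o22_c13_19
  · exact o22_c13_20

end Cfsg.Agent.Helper7
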