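import Cfsg.Agent.Helper7.M22OutData
import Cfsg.Agent.Helper7.M22OutEnum13

/-!
# The outer automorphism group of `M22` has order 2 (enumeration, part 14)
-/

set_option autoImplicit false

namespace Cfsg.Agent.Helper7

/-- Products of a table of the first level with the tables of the second level. -/
def o22TT_14 : List (List ℕ) := [
  [0, 1, 16, 9, 2, 6, 11, 12, 5, 10, 21, 8, 14, 23, 20, 15, 22, 19, 18, 17, 7, 3, 4, 13],
  [0, 1, 16, 2, 13, 17, 9, 23, 19, 12, 4, 21, 22, 5, 6, 15, 8, 10, 11, 3, 20, 7, 14, 18],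
  [0, 1, 16, 6, 2, 3, 22, 18, 13, 8, 17, 7, 10, 14, 4, 20, 9, 5, 15, 19, 23, 11, 12, 21],
  [0, 1, 16, 11, 12, 6, 21, 13, 2, 22, 17, 19, 3, 4, 14, 5, 20, 23, 8, 7, 9, 10, 18, 15],
  [0, 1, 16, 12, 11, 9, 15, 13, 23, 4, 3, 20, 17, 22, 14, 5, 19, 2, 8, 10, 6, 7, 18, 21],
  [0, 1, 16, 5, 4, 11, 14, 21, 17, 8, 3, 18, 6, 23, 7, 15, 22, 20, 10, 9, 19, 12, 13, 2],
  [0, 1, 16, 10, 5, 9, 6, 23, 21, 17, 12, 18, 19, 20, 4, 13, 7, 8, 22, 15, 3, 14, 2, 11],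
  [0, 1, 16, 21, 13, 6, 17, 15, 12, 20, 7, 23, 10, 18, 3, 2, 14, 4, 19, 9, 11, 22, 8, 5],
  [0, 1, 16, 8, 2, 20, 6, 15, 10, 7, 3, 12, 19, 13, 17, 9, 4, 21, 5, 11, 18, 14, 22, 23],
  [0, 1, 16, 14, 13, 17, 6, 8, 9, 11, 5, 23, 18, 10, 19, 2, 21, 4, 3, 12, 20, 22, 15, 7],
  [0, 1, 16, 23, 13, 3, 6, 2, 20, 11, 22, 15, 4, 5, 9, 21, 8, 7, 12, 17, 19, 10, 14, 18],
  [0, 1, 16, 20, 9, 17, 14, 13, 2, 22, 6, 3, 19, 4, 21, 7, 11, 23, 15, 5, 12, 18, 10, 8],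
  [0, 1, 16, 15, 13, 9, 3, 21, 11, 19, 10, 2, 7, 18, 17, 23, 14, 22, 20, 6, 12, 4, 8, 5],
  [0, 1, 16, 22, 18, 3, 17, 21, 2, 9, 19, 5, 11, 12, 10, 13, 4, 14, 7, 23, 6, 8, 15, 20],
  [0, 1, 16, 19, 20, 3, 23, 13, 21, 10, 6, 12, 9, 7, 8, 18, 11, 15, 14, 22, 17, 4, 5, 2],
  [0, 1, 16, 18, 10, 20, 8, 2, 9, 14, 6, 5, 17, 21, 4, 23, 7, 12, 22, 3, 11, 19, 13, 15],
  [0, 1, 16, 17, 15, 6, 7, 5, 13, 14, 9, 4, 22, 8, 10, 12, 3, 18, 23, 11, 21, 20, 19, 2],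
  [0, 1, 16, 7, 5, 6, 9, 2, 15, 3, 11, 18, 20, 19, 22, 13, 10, 8, 4, 21, 17, 14, 23, 12],
  [0, 1, 16, 3, 21, 9, 10, 5, 13, 14, 6, 22, 4, 8, 7, 11, 17, 18, 2, 12, 15, 19, 20, 23],
  [0, 1, 16, 4, 18, 17, 3, 15, 23, 6, 20, 5, 12, 11, 7, 13, 22, 14, 10, 2, 9, 8, 21, 19],
  [0, 1, 16, 13, 19, 7, 22, 9, 11, 4, 20, 23, 6, 8, 21, 12, 3, 10, 14, 17, 18, 5, 2, 15]
]

theorem o22TT_14_eq : o22Snd.map (compT o22T14) = o22TT_14 := by decide +kernel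

theorem o22_c14_0 : l960Tabs.all (fun l => o22Check (compT [0, 1, 16, 9, 2, 6, 11, 12, 5, 10, 21, 8, 14, 23, 20, 15, 22, 19, 18, 17, 7, 3, 4, 13] l)) = true := by
  decide +kernel

theorem o22_c14_1 : l960Tabs.all (fun l => o22Check (compT [0, 1, 16, 2, 13, 17, 9, 23, 19, 12, 4, 21, 22, 5, 6, 15, 8, 10, 11, 3, 20, 7, 14, 18] l)) = true := by
  decide +kernel

theorem o22_c14_2 : l960Tabs.all (fun l => o22Check (compT [0, 1, 16, 6, 2, 3, 22, 18, 13, 8, 17, 7, 10, 14, 4, 20, 9, 5, 15, 19, 23, 11, 12, 21] l)) = true := by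
  decide +kernel

theorem o22_c14_3 : l960Tabs.all (fun l => o22Check (compT [0, 1, 16, 11, 12, 6, 21, 13, 2, 22, 17, 19, 3, 4, 14, 5, 20, 23, 8, 7, 9, 10, 18, 15] l)) = true := by
  decide +kernel

theorem o22_c14_4 : l960Tabs.all (fun l => o22Check (compT [0, 1, 16, 12, 11, 9, 15, 13, 23, 4, 3, 20, 17, 22, 14, 5, 19, 2, 8, 10, 6, 7, 18, 21] l)) = true := by
  decide +kernel

theorem o22_c14_5 : l960Tabs.all (fun l => o22Check (compT [0, 1, 16, 5, 4, 11, 14, 21, 17, 8, 3, 18, 6, 23, 7, 15, 22, 20, 10, 9, 19, 12, 13, 2] l)) = true := by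
  decide +kernel

theorem o22_c14_6 : l960Tabs.all (fun l => o22Check (compT [0, 1, 16, 10, 5, 9, 6, 23, 21, 17, 12, 18, 19, 20, 4, 13, 7, 8, 22, 15, 3, 14, 2, 11] l)) = true := by
  decide +kernel

theorem o22_c14_7 : l960Tabs.all (fun l => o22Check (compT [0, 1, 16, 21, 13, 6, 17, 15, 12, 20, 7, 23, 10, 18, 3, 2, 14, 4, 19, 9, 11, 22, 8, 5] l)) = true := by
  decide +kernel

theorem o22_c14_8 : l960Tabs.all (fun l => o22Check (compT [0, 1, 16, 8, 2, 20, 6, 15, 10, 7, 3, 12, 19, 13, 17, 9, 4, 21, 5, 11, 18, 14, 22, 23] l)) = true := by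
  decide +kernel

theorem o22_c14_9 : l960Tabs.all (fun l => o22Check (compT [0, 1, 16, 14, 13, 17, 6, 8, 9, 11, 5, 23, 18, 10, 19, 2, 21, 4, 3, 12, 20, 22, 15, 7] l)) = true := by
  decide +kernel

theorem o22_c14_10 : l960Tabs.all (fun l => o22Check (compT [0, 1, 16, 23, 13, 3, 6, 2, 20, 11, 22, 15, 4, 5, 9, 21, 8, 7, 12, 17, 19, 10, 14, 18] l)) = true := by
  decide +kernel

theorem o22_c14_11 : l960Tabs.all (fun l => o22Check (compT [0, 1, 16, 20, 9, 17, 14, 13, 2, 22, 6, 3, 19, 4, 21, 7, 11, 23, 15, 5, 12, 18, 10, 8] l)) = true := by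
  decide +kernel

theorem o22_c14_12 : l960Tabs.all (fun l => o22Check (compT [0, 1, 16, 15, 13, 9, 3, 21, 11, 19, 10, 2, 7, 18, 17, 23, 14, 22, 20, 6, 12, 4, 8, 5] l)) = true := by
  decide +kernel

theorem o22_c14_13 : l960Tabs.all (fun l => o22Check (compT [0, 1, 16, 22, 18, 3, 17, 21, 2, 9, 19, 5, 11, 12, 10, 13, 4, 14, 7, 23, 6, 8, 15, 20] l)) = true := by
  decide +kernel

theorem o22_c14_14 : l960Tabs.all (fun l => o22Check (compT [0, 1, 16, 19, 20, 3, 23, 13, 21, 10, 6, 12, 9, 7, 8, 18, 11, 15, 14, 22, 17, 4, 5, 2] l)) = true := by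
  decide +kernel

theorem o22_c14_15 : l960Tabs.all (fun l => o22Check (compT [0, 1, 16, 18, 10, 20, 8, 2, 9, 14, 6, 5, 17, 21, 4, 23, 7, 12, 22, 3, 11, 19, 13, 15] l)) = true := by
  decide +kernel

theorem o22_c14_16 : l960Tabs.all (fun l => o22Check (compT [0, 1, 16, 17, 15, 6, 7, 5, 13, 14, 9, 4, 22, 8, 10, 12, 3, 18, 23, 11, 21, 20, 19, 2] l)) = true := by
  decide +kernel

theorem o22_c14_17 : l960Tabs.all (fun l => o22Check (compT [0, 1, 16, 7, 5, 6, 9, 2, 15, 3, 11, 18, 20, 19, 22, 13, 10, 8, 4, 21, 17, 14, 23, 12] l)) = true := by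
  decide +kernel

theorem o22_c14_18 : l960Tabs.all (fun l => o22Check (compT [0, 1, 16, 3, 21, 9, 10, 5, 13, 14, 6, 22, 4, 8, 7, 11, 17, 18, 2, 12, 15, 19, 20, 23] l)) = true := by
  decide +kernel

theorem o22_c14_19 : l960Tabs.all (fun l => o22Check (compT [0, 1, 16, 4, 18, 17, 3, 15, 23, 6, 20, 5, 12, 11, 7, 13, 22, 14, 10, 2, 9, 8, 21, 19] l)) = true := by
  decide +kernel

theorem o22_c14_20 : l960Tabs.all (fun l => o22Check (compT [0, 1, 16, 13, 19, 7, 22, 9, 11, 4, 20, 23, 6, 8, 21, 12, 3, 10, 14, 17, 18, 5, 2, 15] l)) = true := by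
  decide +kernel

theorem o22_chunk_14 : ∀ tt ∈ o22TT_14, l960Tabs.all (fun l => o22Check (compT tt l)) = true := by
  intro tt ht
  simp only [o22TT_14, List.mem_cons, List.not_mem_nil, or_false] at ht
  rcases ht with rfl | rfl | rfl | rfl | rfl | rfl | rfl | rfl | rfl | rfl | rfl | rfl | rfl | rfl | rfl | rfl | rfl | rfl | rfl | rfl | rfl
  · exact o22_c14_0
  · exact o22_c14_1
  · exact o22_c14_2
  · exact o22_c14_3
  · exact o22_c14_4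
  · exact o22_c14_5
  · exact o22_c14_6
  · exact o22_c14_7
  · exact o22_c14_8
  · exact o22_c14_9
  · exact o22_c14_10
  · exact o22_c14_11
  · exact o22_c14_12
  · exact o22_c14_13
  · exact o22_c14_14
  · exact o22_c14_15
  · exact o22_c14_16
  · exact o22_c14_17
  · exact o22_c14_18
  · exact o22_c14_19
  · exact o22_c14_20

end Cfsg.Agent.Helper7
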