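import Cfsg.Agent.Helper7.M22OutData
import Cfsg.Agent.Helper7.M22OutEnum15

/-!
# The outer automorphism group of `M22` has order 2 (enumeration, part 16)
-/

set_option autoImplicit false

namespace Cfsg.Agent.Helper7

/-- Products of a table of the first level with the tables of the second level. -/
def o22TT_16 : List (List ℕ) := [
  [0, 1, 18, 22, 5, 9, 15, 23, 11, 2, 20, 7, 6, 8, 10, 21, 16, 12, 4, 19, 3, 17, 14, 13],
  [0, 1, 18, 5, 13, 19, 22, 8, 12, 23, 14, 20, 16, 11, 9, 21, 7, 2, 15, 17, 10, 3, 6, 4],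
  [0, 1, 18, 9, 5, 17, 16, 4, 13, 7, 19, 3, 2, 6, 14, 10, 22, 11, 21, 12, 8, 15, 23, 20],
  [0, 1, 18, 15, 23, 9, 20, 13, 5, 16, 19, 12, 17, 14, 6, 11, 10, 8, 7, 3, 22, 2, 4, 21],
  [0, 1, 18, 23, 15, 22, 21, 13, 8, 14, 17, 10, 19, 16, 6, 11, 12, 5, 7, 2, 9, 3, 4, 20],
  [0, 1, 18, 11, 14, 15, 6, 20, 19, 7, 17, 4, 9, 8, 3, 21, 16, 10, 2, 22, 12, 23, 13, 5],
  [0, 1, 18, 2, 11, 22, 9, 8, 20, 19, 23, 4, 12, 10, 14, 13, 3, 7, 16, 21, 17, 6, 5, 15],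
  [0, 1, 18, 20, 13, 9, 19, 21, 23, 10, 3, 8, 2, 4, 17, 5, 6, 14, 12, 22, 15, 16, 7, 11],
  [0, 1, 18, 7, 5, 10, 9, 21, 2, 3, 17, 23, 12, 13, 19, 22, 14, 20, 11, 15, 4, 6, 16, 8],
  [0, 1, 18, 6, 13, 19, 9, 7, 22, 15, 11, 8, 4, 2, 12, 5, 20, 14, 17, 23, 10, 16, 21, 3],
  [0, 1, 18, 8, 13, 17, 9, 5, 10, 15, 16, 21, 14, 11, 22, 20, 7, 3, 23, 19, 12, 2, 6, 4],
  [0, 1, 18, 10, 22, 19, 6, 13, 5, 16, 9, 17, 12, 14, 20, 3, 15, 8, 21, 11, 23, 4, 2, 7],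
  [0, 1, 18, 21, 13, 22, 17, 20, 15, 12, 2, 5, 3, 4, 19, 8, 6, 16, 10, 9, 23, 14, 7, 11],
  [0, 1, 18, 16, 4, 17, 19, 20, 5, 22, 12, 11, 15, 23, 2, 13, 14, 6, 3, 8, 9, 7, 21, 10],
  [0, 1, 18, 12, 10, 17, 8, 13, 20, 2, 9, 23, 22, 3, 7, 4, 15, 21, 6, 16, 19, 14, 11, 5],
  [0, 1, 18, 4, 2, 10, 7, 5, 22, 6, 9, 11, 19, 20, 14, 8, 3, 23, 16, 17, 15, 12, 13, 21],
  [0, 1, 18, 19, 21, 9, 3, 11, 13, 6, 22, 14, 16, 7, 2, 23, 17, 4, 8, 15, 20, 10, 12, 5],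
  [0, 1, 18, 3, 11, 9, 22, 5, 21, 17, 15, 4, 10, 12, 16, 13, 2, 7, 14, 20, 19, 6, 8, 23],
  [0, 1, 18, 17, 20, 22, 2, 11, 13, 6, 9, 16, 14, 7, 3, 15, 19, 4, 5, 23, 21, 12, 10, 8],
  [0, 1, 18, 14, 4, 19, 17, 21, 8, 9, 10, 11, 23, 15, 3, 13, 16, 6, 2, 5, 22, 7, 20, 12],
  [0, 1, 18, 13, 12, 3, 16, 22, 15, 14, 10, 8, 9, 7, 20, 23, 17, 2, 6, 19, 4, 11, 5, 21]
]

theorem o22TT_16_eq : o22Snd.map (compT o22T16) = o22TT_16 := by decide +kernel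

theorem o22_c16_0 : l960Tabs.all (fun l => o22Check (compT [0, 1, 18, 22, 5, 9, 15, 23, 11, 2, 20, 7, 6, 8, 10, 21, 16, 12, 4, 19, 3, 17, 14, 13] l)) = true := by
  decide +kernel

theorem o22_c16_1 : l960Tabs.all (fun l => o22Check (compT [0, 1, 18, 5, 13, 19, 22, 8, 12, 23, 14, 20, 16, 11, 9, 21, 7, 2, 15, 17, 10, 3, 6, 4] l)) = true := by
  decide +kernel

theorem o22_c16_2 : l960Tabs.all (fun l => o22Check (compT [0, 1, 18, 9, 5, 17, 16, 4, 13, 7, 19, 3, 2, 6, 14, 10, 22, 11, 21, 12, 8, 15, 23, 20] l)) = true := by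
  decide +kernel

theorem o22_c16_3 : l960Tabs.all (fun l => o22Check (compT [0, 1, 18, 15, 23, 9, 20, 13, 5, 16, 19, 12, 17, 14, 6, 11, 10, 8, 7, 3, 22, 2, 4, 21] l)) = true := by
  decide +kernel

theorem o22_c16_4 : l960Tabs.all (fun l => o22Check (compT [0, 1, 18, 23, 15, 22, 21, 13, 8, 14, 17, 10, 19, 16, 6, 11, 12, 5, 7, 2, 9, 3, 4, 20] l)) = true := by
  decide +kernel

theorem o22_c16_5 : l960Tabs.all (fun l => o22Check (compT [0, 1, 18, 11, 14, 15, 6, 20, 19, 7, 17, 4, 9, 8, 3, 21, 16, 10, 2, 22, 12, 23, 13, 5] l)) = true := by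
  decide +kernel

theorem o22_c16_6 : l960Tabs.all (fun l => o22Check (compT [0, 1, 18, 2, 11, 22, 9, 8, 20, 19, 23, 4, 12, 10, 14, 13, 3, 7, 16, 21, 17, 6, 5, 15] l)) = true := by
  decide +kernel

theorem o22_c16_7 : l960Tabs.all (fun l => o22Check (compT [0, 1, 18, 20, 13, 9, 19, 21, 23, 10, 3, 8, 2, 4, 17, 5, 6, 14, 12, 22, 15, 16, 7, 11] l)) = true := by
  decide +kernel

theorem o22_c16_8 : l960Tabs.all (fun l => o22Check (compT [0, 1, 18, 7, 5, 10, 9, 21, 2, 3, 17, 23, 12, 13, 19, 22, 14, 20, 11, 15, 4, 6, 16, 8] l)) = true := by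
  decide +kernel

theorem o22_c16_9 : l960Tabs.all (fun l => o22Check (compT [0, 1, 18, 6, 13, 19, 9, 7, 22, 15, 11, 8, 4, 2, 12, 5, 20, 14, 17, 23, 10, 16, 21, 3] l)) = true := by
  decide +kernel

theorem o22_c16_10 : l960Tabs.all (fun l => o22Check (compT [0, 1, 18, 8, 13, 17, 9, 5, 10, 15, 16, 21, 14, 11, 22, 20, 7, 3, 23, 19, 12, 2, 6, 4] l)) = true := by
  decide +kernel

theorem o22_c16_11 : l960Tabs.all (fun l => o22Check (compT [0, 1, 18, 10, 22, 19, 6, 13, 5, 16, 9, 17, 12, 14, 20, 3, 15, 8, 21, 11, 23, 4, 2, 7] l)) = true := by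
  decide +kernel

theorem o22_c16_12 : l960Tabs.all (fun l => o22Check (compT [0, 1, 18, 21, 13, 22, 17, 20, 15, 12, 2, 5, 3, 4, 19, 8, 6, 16, 10, 9, 23, 14, 7, 11] l)) = true := by
  decide +kernel

theorem o22_c16_13 : l960Tabs.all (fun l => o22Check (compT [0, 1, 18, 16, 4, 17, 19, 20, 5, 22, 12, 11, 15, 23, 2, 13, 14, 6, 3, 8, 9, 7, 21, 10] l)) = true := by
  decide +kernel

theorem o22_c16_14 : l960Tabs.all (fun l => o22Check (compT [0, 1, 18, 12, 10, 17, 8, 13, 20, 2, 9, 23, 22, 3, 7, 4, 15, 21, 6, 16, 19, 14, 11, 5] l)) = true := by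
  decide +kernel

theorem o22_c16_15 : l960Tabs.all (fun l => o22Check (compT [0, 1, 18, 4, 2, 10, 7, 5, 22, 6, 9, 11, 19, 20, 14, 8, 3, 23, 16, 17, 15, 12, 13, 21] l)) = true := by
  decide +kernel

theorem o22_c16_16 : l960Tabs.all (fun l => o22Check (compT [0, 1, 18, 19, 21, 9, 3, 11, 13, 6, 22, 14, 16, 7, 2, 23, 17, 4, 8, 15, 20, 10, 12, 5] l)) = true := by
  decide +kernel

theorem o22_c16_17 : l960Tabs.all (fun l => o22Check (compT [0, 1, 18, 3, 11, 9, 22, 5, 21, 17, 15, 4, 10, 12, 16, 13, 2, 7, 14, 20, 19, 6, 8, 23] l)) = true := by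
  decide +kernel

theorem o22_c16_18 : l960Tabs.all (fun l => o22Check (compT [0, 1, 18, 17, 20, 22, 2, 11, 13, 6, 9, 16, 14, 7, 3, 15, 19, 4, 5, 23, 21, 12, 10, 8] l)) = true := by
  decide +kernel

theorem o22_c16_19 : l960Tabs.all (fun l => o22Check (compT [0, 1, 18, 14, 4, 19, 17, 21, 8, 9, 10, 11, 23, 15, 3, 13, 16, 6, 2, 5, 22, 7, 20, 12] l)) = true := by
  decide +kernel

theorem o22_c16_20 : l960Tabs.all (fun l => o22Check (compT [0, 1, 18, 13, 12, 3, 16, 22, 15, 14, 10, 8, 9, 7, 20, 23, 17, 2, 6, 19, 4, 11, 5, 21] l)) = true := by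
  decide +kernel

theorem o22_chunk_16 : ∀ tt ∈ o22TT_16, l960Tabs.all (fun l => o22Check (compT tt l)) = true := by
  intro tt ht
  simp only [o22TT_16, List.mem_cons, List.not_mem_nil, or_false] at ht
  rcases ht with rfl | rfl | rfl | rfl | rfl | rfl | rfl | rfl | rfl | rfl | rfl | rfl | rfl | rfl | rfl | rfl | rfl | rfl | rfl | rfl | rfl
  · exact o22_c16_0
  · exact o22_c16_1
  · exact o22_c16_2
  · exact o22_c16_3
  · exact o22_c16_4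
  · exact o22_c16_5
  · exact o22_c16_6
  · exact o22_c16_7
  · exact o22_c16_8
  · exact o22_c16_9
  · exact o22_c16_10
  · exact o22_c16_11
  · exact o22_c16_12
  · exact o22_c16_13
  · exact o22_c16_14
  · exact o22_c16_15
  · exact o22_c16_16
  · exact o22_c16_17
  · exact o22_c16_18
  · exact o22_c16_19
  · exact o22_c16_20

end Cfsg.Agent.Helper7
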