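import Cfsg.Agent.Helper7.M22OutData
import Cfsg.Agent.Helper7.M22OutEnum16

/-!
# The outer automorphism group of `M22` has order 2 (enumeration, part 17)
-/

set_option autoImplicit false

namespace Cfsg.Agent.Helper7

/-- Products of a table of the first level with the tables of the second level. -/
def o22TT_17 : List (List ℕ) := [
  [0, 1, 19, 7, 11, 10, 23, 9, 4, 2, 15, 21, 12, 5, 20, 16, 17, 18, 13, 14, 3, 22, 6, 8],
  [0, 1, 19, 11, 8, 14, 7, 5, 18, 9, 6, 15, 17, 4, 10, 16, 21, 2, 23, 22, 20, 3, 12, 13],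
  [0, 1, 19, 10, 11, 22, 17, 13, 8, 21, 14, 3, 2, 12, 6, 20, 7, 4, 16, 18, 5, 23, 9, 15],
  [0, 1, 19, 23, 9, 10, 15, 8, 11, 17, 14, 18, 22, 6, 12, 4, 20, 5, 21, 3, 7, 2, 13, 16],
  [0, 1, 19, 9, 23, 7, 16, 8, 5, 6, 22, 20, 14, 17, 12, 4, 18, 11, 21, 2, 10, 3, 13, 15],
  [0, 1, 19, 4, 6, 23, 12, 15, 14, 21, 22, 13, 10, 5, 3, 16, 17, 20, 2, 7, 18, 9, 8, 11],
  [0, 1, 19, 2, 4, 7, 10, 5, 15, 14, 9, 13, 18, 20, 6, 8, 3, 21, 17, 16, 22, 12, 11, 23],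
  [0, 1, 19, 15, 8, 10, 14, 16, 9, 20, 3, 5, 2, 13, 22, 11, 12, 6, 18, 7, 23, 17, 21, 4],
  [0, 1, 19, 21, 11, 20, 10, 16, 2, 3, 22, 9, 18, 8, 14, 7, 6, 15, 4, 23, 13, 12, 17, 5],
  [0, 1, 19, 12, 8, 14, 10, 21, 7, 23, 4, 5, 13, 2, 18, 11, 15, 6, 22, 9, 20, 17, 16, 3],
  [0, 1, 19, 5, 8, 22, 10, 11, 20, 23, 17, 16, 6, 4, 7, 15, 21, 3, 9, 14, 18, 2, 12, 13],
  [0, 1, 19, 20, 7, 14, 12, 8, 11, 17, 10, 22, 18, 6, 15, 3, 23, 5, 16, 4, 9, 13, 2, 21],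
  [0, 1, 19, 16, 8, 7, 22, 15, 23, 18, 2, 11, 3, 13, 14, 5, 12, 17, 20, 10, 9, 6, 21, 4],
  [0, 1, 19, 17, 13, 22, 14, 15, 11, 7, 18, 4, 23, 9, 2, 8, 6, 12, 3, 5, 10, 21, 16, 20],
  [0, 1, 19, 18, 20, 22, 5, 8, 15, 2, 10, 9, 7, 3, 21, 13, 23, 16, 12, 17, 14, 6, 4, 11],
  [0, 1, 19, 13, 2, 20, 21, 11, 7, 12, 10, 4, 14, 15, 6, 5, 3, 9, 17, 22, 23, 18, 8, 16],
  [0, 1, 19, 14, 16, 10, 3, 4, 8, 12, 7, 6, 17, 21, 2, 9, 22, 13, 5, 23, 15, 20, 18, 11],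
  [0, 1, 19, 3, 4, 10, 7, 11, 16, 22, 23, 13, 20, 18, 17, 8, 2, 21, 6, 15, 14, 12, 5, 9],
  [0, 1, 19, 22, 15, 7, 2, 4, 8, 12, 10, 17, 6, 21, 3, 23, 14, 13, 11, 9, 16, 18, 20, 5],
  [0, 1, 19, 6, 13, 14, 22, 16, 5, 10, 20, 4, 9, 23, 3, 8, 17, 12, 2, 11, 7, 21, 15, 18],
  [0, 1, 19, 8, 18, 3, 17, 7, 23, 6, 20, 5, 10, 21, 15, 9, 22, 2, 12, 14, 13, 4, 11, 16]
]

theorem o22TT_17_eq : o22Snd.map (compT o22T17) = o22TT_17 := by decide +kernel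

theorem o22_c17_0 : l960Tabs.all (fun l => o22Check (compT [0, 1, 19, 7, 11, 10, 23, 9, 4, 2, 15, 21, 12, 5, 20, 16, 17, 18, 13, 14, 3, 22, 6, 8] l)) = true := by
  decide +kernel

theorem o22_c17_1 : l960Tabs.all (fun l => o22Check (compT [0, 1, 19, 11, 8, 14, 7, 5, 18, 9, 6, 15, 17, 4, 10, 16, 21, 2, 23, 22, 20, 3, 12, 13] l)) = true := by
  decide +kernel

theorem o22_c17_2 : l960Tabs.all (fun l => o22Check (compT [0, 1, 19, 10, 11, 22, 17, 13, 8, 21, 14, 3, 2, 12, 6, 20, 7, 4, 16, 18, 5, 23, 9, 15] l)) = true := by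
  decide +kernel

theorem o22_c17_3 : l960Tabs.all (fun l => o22Check (compT [0, 1, 19, 23, 9, 10, 15, 8, 11, 17, 14, 18, 22, 6, 12, 4, 20, 5, 21, 3, 7, 2, 13, 16] l)) = true := by
  decide +kernel

theorem o22_c17_4 : l960Tabs.all (fun l => o22Check (compT [0, 1, 19, 9, 23, 7, 16, 8, 5, 6, 22, 20, 14, 17, 12, 4, 18, 11, 21, 2, 10, 3, 13, 15] l)) = true := by
  decide +kernel

theorem o22_c17_5 : l960Tabs.all (fun l => o22Check (compT [0, 1, 19, 4, 6, 23, 12, 15, 14, 21, 22, 13, 10, 5, 3, 16, 17, 20, 2, 7, 18, 9, 8, 11] l)) = true := by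
  decide +kernel

theorem o22_c17_6 : l960Tabs.all (fun l => o22Check (compT [0, 1, 19, 2, 4, 7, 10, 5, 15, 14, 9, 13, 18, 20, 6, 8, 3, 21, 17, 16, 22, 12, 11, 23] l)) = true := by
  decide +kernel

theorem o22_c17_7 : l960Tabs.all (fun l => o22Check (compT [0, 1, 19, 15, 8, 10, 14, 16, 9, 20, 3, 5, 2, 13, 22, 11, 12, 6, 18, 7, 23, 17, 21, 4] l)) = true := by
  decide +kernel

theorem o22_c17_8 : l960Tabs.all (fun l => o22Check (compT [0, 1, 19, 21, 11, 20, 10, 16, 2, 3, 22, 9, 18, 8, 14, 7, 6, 15, 4, 23, 13, 12, 17, 5] l)) = true := by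
  decide +kernel

theorem o22_c17_9 : l960Tabs.all (fun l => o22Check (compT [0, 1, 19, 12, 8, 14, 10, 21, 7, 23, 4, 5, 13, 2, 18, 11, 15, 6, 22, 9, 20, 17, 16, 3] l)) = true := by
  decide +kernel

theorem o22_c17_10 : l960Tabs.all (fun l => o22Check (compT [0, 1, 19, 5, 8, 22, 10, 11, 20, 23, 17, 16, 6, 4, 7, 15, 21, 3, 9, 14, 18, 2, 12, 13] l)) = true := by
  decide +kernel

theorem o22_c17_11 : l960Tabs.all (fun l => o22Check (compT [0, 1, 19, 20, 7, 14, 12, 8, 11, 17, 10, 22, 18, 6, 15, 3, 23, 5, 16, 4, 9, 13, 2, 21] l)) = true := by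
  decide +kernel

theorem o22_c17_12 : l960Tabs.all (fun l => o22Check (compT [0, 1, 19, 16, 8, 7, 22, 15, 23, 18, 2, 11, 3, 13, 14, 5, 12, 17, 20, 10, 9, 6, 21, 4] l)) = true := by
  decide +kernel

theorem o22_c17_13 : l960Tabs.all (fun l => o22Check (compT [0, 1, 19, 17, 13, 22, 14, 15, 11, 7, 18, 4, 23, 9, 2, 8, 6, 12, 3, 5, 10, 21, 16, 20] l)) = true := by
  decide +kernel

theorem o22_c17_14 : l960Tabs.all (fun l => o22Check (compT [0, 1, 19, 18, 20, 22, 5, 8, 15, 2, 10, 9, 7, 3, 21, 13, 23, 16, 12, 17, 14, 6, 4, 11] l)) = true := by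
  decide +kernel

theorem o22_c17_15 : l960Tabs.all (fun l => o22Check (compT [0, 1, 19, 13, 2, 20, 21, 11, 7, 12, 10, 4, 14, 15, 6, 5, 3, 9, 17, 22, 23, 18, 8, 16] l)) = true := by
  decide +kernel

theorem o22_c17_16 : l960Tabs.all (fun l => o22Check (compT [0, 1, 19, 14, 16, 10, 3, 4, 8, 12, 7, 6, 17, 21, 2, 9, 22, 13, 5, 23, 15, 20, 18, 11] l)) = true := by
  decide +kernel

theorem o22_c17_17 : l960Tabs.all (fun l => o22Check (compT [0, 1, 19, 3, 4, 10, 7, 11, 16, 22, 23, 13, 20, 18, 17, 8, 2, 21, 6, 15, 14, 12, 5, 9] l)) = true := by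
  decide +kernel

theorem o22_c17_18 : l960Tabs.all (fun l => o22Check (compT [0, 1, 19, 22, 15, 7, 2, 4, 8, 12, 10, 17, 6, 21, 3, 23, 14, 13, 11, 9, 16, 18, 20, 5] l)) = true := by
  decide +kernel

theorem o22_c17_19 : l960Tabs.all (fun l => o22Check (compT [0, 1, 19, 6, 13, 14, 22, 16, 5, 10, 20, 4, 9, 23, 3, 8, 17, 12, 2, 11, 7, 21, 15, 18] l)) = true := by
  decide +kernel

theorem o22_c17_20 : l960Tabs.all (fun l => o22Check (compT [0, 1, 19, 8, 18, 3, 17, 7, 23, 6, 20, 5, 10, 21, 15, 9, 22, 2, 12, 14, 13, 4, 11, 16] l)) = true := by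
  decide +kernel

theorem o22_chunk_17 : ∀ tt ∈ o22TT_17, l960Tabs.all (fun l => o22Check (compT tt l)) = true := by
  intro tt ht
  simp only [o22TT_17, List.mem_cons, List.not_mem_nil, or_false] at ht
  rcases ht with rfl | rfl | rfl | rfl | rfl | rfl | rfl | rfl | rfl | rfl | rfl | rfl | rfl | rfl | rfl | rfl | rfl | rfl | rfl | rfl | rfl
  · exact o22_c17_0
  · exact o22_c17_1
  · exact o22_c17_2
  · exact o22_c17_3
  · exact o22_c17_4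
  · exact o22_c17_5
  · exact o22_c17_6
  · exact o22_c17_7
  · exact o22_c17_8
  · exact o22_c17_9
  · exact o22_c17_10
  · exact o22_c17_11
  · exact o22_c17_12
  · exact o22_c17_13
  · exact o22_c17_14
  · exact o22_c17_15
  · exact o22_c17_16
  · exact o22_c17_17
  · exact o22_c17_18
  · exact o22_c17_19
  · exact o22_c17_20

end Cfsg.Agent.Helper7
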