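import Cfsg.Agent.Helper7.M22OutData
import Cfsg.Agent.Helper7.M22OutEnum17

/-!
# The outer automorphism group of `M22` has order 2 (enumeration, part 18)
-/

set_option autoImplicit false

namespace Cfsg.Agent.Helper7

/-- Products of a table of the first level with the tables of the second level. -/
def o22TT_18 : List (List ℕ) := [
  [0, 1, 20, 8, 16, 10, 4, 23, 12, 14, 21, 2, 17, 13, 18, 5, 9, 7, 22, 3, 15, 11, 6, 19],
  [0, 1, 20, 16, 19, 3, 8, 13, 7, 23, 6, 21, 9, 12, 10, 5, 2, 14, 4, 11, 18, 15, 17, 22],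
  [0, 1, 20, 10, 16, 11, 9, 22, 19, 2, 3, 15, 14, 17, 6, 18, 8, 12, 5, 7, 13, 4, 23, 21],
  [0, 1, 20, 4, 23, 10, 21, 19, 16, 9, 3, 7, 11, 6, 17, 12, 18, 13, 2, 15, 8, 14, 22, 5],
  [0, 1, 20, 23, 4, 8, 5, 19, 13, 6, 11, 18, 3, 9, 17, 12, 7, 16, 2, 14, 10, 15, 22, 21],
  [0, 1, 20, 12, 6, 4, 17, 21, 3, 2, 11, 22, 10, 13, 15, 5, 9, 18, 14, 8, 7, 23, 19, 16],
  [0, 1, 20, 14, 12, 8, 10, 13, 21, 3, 23, 22, 7, 18, 6, 19, 15, 2, 9, 5, 11, 17, 16, 4],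
  [0, 1, 20, 21, 19, 10, 3, 5, 23, 18, 15, 13, 14, 22, 11, 16, 17, 6, 7, 8, 4, 9, 2, 12],
  [0, 1, 20, 2, 16, 18, 10, 5, 14, 15, 11, 23, 7, 19, 3, 8, 6, 21, 12, 4, 22, 17, 9, 13],
  [0, 1, 20, 17, 19, 3, 10, 2, 8, 4, 12, 13, 22, 14, 7, 16, 21, 6, 11, 23, 18, 9, 5, 15],
  [0, 1, 20, 13, 19, 11, 10, 16, 18, 4, 9, 5, 6, 12, 8, 21, 2, 15, 23, 3, 7, 14, 17, 22],
  [0, 1, 20, 18, 8, 3, 17, 19, 16, 9, 10, 11, 7, 6, 21, 15, 4, 13, 5, 12, 23, 22, 14, 2],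
  [0, 1, 20, 5, 19, 8, 11, 21, 4, 7, 14, 16, 15, 22, 3, 13, 17, 9, 18, 10, 23, 6, 2, 12],
  [0, 1, 20, 9, 22, 11, 3, 21, 16, 8, 7, 12, 4, 23, 14, 19, 6, 17, 15, 13, 10, 2, 5, 18],
  [0, 1, 20, 7, 18, 11, 13, 19, 21, 14, 10, 23, 8, 15, 2, 22, 4, 5, 17, 9, 3, 6, 12, 16],
  [0, 1, 20, 22, 14, 18, 2, 16, 8, 17, 10, 12, 3, 21, 6, 13, 15, 23, 9, 11, 4, 7, 19, 5],
  [0, 1, 20, 3, 5, 10, 15, 12, 19, 17, 8, 6, 9, 2, 14, 23, 11, 22, 13, 4, 21, 18, 7, 16],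
  [0, 1, 20, 15, 12, 10, 8, 16, 5, 11, 4, 22, 18, 7, 9, 19, 14, 2, 6, 21, 3, 17, 13, 23],
  [0, 1, 20, 11, 21, 8, 14, 12, 19, 17, 10, 9, 6, 2, 15, 4, 3, 22, 16, 23, 5, 7, 18, 13],
  [0, 1, 20, 6, 22, 3, 11, 5, 13, 10, 18, 12, 23, 4, 15, 19, 9, 17, 14, 16, 8, 2, 21, 7],
  [0, 1, 20, 19, 7, 15, 9, 8, 4, 6, 18, 13, 10, 2, 21, 23, 11, 14, 17, 3, 22, 12, 16, 5]
]

theorem o22TT_18_eq : o22Snd.map (compT o22T18) = o22TT_18 := by decide +kernel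

theorem o22_c18_0 : l960Tabs.all (fun l => o22Check (compT [0, 1, 20, 8, 16, 10, 4, 23, 12, 14, 21, 2, 17, 13, 18, 5, 9, 7, 22, 3, 15, 11, 6, 19] l)) = true := by
  decide +kernel

theorem o22_c18_1 : l960Tabs.all (fun l => o22Check (compT [0, 1, 20, 16, 19, 3, 8, 13, 7, 23, 6, 21, 9, 12, 10, 5, 2, 14, 4, 11, 18, 15, 17, 22] l)) = true := by
  decide +kernel

theorem o22_c18_2 : l960Tabs.all (fun l => o22Check (compT [0, 1, 20, 10, 16, 11, 9, 22, 19, 2, 3, 15, 14, 17, 6, 18, 8, 12, 5, 7, 13, 4, 23, 21] l)) = true := by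
  decide +kernel

theorem o22_c18_3 : l960Tabs.all (fun l => o22Check (compT [0, 1, 20, 4, 23, 10, 21, 19, 16, 9, 3, 7, 11, 6, 17, 12, 18, 13, 2, 15, 8, 14, 22, 5] l)) = true := by
  decide +kernel

theorem o22_c18_4 : l960Tabs.all (fun l => o22Check (compT [0, 1, 20, 23, 4, 8, 5, 19, 13, 6, 11, 18, 3, 9, 17, 12, 7, 16, 2, 14, 10, 15, 22, 21] l)) = true := by
  decide +kernel

theorem o22_c18_5 : l960Tabs.all (fun l => o22Check (compT [0, 1, 20, 12, 6, 4, 17, 21, 3, 2, 11, 22, 10, 13, 15, 5, 9, 18, 14, 8, 7, 23, 19, 16] l)) = true := by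
  decide +kernel

theorem o22_c18_6 : l960Tabs.all (fun l => o22Check (compT [0, 1, 20, 14, 12, 8, 10, 13, 21, 3, 23, 22, 7, 18, 6, 19, 15, 2, 9, 5, 11, 17, 16, 4] l)) = true := by
  decide +kernel

theorem o22_c18_7 : l960Tabs.all (fun l => o22Check (compT [0, 1, 20, 21, 19, 10, 3, 5, 23, 18, 15, 13, 14, 22, 11, 16, 17, 6, 7, 8, 4, 9, 2, 12] l)) = true := by
  decide +kernel

theorem o22_c18_8 : l960Tabs.all (fun l => o22Check (compT [0, 1, 20, 2, 16, 18, 10, 5, 14, 15, 11, 23, 7, 19, 3, 8, 6, 21, 12, 4, 22, 17, 9, 13] l)) = true := by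
  decide +kernel

theorem o22_c18_9 : l960Tabs.all (fun l => o22Check (compT [0, 1, 20, 17, 19, 3, 10, 2, 8, 4, 12, 13, 22, 14, 7, 16, 21, 6, 11, 23, 18, 9, 5, 15] l)) = true := by
  decide +kernel

theorem o22_c18_10 : l960Tabs.all (fun l => o22Check (compT [0, 1, 20, 13, 19, 11, 10, 16, 18, 4, 9, 5, 6, 12, 8, 21, 2, 15, 23, 3, 7, 14, 17, 22] l)) = true := by
  decide +kernel

theorem o22_c18_11 : l960Tabs.all (fun l => o22Check (compT [0, 1, 20, 18, 8, 3, 17, 19, 16, 9, 10, 11, 7, 6, 21, 15, 4, 13, 5, 12, 23, 22, 14, 2] l)) = true := by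
  decide +kernel

theorem o22_c18_12 : l960Tabs.all (fun l => o22Check (compT [0, 1, 20, 5, 19, 8, 11, 21, 4, 7, 14, 16, 15, 22, 3, 13, 17, 9, 18, 10, 23, 6, 2, 12] l)) = true := by
  decide +kernel

theorem o22_c18_13 : l960Tabs.all (fun l => o22Check (compT [0, 1, 20, 9, 22, 11, 3, 21, 16, 8, 7, 12, 4, 23, 14, 19, 6, 17, 15, 13, 10, 2, 5, 18] l)) = true := by
  decide +kernel

theorem o22_c18_14 : l960Tabs.all (fun l => o22Check (compT [0, 1, 20, 7, 18, 11, 13, 19, 21, 14, 10, 23, 8, 15, 2, 22, 4, 5, 17, 9, 3, 6, 12, 16] l)) = true := by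
  decide +kernel

theorem o22_c18_15 : l960Tabs.all (fun l => o22Check (compT [0, 1, 20, 22, 14, 18, 2, 16, 8, 17, 10, 12, 3, 21, 6, 13, 15, 23, 9, 11, 4, 7, 19, 5] l)) = true := by
  decide +kernel

theorem o22_c18_16 : l960Tabs.all (fun l => o22Check (compT [0, 1, 20, 3, 5, 10, 15, 12, 19, 17, 8, 6, 9, 2, 14, 23, 11, 22, 13, 4, 21, 18, 7, 16] l)) = true := by
  decide +kernel

theorem o22_c18_17 : l960Tabs.all (fun l => o22Check (compT [0, 1, 20, 15, 12, 10, 8, 16, 5, 11, 4, 22, 18, 7, 9, 19, 14, 2, 6, 21, 3, 17, 13, 23] l)) = true := by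
  decide +kernel

theorem o22_c18_18 : l960Tabs.all (fun l => o22Check (compT [0, 1, 20, 11, 21, 8, 14, 12, 19, 17, 10, 9, 6, 2, 15, 4, 3, 22, 16, 23, 5, 7, 18, 13] l)) = true := by
  decide +kernel

theorem o22_c18_19 : l960Tabs.all (fun l => o22Check (compT [0, 1, 20, 6, 22, 3, 11, 5, 13, 10, 18, 12, 23, 4, 15, 19, 9, 17, 14, 16, 8, 2, 21, 7] l)) = true := by
  decide +kernel

theorem o22_c18_20 : l960Tabs.all (fun l => o22Check (compT [0, 1, 20, 19, 7, 15, 9, 8, 4, 6, 18, 13, 10, 2, 21, 23, 11, 14, 17, 3, 22, 12, 16, 5] l)) = true := by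
  decide +kernel

theorem o22_chunk_18 : ∀ tt ∈ o22TT_18, l960Tabs.all (fun l => o22Check (compT tt l)) = true := by
  intro tt ht
  simp only [o22TT_18, List.mem_cons, List.not_mem_nil, or_false] at ht
  rcases ht with rfl | rfl | rfl | rfl | rfl | rfl | rfl | rfl | rfl | rfl | rfl | rfl | rfl | rfl | rfl | rfl | rfl | rfl | rfl | rfl | rfl
  · exact o22_c18_0
  · exact o22_c18_1
  · exact o22_c18_2
  · exact o22_c18_3
  · exact o22_c18_4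
  · exact o22_c18_5
  · exact o22_c18_6
  · exact o22_c18_7
  · exact o22_c18_8
  · exact o22_c18_9
  · exact o22_c18_10
  · exact o22_c18_11
  · exact o22_c18_12
  · exact o22_c18_13
  · exact o22_c18_14
  · exact o22_c18_15
  · exact o22_c18_16
  · exact o22_c18_17
  · exact o22_c18_18
  · exact o22_c18_19
  · exact o22_c18_20

end Cfsg.Agent.Helper7
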