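import Cfsg.Agent.Helper7.M22OutData
import Cfsg.Agent.Helper7.M22OutEnum18

/-!
# The outer automorphism group of `M22` has order 2 (enumeration, part 19)
-/

set_option autoImplicit false

namespace Cfsg.Agent.Helper7

/-- Products of a table of the first level with the tables of the second level. -/
def o22TT_19 : List (List ℕ) := [
  [0, 1, 21, 23, 22, 20, 18, 12, 19, 4, 15, 10, 3, 13, 16, 2, 6, 8, 9, 7, 11, 5, 14, 17],
  [0, 1, 21, 22, 17, 7, 23, 13, 8, 12, 14, 15, 6, 19, 20, 2, 10, 4, 18, 5, 16, 11, 3, 9],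
  [0, 1, 21, 20, 22, 5, 6, 9, 17, 10, 7, 11, 4, 3, 14, 16, 23, 19, 2, 8, 13, 18, 12, 15],
  [0, 1, 21, 18, 12, 20, 15, 17, 22, 6, 7, 8, 5, 14, 3, 19, 16, 13, 10, 11, 23, 4, 9, 2],
  [0, 1, 21, 12, 18, 23, 2, 17, 13, 14, 5, 16, 7, 6, 3, 19, 8, 22, 10, 4, 20, 11, 9, 15],
  [0, 1, 21, 19, 14, 18, 3, 15, 7, 10, 5, 9, 20, 13, 11, 2, 6, 16, 4, 23, 8, 12, 17, 22],
  [0, 1, 21, 4, 19, 23, 20, 13, 15, 7, 12, 9, 8, 16, 14, 17, 11, 10, 6, 2, 5, 3, 22, 18],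
  [0, 1, 21, 15, 17, 20, 7, 2, 12, 16, 11, 13, 4, 9, 5, 22, 3, 14, 8, 23, 18, 6, 10, 19],
  [0, 1, 21, 10, 22, 16, 20, 2, 4, 11, 5, 12, 8, 17, 7, 23, 14, 15, 19, 18, 9, 3, 6, 13],
  [0, 1, 21, 3, 17, 7, 20, 10, 23, 18, 19, 13, 9, 4, 8, 22, 15, 14, 5, 12, 16, 6, 2, 11],
  [0, 1, 21, 13, 17, 5, 20, 22, 16, 18, 6, 2, 14, 19, 23, 15, 10, 11, 12, 7, 8, 4, 3, 9],
  [0, 1, 21, 16, 23, 7, 3, 17, 22, 6, 20, 5, 8, 14, 15, 11, 18, 13, 2, 19, 12, 9, 4, 10],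
  [0, 1, 21, 2, 17, 23, 5, 15, 18, 8, 4, 22, 11, 9, 7, 13, 3, 6, 16, 20, 12, 14, 10, 19],
  [0, 1, 21, 6, 9, 5, 7, 15, 22, 23, 8, 19, 18, 12, 4, 17, 14, 3, 11, 13, 20, 10, 2, 16],
  [0, 1, 21, 8, 16, 5, 13, 17, 15, 4, 20, 12, 23, 11, 10, 9, 18, 2, 3, 6, 7, 14, 19, 22],
  [0, 1, 21, 9, 4, 16, 10, 22, 23, 3, 20, 19, 7, 15, 14, 13, 11, 12, 6, 5, 18, 8, 17, 2],
  [0, 1, 21, 7, 2, 20, 11, 19, 17, 3, 23, 14, 6, 10, 4, 12, 5, 9, 13, 18, 15, 16, 8, 22],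
  [0, 1, 21, 11, 19, 20, 23, 22, 2, 5, 18, 9, 16, 8, 6, 17, 4, 10, 14, 15, 7, 3, 13, 12],
  [0, 1, 21, 5, 15, 23, 4, 19, 17, 3, 20, 6, 14, 10, 11, 18, 7, 9, 22, 12, 2, 8, 16, 13],
  [0, 1, 21, 14, 9, 7, 5, 2, 13, 20, 16, 19, 12, 18, 11, 17, 6, 3, 4, 22, 23, 10, 15, 8],
  [0, 1, 21, 17, 8, 11, 6, 23, 18, 14, 16, 13, 20, 10, 15, 12, 5, 4, 3, 7, 9, 19, 22, 2]
]

theorem o22TT_19_eq : o22Snd.map (compT o22T19) = o22TT_19 := by decide +kernel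

theorem o22_c19_0 : l960Tabs.all (fun l => o22Check (compT [0, 1, 21, 23, 22, 20, 18, 12, 19, 4, 15, 10, 3, 13, 16, 2, 6, 8, 9, 7, 11, 5, 14, 17] l)) = true := by
  decide +kernel

theorem o22_c19_1 : l960Tabs.all (fun l => o22Check (compT [0, 1, 21, 22, 17, 7, 23, 13, 8, 12, 14, 15, 6, 19, 20, 2, 10, 4, 18, 5, 16, 11, 3, 9] l)) = true := by
  decide +kernel

theorem o22_c19_2 : l960Tabs.all (fun l => o22Check (compT [0, 1, 21, 20, 22, 5, 6, 9, 17, 10, 7, 11, 4, 3, 14, 16, 23, 19, 2, 8, 13, 18, 12, 15] l)) = true := by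
  decide +kernel

theorem o22_c19_3 : l960Tabs.all (fun l => o22Check (compT [0, 1, 21, 18, 12, 20, 15, 17, 22, 6, 7, 8, 5, 14, 3, 19, 16, 13, 10, 11, 23, 4, 9, 2] l)) = true := by
  decide +kernel

theorem o22_c19_4 : l960Tabs.all (fun l => o22Check (compT [0, 1, 21, 12, 18, 23, 2, 17, 13, 14, 5, 16, 7, 6, 3, 19, 8, 22, 10, 4, 20, 11, 9, 15] l)) = true := by
  decide +kernel

theorem o22_c19_5 : l960Tabs.all (fun l => o22Check (compT [0, 1, 21, 19, 14, 18, 3, 15, 7, 10, 5, 9, 20, 13, 11, 2, 6, 16, 4, 23, 8, 12, 17, 22] l)) = true := by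
  decide +kernel

theorem o22_c19_6 : l960Tabs.all (fun l => o22Check (compT [0, 1, 21, 4, 19, 23, 20, 13, 15, 7, 12, 9, 8, 16, 14, 17, 11, 10, 6, 2, 5, 3, 22, 18] l)) = true := by
  decide +kernel

theorem o22_c19_7 : l960Tabs.all (fun l => o22Check (compT [0, 1, 21, 15, 17, 20, 7, 2, 12, 16, 11, 13, 4, 9, 5, 22, 3, 14, 8, 23, 18, 6, 10, 19] l)) = true := by
  decide +kernel

theorem o22_c19_8 : l960Tabs.all (fun l => o22Check (compT [0, 1, 21, 10, 22, 16, 20, 2, 4, 11, 5, 12, 8, 17, 7, 23, 14, 15, 19, 18, 9, 3, 6, 13] l)) = true := by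
  decide +kernel

theorem o22_c19_9 : l960Tabs.all (fun l => o22Check (compT [0, 1, 21, 3, 17, 7, 20, 10, 23, 18, 19, 13, 9, 4, 8, 22, 15, 14, 5, 12, 16, 6, 2, 11] l)) = true := by
  decide +kernel

theorem o22_c19_10 : l960Tabs.all (fun l => o22Check (compT [0, 1, 21, 13, 17, 5, 20, 22, 16, 18, 6, 2, 14, 19, 23, 15, 10, 11, 12, 7, 8, 4, 3, 9] l)) = true := by
  decide +kernel

theorem o22_c19_11 : l960Tabs.all (fun l => o22Check (compT [0, 1, 21, 16, 23, 7, 3, 17, 22, 6, 20, 5, 8, 14, 15, 11, 18, 13, 2, 19, 12, 9, 4, 10] l)) = true := by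
  decide +kernel

theorem o22_c19_12 : l960Tabs.all (fun l => o22Check (compT [0, 1, 21, 2, 17, 23, 5, 15, 18, 8, 4, 22, 11, 9, 7, 13, 3, 6, 16, 20, 12, 14, 10, 19] l)) = true := by
  decide +kernel

theorem o22_c19_13 : l960Tabs.all (fun l => o22Check (compT [0, 1, 21, 6, 9, 5, 7, 15, 22, 23, 8, 19, 18, 12, 4, 17, 14, 3, 11, 13, 20, 10, 2, 16] l)) = true := by
  decide +kernel

theorem o22_c19_14 : l960Tabs.all (fun l => o22Check (compT [0, 1, 21, 8, 16, 5, 13, 17, 15, 4, 20, 12, 23, 11, 10, 9, 18, 2, 3, 6, 7, 14, 19, 22] l)) = true := by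
  decide +kernel

theorem o22_c19_15 : l960Tabs.all (fun l => o22Check (compT [0, 1, 21, 9, 4, 16, 10, 22, 23, 3, 20, 19, 7, 15, 14, 13, 11, 12, 6, 5, 18, 8, 17, 2] l)) = true := by
  decide +kernel

theorem o22_c19_16 : l960Tabs.all (fun l => o22Check (compT [0, 1, 21, 7, 2, 20, 11, 19, 17, 3, 23, 14, 6, 10, 4, 12, 5, 9, 13, 18, 15, 16, 8, 22] l)) = true := by
  decide +kernel

theorem o22_c19_17 : l960Tabs.all (fun l => o22Check (compT [0, 1, 21, 11, 19, 20, 23, 22, 2, 5, 18, 9, 16, 8, 6, 17, 4, 10, 14, 15, 7, 3, 13, 12] l)) = true := by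
  decide +kernel

theorem o22_c19_18 : l960Tabs.all (fun l => o22Check (compT [0, 1, 21, 5, 15, 23, 4, 19, 17, 3, 20, 6, 14, 10, 11, 18, 7, 9, 22, 12, 2, 8, 16, 13] l)) = true := by
  decide +kernel

theorem o22_c19_19 : l960Tabs.all (fun l => o22Check (compT [0, 1, 21, 14, 9, 7, 5, 2, 13, 20, 16, 19, 12, 18, 11, 17, 6, 3, 4, 22, 23, 10, 15, 8] l)) = true := by
  decide +kernel

theorem o22_c19_20 : l960Tabs.all (fun l => o22Check (compT [0, 1, 21, 17, 8, 11, 6, 23, 18, 14, 16, 13, 20, 10, 15, 12, 5, 4, 3, 7, 9, 19, 22, 2] l)) = true := by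
  decide +kernel

theorem o22_chunk_19 : ∀ tt ∈ o22TT_19, l960Tabs.all (fun l => o22Check (compT tt l)) = true := by
  intro tt ht
  simp only [o22TT_19, List.mem_cons, List.not_mem_nil, or_false] at ht
  rcases ht with rfl | rfl | rfl | rfl | rfl | rfl | rfl | rfl | rfl | rfl | rfl | rfl | rfl | rfl | rfl | rfl | rfl | rfl | rfl | rfl | rfl
  · exact o22_c19_0
  · exact o22_c19_1
  · exact o22_c19_2
  · exact o22_c19_3
  · exact o22_c19_4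
  · exact o22_c19_5
  · exact o22_c19_6
  · exact o22_c19_7
  · exact o22_c19_8
  · exact o22_c19_9
  · exact o22_c19_10
  · exact o22_c19_11
  · exact o22_c19_12
  · exact o22_c19_13
  · exact o22_c19_14
  · exact o22_c19_15
  · exact o22_c19_16
  · exact o22_c19_17
  · exact o22_c19_18
  · exact o22_c19_19
  · exact o22_c19_20

end Cfsg.Agent.Helper7
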