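import Cfsg.Agent.Helper7.M22OutData
import Cfsg.Agent.Helper7.M22OutEnum20

/-!
# The outer automorphism group of `M22` has order 2 (enumeration, part 21)
-/

set_option autoImplicit false

namespace Cfsg.Agent.Helper7

/-- Products of a table of the first level with the tables of the second level. -/
def o22TT_21 : List (List ℕ) := [
  [0, 1, 23, 17, 21, 5, 7, 16, 6, 11, 20, 10, 8, 15, 2, 4, 12, 14, 13, 9, 19, 18, 22, 3],
  [0, 1, 23, 21, 3, 9, 17, 15, 14, 16, 22, 20, 12, 6, 5, 4, 10, 11, 7, 18, 2, 19, 8, 13],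
  [0, 1, 23, 5, 21, 18, 12, 13, 3, 10, 9, 19, 11, 8, 22, 2, 17, 6, 4, 14, 15, 7, 16, 20],
  [0, 1, 23, 7, 16, 5, 20, 3, 21, 12, 9, 14, 18, 22, 8, 6, 2, 15, 10, 19, 17, 11, 13, 4],
  [0, 1, 23, 16, 7, 17, 4, 3, 15, 22, 18, 2, 9, 12, 8, 6, 14, 21, 10, 11, 5, 19, 13, 20],
  [0, 1, 23, 6, 22, 7, 8, 20, 9, 10, 18, 13, 5, 15, 19, 4, 12, 2, 11, 17, 14, 16, 3, 21],
  [0, 1, 23, 11, 6, 17, 5, 15, 20, 9, 16, 13, 14, 2, 22, 3, 19, 10, 12, 4, 18, 8, 21, 7],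
  [0, 1, 23, 20, 3, 5, 9, 4, 16, 2, 19, 15, 11, 13, 18, 21, 8, 22, 14, 17, 7, 12, 10, 6],
  [0, 1, 23, 10, 21, 2, 5, 4, 11, 19, 18, 16, 14, 3, 9, 17, 22, 20, 6, 7, 13, 8, 12, 15],
  [0, 1, 23, 8, 3, 9, 5, 10, 17, 7, 6, 15, 13, 11, 14, 21, 20, 22, 18, 16, 2, 12, 4, 19],
  [0, 1, 23, 15, 3, 18, 5, 21, 2, 7, 12, 4, 22, 6, 17, 20, 10, 19, 16, 9, 14, 11, 8, 13],
  [0, 1, 23, 2, 17, 9, 8, 3, 21, 12, 5, 18, 14, 22, 20, 19, 7, 15, 4, 6, 16, 13, 11, 10],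
  [0, 1, 23, 4, 3, 17, 18, 20, 7, 14, 11, 21, 19, 13, 9, 15, 8, 12, 2, 5, 16, 22, 10, 6],
  [0, 1, 23, 12, 13, 18, 9, 20, 21, 17, 14, 6, 7, 16, 11, 3, 22, 8, 19, 15, 5, 10, 4, 2],
  [0, 1, 23, 14, 2, 18, 15, 3, 20, 11, 5, 16, 17, 19, 10, 13, 7, 4, 8, 12, 9, 22, 6, 21],
  [0, 1, 23, 13, 11, 2, 10, 21, 17, 8, 5, 6, 9, 20, 22, 15, 19, 16, 12, 18, 7, 14, 3, 4],
  [0, 1, 23, 9, 4, 5, 19, 6, 3, 8, 17, 22, 12, 10, 11, 16, 18, 13, 15, 7, 20, 2, 14, 21],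
  [0, 1, 23, 19, 6, 5, 17, 21, 4, 18, 7, 13, 2, 14, 12, 3, 11, 10, 22, 20, 9, 8, 15, 16],
  [0, 1, 23, 18, 20, 17, 11, 6, 3, 8, 5, 12, 22, 10, 19, 7, 9, 13, 21, 16, 4, 14, 2, 15],
  [0, 1, 23, 22, 13, 9, 18, 4, 15, 5, 2, 6, 16, 7, 19, 3, 12, 8, 11, 21, 17, 10, 20, 14],
  [0, 1, 23, 3, 14, 19, 12, 17, 7, 22, 2, 15, 5, 10, 20, 16, 18, 11, 8, 9, 13, 6, 21, 4]
]

theorem o22TT_21_eq : o22Snd.map (compT o22T21) = o22TT_21 := by decide +kernel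

theorem o22_c21_0 : l960Tabs.all (fun l => o22Check (compT [0, 1, 23, 17, 21, 5, 7, 16, 6, 11, 20, 10, 8, 15, 2, 4, 12, 14, 13, 9, 19, 18, 22, 3] l)) = true := by
  decide +kernel

theorem o22_c21_1 : l960Tabs.all (fun l => o22Check (compT [0, 1, 23, 21, 3, 9, 17, 15, 14, 16, 22, 20, 12, 6, 5, 4, 10, 11, 7, 18, 2, 19, 8, 13] l)) = true := by
  decide +kernel

theorem o22_c21_2 : l960Tabs.all (fun l => o22Check (compT [0, 1, 23, 5, 21, 18, 12, 13, 3, 10, 9, 19, 11, 8, 22, 2, 17, 6, 4, 14, 15, 7, 16, 20] l)) = true := by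
  decide +kernel

theorem o22_c21_3 : l960Tabs.all (fun l => o22Check (compT [0, 1, 23, 7, 16, 5, 20, 3, 21, 12, 9, 14, 18, 22, 8, 6, 2, 15, 10, 19, 17, 11, 13, 4] l)) = true := by
  decide +kernel

theorem o22_c21_4 : l960Tabs.all (fun l => o22Check (compT [0, 1, 23, 16, 7, 17, 4, 3, 15, 22, 18, 2, 9, 12, 8, 6, 14, 21, 10, 11, 5, 19, 13, 20] l)) = true := by
  decide +kernel

theorem o22_c21_5 : l960Tabs.all (fun l => o22Check (compT [0, 1, 23, 6, 22, 7, 8, 20, 9, 10, 18, 13, 5, 15, 19, 4, 12, 2, 11, 17, 14, 16, 3, 21] l)) = true := by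
  decide +kernel

theorem o22_c21_6 : l960Tabs.all (fun l => o22Check (compT [0, 1, 23, 11, 6, 17, 5, 15, 20, 9, 16, 13, 14, 2, 22, 3, 19, 10, 12, 4, 18, 8, 21, 7] l)) = true := by
  decide +kernel

theorem o22_c21_7 : l960Tabs.all (fun l => o22Check (compT [0, 1, 23, 20, 3, 5, 9, 4, 16, 2, 19, 15, 11, 13, 18, 21, 8, 22, 14, 17, 7, 12, 10, 6] l)) = true := by
  decide +kernel

theorem o22_c21_8 : l960Tabs.all (fun l => o22Check (compT [0, 1, 23, 10, 21, 2, 5, 4, 11, 19, 18, 16, 14, 3, 9, 17, 22, 20, 6, 7, 13, 8, 12, 15] l)) = true := by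
  decide +kernel

theorem o22_c21_9 : l960Tabs.all (fun l => o22Check (compT [0, 1, 23, 8, 3, 9, 5, 10, 17, 7, 6, 15, 13, 11, 14, 21, 20, 22, 18, 16, 2, 12, 4, 19] l)) = true := by
  decide +kernel

theorem o22_c21_10 : l960Tabs.all (fun l => o22Check (compT [0, 1, 23, 15, 3, 18, 5, 21, 2, 7, 12, 4, 22, 6, 17, 20, 10, 19, 16, 9, 14, 11, 8, 13] l)) = true := by
  decide +kernel

theorem o22_c21_11 : l960Tabs.all (fun l => o22Check (compT [0, 1, 23, 2, 17, 9, 8, 3, 21, 12, 5, 18, 14, 22, 20, 19, 7, 15, 4, 6, 16, 13, 11, 10] l)) = true := by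
  decide +kernel

theorem o22_c21_12 : l960Tabs.all (fun l => o22Check (compT [0, 1, 23, 4, 3, 17, 18, 20, 7, 14, 11, 21, 19, 13, 9, 15, 8, 12, 2, 5, 16, 22, 10, 6] l)) = true := by
  decide +kernel

theorem o22_c21_13 : l960Tabs.all (fun l => o22Check (compT [0, 1, 23, 12, 13, 18, 9, 20, 21, 17, 14, 6, 7, 16, 11, 3, 22, 8, 19, 15, 5, 10, 4, 2] l)) = true := by
  decide +kernel

theorem o22_c21_14 : l960Tabs.all (fun l => o22Check (compT [0, 1, 23, 14, 2, 18, 15, 3, 20, 11, 5, 16, 17, 19, 10, 13, 7, 4, 8, 12, 9, 22, 6, 21] l)) = true := by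
  decide +kernel

theorem o22_c21_15 : l960Tabs.all (fun l => o22Check (compT [0, 1, 23, 13, 11, 2, 10, 21, 17, 8, 5, 6, 9, 20, 22, 15, 19, 16, 12, 18, 7, 14, 3, 4] l)) = true := by
  decide +kernel

theorem o22_c21_16 : l960Tabs.all (fun l => o22Check (compT [0, 1, 23, 9, 4, 5, 19, 6, 3, 8, 17, 22, 12, 10, 11, 16, 18, 13, 15, 7, 20, 2, 14, 21] l)) = true := by
  decide +kernel

theorem o22_c21_17 : l960Tabs.all (fun l => o22Check (compT [0, 1, 23, 19, 6, 5, 17, 21, 4, 18, 7, 13, 2, 14, 12, 3, 11, 10, 22, 20, 9, 8, 15, 16] l)) = true := by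
  decide +kernel

theorem o22_c21_18 : l960Tabs.all (fun l => o22Check (compT [0, 1, 23, 18, 20, 17, 11, 6, 3, 8, 5, 12, 22, 10, 19, 7, 9, 13, 21, 16, 4, 14, 2, 15] l)) = true := by
  decide +kernel

theorem o22_c21_19 : l960Tabs.all (fun l => o22Check (compT [0, 1, 23, 22, 13, 9, 18, 4, 15, 5, 2, 6, 16, 7, 19, 3, 12, 8, 11, 21, 17, 10, 20, 14] l)) = true := by
  decide +kernel

theorem o22_c21_20 : l960Tabs.all (fun l => o22Check (compT [0, 1, 23, 3, 14, 19, 12, 17, 7, 22, 2, 15, 5, 10, 20, 16, 18, 11, 8, 9, 13, 6, 21, 4] l)) = true := by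
  decide +kernel

theorem o22_chunk_21 : ∀ tt ∈ o22TT_21, l960Tabs.all (fun l => o22Check (compT tt l)) = true := by
  intro tt ht
  simp only [o22TT_21, List.mem_cons, List.not_mem_nil, or_false] at ht
  rcases ht with rfl | rfl | rfl | rfl | rfl | rfl | rfl | rfl | rfl | rfl | rfl | rfl | rfl | rfl | rfl | rfl | rfl | rfl | rfl | rfl | rfl
  · exact o22_c21_0
  · exact o22_c21_1
  · exact o22_c21_2
  · exact o22_c21_3
  · exact o22_c21_4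
  · exact o22_c21_5
  · exact o22_c21_6
  · exact o22_c21_7
  · exact o22_c21_8
  · exact o22_c21_9
  · exact o22_c21_10
  · exact o22_c21_11
  · exact o22_c21_12
  · exact o22_c21_13
  · exact o22_c21_14
  · exact o22_c21_15
  · exact o22_c21_16
  · exact o22_c21_17
  · exact o22_c21_18
  · exact o22_c21_19
  · exact o22_c21_20

end Cfsg.Agent.Helper7
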