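import Cfsg.Agent.Helper7.M22OutEnum0
import Cfsg.Agent.Helper7.M22OutEnum1
import Cfsg.Agent.Helper7.M22OutEnum2
import Cfsg.Agent.Helper7.M22OutEnum3
import Cfsg.Agent.Helper7.M22OutEnum4
import Cfsg.Agent.Helper7.M22OutEnum5
import Cfsg.Agent.Helper7.M22OutEnum6
import Cfsg.Agent.Helper7.M22OutEnum7
import Cfsg.Agent.Helper7.M22OutEnum8
import Cfsg.Agent.Helper7.M22OutEnum9
import Cfsg.Agent.Helper7.M22OutEnum10
import Cfsg.Agent.Helper7.M22OutEnum11
import Cfsg.Agent.Helper7.M22OutEnum12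
import Cfsg.Agent.Helper7.M22OutEnum13
import Cfsg.Agent.Helper7.M22OutEnum14
import Cfsg.Agent.Helper7.M22OutEnum15
import Cfsg.Agent.Helper7.M22OutEnum16
import Cfsg.Agent.Helper7.M22OutEnum17
import Cfsg.Agent.Helper7.M22OutEnum18
import Cfsg.Agent.Helper7.M22OutEnum19
import Cfsg.Agent.Helper7.M22OutEnum20
import Cfsg.Agent.Helper7.M22OutEnum21
import Cfsg.Agent.Helper7.OutTwo
import Cfsg.Agent.Helper7.OutCongr
import Cfsg.Agent.Helper7.M11Out

/-!
# The outer automorphism group of `M22` has order 2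
-/

set_option autoImplicit false

namespace Cfsg.Agent.Helper7

open Cfsg MulAction
open scoped Pointwise

/-- The relations used to pin down the second generator. -/
def Rel22 {G : Type*} [Group G] (x y : G) : Prop :=
  y * y = 1 ∧ y ≠ 1 ∧ ((x * x) * y) ^ 11 = 1 ∧ (x * y) ^ 7 = 1 ∧
    (x * (y * ((x * x) * y))) ^ 6 = 1 ∧
    (x * (y * ((x * x) * (y * ((x * (x * x)) * y))))) ^ 5 = 1

theorem rel22_map_iff {G H : Type*} [Group G] [Group H] (f : G →* H) (hf : Function.Injective f)
    (x y : G) : Rel22 (f x) (f y) ↔ Rel22 x y := by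
  unfold Rel22
  simp only [← map_mul, ← map_pow, map_eq_one_iff f hf, Ne]

theorem o22Cond_iff {l : List ℕ} {x y : Equiv.Perm GolayPt} (hx : IsTable o22A x)
    (hy : IsTable l y) : o22Cond l = true ↔ Rel22 x y := by
  have t1 := hy.mul hy
  have t3 := ((hx.mul hx).mul hy).pow 11
  have t4 := (hx.mul hy).pow 7
  have t5 := (hx.mul (hy.mul ((hx.mul hx).mul hy))).pow 6
  have t6 := (hx.mul (hy.mul ((hx.mul hx).mul (hy.mul ((hx.mul (hx.mul hx)).mul hy))))).pow 5
  unfold o22Cond Rel22
  rw [Bool.and_eq_true, Bool.and_eq_true, Bool.and_eq_true, Bool.and_eq_true, Bool.and_eq_true,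
    beq_iff_eq, beq_iff_eq, beq_iff_eq, beq_iff_eq, beq_iff_eq,
    Bool.not_eq_true', beq_eq_false_iff_ne, t1.eq_idT_iff, t3.eq_idT_iff, t4.eq_idT_iff,
    t5.eq_idT_iff, t6.eq_idT_iff, Ne, hy.eq_idT_iff]
  tauto

theorem baseRev_m24_two : baseRev m24Levels 2 ++ [] = [1, 0] := by decide +kernel

theorem m22_hok : chainOK [1, 0] m22Levels = true := by
  have h := chainOK_drop (F := []) 2 m24_chainOK
  rwa [baseRev_m24_two] at h

theorem m22_hB : Bounds M24 [1, 0] m22Levels := by
  have h := bounds_drop (F := []) 2 m24_bounds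
  rwa [baseRev_m24_two] at h

theorem m22_hT : ∀ L ∈ m22Levels, ∀ l ∈ L.T, Tabled M24 l :=
  fun L hL l hl => tabled_m24Levels L (List.mem_of_mem_drop hL) l hl

theorem m22_hT' : ∀ L ∈ m22Levels, ∀ l ∈ L.T, Tabled (fixG M24 [1, 0]) l :=
  tabled_fixG_of_chainOK m22_hT m22_hok (by decide)

theorem tabled_m22_prodAt (is : List ℕ) : Tabled (fixG M24 [1, 0]) (prodAt m22Levels is) :=
  tabled_prodAt m22Levels m22_hT' is

theorem isTable_assoc {t u l : List ℕ} {g gt gu gl : Equiv.Perm GolayPt} (ht : IsTable t gt)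
    (hu : IsTable u gu) (hl : IsTable l gl) (h : IsTable (compT t (compT u l)) g) :
    IsTable (compT (compT t u) l) g := by
  have h1 := ht.mul (hu.mul hl)
  have e : g = gt * (gu * gl) := h.inj h1
  rw [e, ← mul_assoc]
  exact (ht.mul hu).mul hl

/-- Every element of the stabiliser of the points `0`, `1` is the product of a table of the first
level, a table of the second level and a table of the stabiliser of the points `2`, `3`. -/
theorem m22_sift : ∀ g ∈ fixG M24 [1, 0], ∃ t ∈ o22Top, ∃ u ∈ o22Snd, ∃ l ∈ l960Tabs,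
    IsTable (compT (compT t u) l) g := by
  intro g hg
  obtain ⟨l, hl, hlt⟩ := chain_sift m22_hT m22_hok m22_hB g hg
  have htop := o22Top_eq
  have hsnd := o22Snd_eq
  have hdrop : m24Levels.drop 4 = m22Levels.drop 2 := by
    rw [m22Levels, List.drop_drop]
  have hT := m22_hT
  unfold l960Tabs
  rw [hdrop]
  cases hL : m22Levels with
  | nil =>
    rw [hL] at htop
    simp at htop
  | cons L Ls =>
    cases hLs : Ls with
    | nil =>
      rw [hL, hLs] at hsnd
      simp at hsnd
    | cons L' Ls' =>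
      rw [hL, hLs] at hsnd hl hT
      rw [hL] at htop
      simp only [List.map_cons, List.head?_cons, Option.some.injEq] at htop
      simp only [List.map_cons, List.drop_succ_cons, List.drop_zero, List.head?_cons,
        Option.some.injEq] at hsnd
      rw [prodTables, List.mem_flatMap] at hl
      obtain ⟨t, ht, hl⟩ := hl
      rw [List.mem_map] at hl
      obtain ⟨l', hl', rfl⟩ := hl
      rw [prodTables, List.mem_flatMap] at hl'
      obtain ⟨u, hu, hl'⟩ := hl'
      rw [List.mem_map] at hl'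
      obtain ⟨l'', hl'', rfl⟩ := hl'
      obtain ⟨gt, _, htt⟩ := hT L (by simp) t ht
      obtain ⟨gu, _, hut⟩ := hT L' (by simp) u hu
      obtain ⟨gl, _, hlt'⟩ := tabled_prodTables Ls'
        (fun L0 hL0 => hT L0 (List.mem_cons_of_mem _ (List.mem_cons_of_mem _ hL0))) l'' hl''
      refine ⟨t, htop ▸ ht, u, hsnd ▸ hu, l'', ?_, isTable_assoc htt hut hlt' hlt⟩
      simpa using hl''

theorem o22Top_tabled : ∀ t ∈ o22Top, Tabled (fixG M24 [1, 0]) t := by
  intro t ht
  have htop := o22Top_eq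
  cases hL : m22Levels with
  | nil =>
    rw [hL] at htop
    simp at htop
  | cons L Ls =>
    rw [hL] at htop
    simp only [List.map_cons, List.head?_cons, Option.some.injEq] at htop
    have hLm : L ∈ m22Levels := by rw [hL]; exact List.mem_cons_self ..
    exact m22_hT' L hLm t (htop ▸ ht)

theorem o22_all : ∀ t ∈ o22Top, ∀ u ∈ o22Snd,
    l960Tabs.all (fun l => o22Check (compT (compT t u) l)) = true := by
  intro t ht u hu
  simp only [o22Top, List.mem_cons, List.not_mem_nil, or_false] at ht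
  rcases ht with rfl | rfl | rfl | rfl | rfl | rfl | rfl | rfl | rfl | rfl | rfl | rfl | rfl | rfl |
    rfl | rfl | rfl | rfl | rfl | rfl | rfl | rfl
  · have h := o22_chunk_0 (compT o22T0 u) (by rw [← o22TT_0_eq]; exact List.mem_map_of_mem hu)
    exact h
  · have h := o22_chunk_1 (compT o22T1 u) (by rw [← o22TT_1_eq]; exact List.mem_map_of_mem hu)
    exact h
  · have h := o22_chunk_2 (compT o22T2 u) (by rw [← o22TT_2_eq]; exact List.mem_map_of_mem hu)
    exact h
  · have h := o22_chunk_3 (compT o22T3 u) (by rw [← o22TT_3_eq]; exact List.mem_map_of_mem hu)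
    exact h
  · have h := o22_chunk_4 (compT o22T4 u) (by rw [← o22TT_4_eq]; exact List.mem_map_of_mem hu)
    exact h
  · have h := o22_chunk_5 (compT o22T5 u) (by rw [← o22TT_5_eq]; exact List.mem_map_of_mem hu)
    exact h
  · have h := o22_chunk_6 (compT o22T6 u) (by rw [← o22TT_6_eq]; exact List.mem_map_of_mem hu)
    exact h
  · have h := o22_chunk_7 (compT o22T7 u) (by rw [← o22TT_7_eq]; exact List.mem_map_of_mem hu)
    exact h
  · have h := o22_chunk_8 (compT o22T8 u) (by rw [← o22TT_8_eq]; exact List.mem_map_of_mem hu)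
    exact h
  · have h := o22_chunk_9 (compT o22T9 u) (by rw [← o22TT_9_eq]; exact List.mem_map_of_mem hu)
    exact h
  · have h := o22_chunk_10 (compT o22T10 u) (by rw [← o22TT_10_eq]; exact List.mem_map_of_mem hu)
    exact h
  · have h := o22_chunk_11 (compT o22T11 u) (by rw [← o22TT_11_eq]; exact List.mem_map_of_mem hu)
    exact h
  · have h := o22_chunk_12 (compT o22T12 u) (by rw [← o22TT_12_eq]; exact List.mem_map_of_mem hu)
    exact h
  · have h := o22_chunk_13 (compT o22T13 u) (by rw [← o22TT_13_eq]; exact List.mem_map_of_mem hu)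
    exact h
  · have h := o22_chunk_14 (compT o22T14 u) (by rw [← o22TT_14_eq]; exact List.mem_map_of_mem hu)
    exact h
  · have h := o22_chunk_15 (compT o22T15 u) (by rw [← o22TT_15_eq]; exact List.mem_map_of_mem hu)
    exact h
  · have h := o22_chunk_16 (compT o22T16 u) (by rw [← o22TT_16_eq]; exact List.mem_map_of_mem hu)
    exact h
  · have h := o22_chunk_17 (compT o22T17 u) (by rw [← o22TT_17_eq]; exact List.mem_map_of_mem hu)
    exact h
  · have h := o22_chunk_18 (compT o22T18 u) (by rw [← o22TT_18_eq]; exact List.mem_map_of_mem hu)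
    exact h
  · have h := o22_chunk_19 (compT o22T19 u) (by rw [← o22TT_19_eq]; exact List.mem_map_of_mem hu)
    exact h
  · have h := o22_chunk_20 (compT o22T20 u) (by rw [← o22TT_20_eq]; exact List.mem_map_of_mem hu)
    exact h
  · have h := o22_chunk_21 (compT o22T21 u) (by rw [← o22TT_21_eq]; exact List.mem_map_of_mem hu)
    exact h

theorem fact5_M22 : (Nat.card ↥(fixG M24 [1, 0])).factorization 5 = 1 := by
  have hcard : Nat.card ↥(fixG M24 [1, 0]) = 443520 := card_fixG_m24_2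
  rw [hcard]
  have hp : Nat.Prime 5 := by norm_num
  apply le_antisymm
  · by_contra hlt
    have h2 : 2 ≤ (443520 : ℕ).factorization 5 := by omega
    have := (hp.pow_dvd_iff_le_factorization (by norm_num)).2 h2
    revert this
    decide
  · exact (hp.pow_dvd_iff_le_factorization (by norm_num)).1 (by decide)

theorem mem_fixG_10 {g : Equiv.Perm GolayPt} :
    g ∈ fixG M24 [1, 0] ↔ g ∈ M24 ∧ g (pt 0) = pt 0 ∧ g (pt 1) = pt 1 := by
  rw [mem_fixG]
  constructor
  · rintro ⟨h1, h2⟩
    exact ⟨h1, h2 0 (by simp), h2 1 (by simp)⟩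
  · rintro ⟨h1, h2, h3⟩
    refine ⟨h1, fun i hi => ?_⟩
    rw [List.mem_cons, List.mem_singleton] at hi
    rcases hi with rfl | rfl
    · exact h3
    · exact h2

theorem o22Sw_getD : ∀ i, 2 ≤ i → i < 24 → o22Sw.getD i 0 = i := by decide

/-- There is a non-inner automorphism of the stabiliser of the points `0`, `1`. -/
theorem exists_noninner22 : ∃ τ : MulAut ↥(fixG M24 [1, 0]), τ ∉ Cfsg.Inn ↥(fixG M24 [1, 0]) := by
  obtain ⟨gs, hgs, hts⟩ : Tabled M24 o22S := by
    rw [← o22S_eq]; exact tabled_prodAt m24Levels tabled_m24Levels _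
  have hs0 : gs (pt 0) = pt 1 := by
    rw [hts.apply, idx_pt (by norm_num), o22S_swap.1]
  have hs1 : gs (pt 1) = pt 0 := by
    rw [hts.apply, idx_pt (by norm_num), o22S_swap.2]
  have hi0 : gs⁻¹ (pt 0) = pt 1 := by
    rw [← hs1]; exact gs.symm_apply_apply _
  have hi1 : gs⁻¹ (pt 1) = pt 0 := by
    rw [← hs0]; exact gs.symm_apply_apply _
  have hn1 : ∀ x ∈ fixG M24 [1, 0], gs * x * gs⁻¹ ∈ fixG M24 [1, 0] := by
    intro x hx
    rw [mem_fixG_10] at hx ⊢
    refine ⟨M24.mul_mem (M24.mul_mem hgs hx.1) (M24.inv_mem hgs), ?_, ?_⟩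
    · rw [Equiv.Perm.mul_apply, Equiv.Perm.mul_apply, hi0, hx.2.2, hs1]
    · rw [Equiv.Perm.mul_apply, Equiv.Perm.mul_apply, hi1, hx.2.1, hs0]
  have hn2 : ∀ x ∈ fixG M24 [1, 0], gs⁻¹ * x * gs ∈ fixG M24 [1, 0] := by
    intro x hx
    rw [mem_fixG_10] at hx ⊢
    refine ⟨M24.mul_mem (M24.mul_mem (M24.inv_mem hgs) hx.1) hgs, ?_, ?_⟩
    · rw [Equiv.Perm.mul_apply, Equiv.Perm.mul_apply, hs0, hx.2.2, hi1]
    · rw [Equiv.Perm.mul_apply, Equiv.Perm.mul_apply, hs1, hx.2.1, hi0]
  refine ⟨conjAutOf (fixG M24 [1, 0]) gs hn1 hn2, ?_⟩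
  rintro ⟨m, hm⟩
  have hmm := mem_fixG_10.mp m.2
  have hmi : (m : Equiv.Perm GolayPt)⁻¹ ∈ fixG M24 [1, 0] := (fixG M24 [1, 0]).inv_mem m.2
  have hmi' := mem_fixG_10.mp hmi
  set z : Equiv.Perm GolayPt := (m : Equiv.Perm GolayPt)⁻¹ * gs with hz
  -- `z` centralises the group
  have hcomm : ∀ x ∈ fixG M24 [1, 0], x * z = z * x := by
    intro x hx
    have h1 : MulAut.conj m ⟨x, hx⟩ = conjAutOf (fixG M24 [1, 0]) gs hn1 hn2 ⟨x, hx⟩ := by rw [hm]
    have h2 : (m : Equiv.Perm GolayPt) * x * (m : Equiv.Perm GolayPt)⁻¹ = gs * x * gs⁻¹ := by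
      have := congrArg Subtype.val h1
      rw [MulAut.conj_apply] at this
      exact this
    calc x * z = (m : Equiv.Perm GolayPt)⁻¹ * ((m : Equiv.Perm GolayPt) * x *
          (m : Equiv.Perm GolayPt)⁻¹) * gs := by rw [hz]; group
      _ = (m : Equiv.Perm GolayPt)⁻¹ * (gs * x * gs⁻¹) * gs := by rw [h2]
      _ = z * x := by rw [hz]; group
  have hcomm' : ∀ x ∈ fixG M24 [1, 0], ∀ p, x (z p) = z (x p) := by
    intro x hx p
    have := congrArg (fun f : Equiv.Perm GolayPt => f p) (hcomm x hx)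
    simpa only [Equiv.Perm.mul_apply] using this
  have hz0 : z (pt 0) = pt 1 := by
    rw [hz, Equiv.Perm.mul_apply, hs0, hmi'.2.2]
  have hz1 : z (pt 1) = pt 0 := by
    rw [hz, Equiv.Perm.mul_apply, hs1, hmi'.2.1]
  -- `z` fixes the point `2`
  obtain ⟨gx, hgx, htx⟩ : Tabled (fixG M24 [1, 0]) o22X := by
    rw [← o22X_eq]; exact tabled_m22_prodAt _
  have hx2 : gx (pt 2) = pt 2 := by
    rw [htx.apply, idx_pt (by norm_num)]
    have : o22X.getD 2 0 = 2 := by decide +kernel
    rw [this]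
  have hz2 : z (pt 2) = pt 2 := by
    have hfix : gx (z (pt 2)) = z (pt 2) := by rw [hcomm' gx hgx, hx2]
    have hX := o22X_fix
    rw [List.all_eq_true] at hX
    have h3 := hX (idx (z (pt 2))) (List.mem_range.mpr (idx_lt _))
    have h4 : o22X.getD (idx (z (pt 2))) 0 = idx (z (pt 2)) := by
      rw [← htx.2, hfix]
    rw [h4] at h3
    have h3' : idx (z (pt 2)) < 3 := by simpa using h3
    have hne0 : idx (z (pt 2)) ≠ 0 := by
      intro e
      have : z (pt 2) = pt 0 := by rw [← pt_idx (z (pt 2)), e]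
      rw [← hz1] at this
      have := z.injective this
      exact absurd (pt_injOn (by norm_num) (by norm_num) this) (by norm_num)
    have hne1 : idx (z (pt 2)) ≠ 1 := by
      intro e
      have : z (pt 2) = pt 1 := by rw [← pt_idx (z (pt 2)), e]
      rw [← hz0] at this
      have := z.injective this
      exact absurd (pt_injOn (by norm_num) (by norm_num) this) (by norm_num)
    have h5 : idx (z (pt 2)) = 2 := by omega
    rw [← pt_idx (z (pt 2)), h5]
  -- `z` fixes all other points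
  have hzq : ∀ q, 2 ≤ q → q < 24 → z (pt q) = pt q := by
    intro q hq2 hq24
    have hmem : q ∈ o22Top.map (fun t => t.getD 2 0) := by
      rw [o22Top_img, List.mem_range'_1]
      omega
    rw [List.mem_map] at hmem
    obtain ⟨t, ht, htq⟩ := hmem
    obtain ⟨gt, hgt, htt⟩ := o22Top_tabled t ht
    have h2q : gt (pt 2) = pt q := by
      rw [htt.apply, idx_pt (by norm_num), htq]
    rw [← h2q, ← hcomm' gt hgt, hz2]
  have hzT : IsTable o22Sw z := by
    refine ⟨rfl, fun p => ?_⟩
    have hp := idx_lt p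
    by_cases h0 : idx p = 0
    · have : p = pt 0 := by rw [← pt_idx p, h0]
      rw [this, hz0, idx_pt (by norm_num), idx_pt (by norm_num)]
      rfl
    by_cases h1 : idx p = 1
    · have : p = pt 1 := by rw [← pt_idx p, h1]
      rw [this, hz1, idx_pt (by norm_num), idx_pt (by norm_num)]
      rfl
    have h2 : 2 ≤ idx p := by omega
    rw [o22Sw_getD _ h2 hp]
    conv_lhs => rw [← pt_idx p]
    rw [hzq _ h2 hp, idx_pt hp]
  have hzM : z ∈ M24 := M24.mul_mem hmi'.1 hgs
  have hcode := enc_pullMask_of_mem_M24 hzT hzM (N := o22Oct) (by decide) o22Oct_code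
  have hno := o22Oct_sw
  rw [hcode] at hno
  simp at hno

theorem o22Ca_tabled : ∀ c ∈ o22Ca, Tabled (fixG M24 [1, 0]) c := by
  intro c hc
  rw [← o22Ca_eq, List.mem_map] at hc
  obtain ⟨i, _, rfl⟩ := hc
  exact tabled_m22_prodAt _

/-- The outer automorphism group of the stabiliser of the points `0`, `1` has order 2. -/
theorem inn_M22_index : (Cfsg.Inn ↥(fixG M24 [1, 0])).index = 2 := by
  obtain ⟨ga, hga, hta⟩ : Tabled (fixG M24 [1, 0]) o22A := by
    rw [← o22A_eq]; exact tabled_m22_prodAt _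
  obtain ⟨gb, hgb, htb⟩ : Tabled (fixG M24 [1, 0]) o22B := by
    rw [← o22B_eq]; exact tabled_m22_prodAt _
  obtain ⟨gn, hgn, htn⟩ : Tabled (fixG M24 [1, 0]) o22N := by
    rw [← o22N_eq]; exact tabled_m22_prodAt _
  obtain ⟨gb2, hgb2, htb2⟩ : Tabled (fixG M24 [1, 0]) o22B2 := by
    rw [← o22B2_eq]; exact tabled_m22_prodAt _
  obtain ⟨τ, hτ⟩ := exists_noninner22
  have hrel : Rel22 ga gb := (o22Cond_iff hta htb).mp o22B_cond
  have ha5 : ga ^ 5 = 1 := by
    have h := hta.pow 5
    rw [o22A_pow] at h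
    exact h.inj isTable_one
  have ha1 : ga ≠ 1 := by
    intro e
    have := (hta.eq_idT_iff).mpr e
    have h2 := o22A_ne
    rw [this] at h2
    simp at h2
  have hna : gn * ga * gn⁻¹ = ga ^ 2 := by
    have h := htn.mul (hta.mul htn.inv)
    rw [o22N_conj] at h
    rw [pow_two, mul_assoc]
    exact h.inj (hta.mul hta)
  have hord : orderOf (⟨ga, hga⟩ : ↥(fixG M24 [1, 0])) = 5 := by
    have : Fact (Nat.Prime 5) := ⟨by norm_num⟩
    apply orderOf_eq_prime
    · apply Subtype.ext
      rw [Subgroup.coe_pow]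
      exact ha5
    · intro e
      exact ha1 (congrArg Subtype.val e)
  apply inn_index_two_of_gens (⟨ga, hga⟩ : ↥(fixG M24 [1, 0])) ⟨gb, hgb⟩ ⟨gb2, hgb2⟩ _ _ _ τ hτ
  · -- generation
    set K : Subgroup (Equiv.Perm GolayPt) :=
      (Subgroup.closure ({⟨ga, hga⟩, ⟨gb, hgb⟩} : Set ↥(fixG M24 [1, 0]))).map
        (fixG M24 [1, 0]).subtype with hKdef
    have hKa : Tabled K o22A :=
      ⟨ga, ⟨⟨ga, hga⟩, Subgroup.subset_closure (by simp), rfl⟩, hta⟩
    have hKb : Tabled K o22B :=
      ⟨gb, ⟨⟨gb, hgb⟩, Subgroup.subset_closure (by simp), rfl⟩, htb⟩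
    have hfull : ∀ l ∈ (idT :: o22A :: o22B :: o22Out), Tabled K l := by
      intro l hl
      rw [List.mem_cons, List.mem_cons, List.mem_cons] at hl
      rcases hl with rfl | rfl | rfl | hl
      · exact tabled_idT _
      · exact hKa
      · exact hKb
      · refine tabled_of_checkSLP K o22Prog [o22B, o22A, idT] o22Out o22Out_ok ?_ l hl
        intro l' hl'
        simp only [List.mem_cons, List.not_mem_nil, or_false] at hl'
        rcases hl' with rfl | rfl | rfl
        · exact hKb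
        · exact hKa
        · exact tabled_idT _
    have hle : fixG M24 [1, 0] ≤ K :=
      chain_le (H := M24) (F := [1, 0]) (Ls := m22Levels) m22_hT m22_hok m22_hB
        (tabled_of_positions hfull o22_trans)
    rw [eq_top_iff]
    intro x _
    obtain ⟨y, hy, hyx⟩ := hle x.2
    have : y = x := Subtype.ext hyx
    rwa [← this]
  · -- images of the element of order 5
    intro φ
    apply exists_conj_eq_of_order_five fact5_M22 (⟨ga, hga⟩ : ↥(fixG M24 [1, 0])) ⟨gn, hgn⟩ _ hord
    · apply Subtype.ext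
      rw [Subgroup.coe_pow]
      exact hna
    · rw [MulEquiv.orderOf_eq]
      exact hord
  · -- images of the second generator
    intro φ hφa
    obtain ⟨t, ht, u, hu, l', hl', hlt⟩ := m22_sift (φ ⟨gb, hgb⟩).1 (φ ⟨gb, hgb⟩).2
    have hrel' : Rel22 ga (φ ⟨gb, hgb⟩).1 := by
      have h1 : Rel22 (⟨ga, hga⟩ : ↥(fixG M24 [1, 0])) ⟨gb, hgb⟩ :=
        (rel22_map_iff (fixG M24 [1, 0]).subtype (fixG M24 [1, 0]).subtype_injective _ _).mp hrel
      have h2 : Rel22 (φ ⟨ga, hga⟩) (φ ⟨gb, hgb⟩) :=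
        (rel22_map_iff (φ : ↥(fixG M24 [1, 0]) ≃* ↥(fixG M24 [1, 0])).toMonoidHom
          φ.injective _ _).mpr h1
      rw [hφa] at h2
      exact (rel22_map_iff (fixG M24 [1, 0]).subtype (fixG M24 [1, 0]).subtype_injective _ _).mpr h2
    have hcond := (o22Cond_iff hta hlt).mpr hrel'
    have hm := o22_all t ht u hu
    rw [List.all_eq_true] at hm
    have h3 := hm l' hl'
    rw [o22Check, hcond] at h3
    have h4 : compT (compT t u) l' ∈ o22Conj := by simpa using h3
    rw [← o22Conj_eq, List.mem_append, List.mem_map, List.mem_map] at h4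
    have hcentral : ∀ c ∈ o22Ca, ∀ gc : Equiv.Perm GolayPt, IsTable c gc → gc * ga * gc⁻¹ = ga := by
      intro c hc gc hgct
      have hcm := o22Ca_comm
      rw [List.all_eq_true] at hcm
      have e : compT c o22A = compT o22A c := by simpa using hcm c hc
      have e1 := hgct.mul hta
      rw [e] at e1
      have hcomm : gc * ga = ga * gc := e1.inj (hta.mul hgct)
      rw [hcomm]
      group
    rcases h4 with ⟨c, hc, hcl⟩ | ⟨c, hc, hcl⟩
    · obtain ⟨gc, hgc, hgct⟩ := o22Ca_tabled c hc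
      refine ⟨⟨gc, hgc⟩, Subtype.ext (hcentral c hc gc hgct), Or.inl (Subtype.ext ?_)⟩
      show gc * gb * gc⁻¹ = (φ ⟨gb, hgb⟩).1
      have e1 := hgct.mul (htb.mul hgct.inv)
      rw [hcl] at e1
      rw [mul_assoc]
      exact e1.inj hlt
    · obtain ⟨gc, hgc, hgct⟩ := o22Ca_tabled c hc
      refine ⟨⟨gc, hgc⟩, Subtype.ext (hcentral c hc gc hgct), Or.inr (Subtype.ext ?_)⟩
      show gc * gb2 * gc⁻¹ = (φ ⟨gb, hgb⟩).1
      have e1 := hgct.mul (htb2.mul hgct.inv)
      rw [hcl] at e1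
      rw [mul_assoc]
      exact e1.inj hlt

theorem sporM22_eq : Spor.M22 = fixG M24 [0, 23] := by
  ext g
  rw [Spor.M22, Spor.M23, Subgroup.mem_inf, Subgroup.mem_inf, mem_fixG]
  constructor
  · rintro ⟨⟨h1, h2⟩, h3⟩
    refine ⟨h1, fun i hi => ?_⟩
    rw [List.mem_cons, List.mem_singleton] at hi
    rcases hi with rfl | rfl
    · exact mem_stabilizer_iff.mp h3
    · exact mem_stabilizer_iff.mp h2
  · rintro ⟨h1, h2⟩
    exact ⟨⟨h1, mem_stabilizer_iff.mpr (h2 23 (by simp))⟩, mem_stabilizer_iff.mpr (h2 0 (by simp))⟩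

/-- The outer automorphism group of `M22` has order 2. -/
theorem card_out_M22 : Nat.card (Cfsg.Out ↥Spor.M22) = 2 := by
  rw [sporM22_eq]
  show (Cfsg.Inn ↥(fixG M24 [0, 23])).index = 2
  obtain ⟨g, hg, h0, h1⟩ := m24_exists_map₂ (p := pt 23) (q := pt 0) (by decide)
  have e : fixG M24 [1, 0] ≃* fixG M24 [0, 23] :=
    fixGConj hg [1, 0] [0, 23] (by
      simp only [List.map_cons, List.map_nil, h0, h1]
      rw [idx_pt (by norm_num), idx_pt (by norm_num)])
  rw [← inn_index_congr e]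
  exact inn_M22_index

end Cfsg.Agent.Helper7
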