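import Mathlib

/-!
# Two abstract simplicity criteria for 2-transitive groups
-/

set_option autoImplicit false

namespace Cfsg.Agent.Helper7

open MulAction

/-- A nontrivial normal subgroup of a faithful 2-transitive group is transitive. -/
theorem normal_isPretransitive {G Ω : Type*} [Group G] [MulAction G Ω] [FaithfulSMul G Ω]
    (h2 : IsMultiplyPretransitive G Ω 2) (N : Subgroup G) [N.Normal] (hN : N ≠ ⊥) :
    IsPretransitive N Ω := by
  have hprim : IsPreprimitive G Ω := isPreprimitive_of_is_two_pretransitive h2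
  refine IsQuasiPreprimitive.isPretransitive_of_normal (G := G) (X := Ω) ?_
  intro hfix
  apply hN
  rw [eq_bot_iff]
  intro n hn
  rw [Subgroup.mem_bot]
  apply FaithfulSMul.eq_of_smul_eq_smul (α := Ω)
  intro x
  have hx : x ∈ fixedPoints N Ω := by rw [hfix]; exact Set.mem_univ x
  have := hx ⟨n, hn⟩
  simpa using this

/-- The degree divides the order of a nontrivial normal subgroup of a faithful 2-transitive group. -/
theorem card_dvd_card_normal {G Ω : Type*} [Group G] [MulAction G Ω] [FaithfulSMul G Ω]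
    [Finite G] (h2 : IsMultiplyPretransitive G Ω 2) (N : Subgroup G) [N.Normal] (hN : N ≠ ⊥) :
    Nat.card Ω ∣ Nat.card N := by
  have htr := normal_isPretransitive h2 N hN
  have hne : Nonempty Ω := by
    by_contra hcon
    rw [not_nonempty_iff] at hcon
    apply hN
    rw [eq_bot_iff]
    intro n _
    rw [Subgroup.mem_bot]
    apply FaithfulSMul.eq_of_smul_eq_smul (α := Ω)
    intro x
    exact hcon.elim x
  obtain ⟨x⟩ := hne
  rw [← MulAction.index_stabilizer_of_transitive N x]
  exact Subgroup.index_dvd_card _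

/-- First criterion: the Sylow `p`-subgroups have order `p`, every nontrivial normal subgroup has
order divisible by `p`, and the normal closure of an element of order `p` is the whole group. -/
theorem isSimpleGroup_of_sylow {G : Type*} [Group G] [Finite G] {p : ℕ} [hp : Fact p.Prime]
    (hfac : (Nat.card G).factorization p = 1) (y : G) (hy : orderOf y = p)
    (hncl : Subgroup.normalClosure {y} = ⊤)
    (hdiv : ∀ N : Subgroup G, N.Normal → N ≠ ⊥ → p ∣ Nat.card N) : IsSimpleGroup G := by
  have hy1 : y ≠ 1 := by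
    intro h
    rw [h, orderOf_one] at hy
    exact hp.out.one_lt.ne hy
  have : Nontrivial G := ⟨⟨y, 1, hy1⟩⟩
  refine ⟨fun N hN => ?_⟩
  by_cases hbot : N = ⊥
  · exact Or.inl hbot
  right
  have hpN := hdiv N hN hbot
  obtain ⟨x, hx⟩ := exists_prime_orderOf_dvd_card' (G := N) p hpN
  have hx' : orderOf (x : G) = p := by rw [Subgroup.orderOf_coe]; exact hx
  -- Sylow subgroups containing y and x
  have hPy : IsPGroup p (Subgroup.zpowers y) :=
    IsPGroup.of_card (n := 1) (by rw [Nat.card_zpowers, hy, pow_one])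
  have hPx : IsPGroup p (Subgroup.zpowers (x : G)) :=
    IsPGroup.of_card (n := 1) (by rw [Nat.card_zpowers, hx', pow_one])
  obtain ⟨Q, hQ⟩ := hPy.exists_le_sylow
  obtain ⟨Q', hQ'⟩ := hPx.exists_le_sylow
  have hcQ : Nat.card Q = p := by rw [Sylow.card_eq_multiplicity, hfac, pow_one]
  have hcQ' : Nat.card Q' = p := by rw [Sylow.card_eq_multiplicity, hfac, pow_one]
  have hQ'eq : Subgroup.zpowers (x : G) = Q' := by
    apply Subgroup.eq_of_le_of_card_ge hQ'
    rw [hcQ', Nat.card_zpowers, hx']
  obtain ⟨g, hg⟩ := MulAction.exists_smul_eq G Q Q'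
  have hyQ : y ∈ (Q : Subgroup G) := hQ (Subgroup.mem_zpowers y)
  have h1 : g * y * g⁻¹ ∈ (Q' : Subgroup G) := by
    rw [← hg, Sylow.coe_subgroup_smul, Subgroup.mem_pointwise_smul_iff_inv_smul_mem]
    simpa [MulAut.smul_def, mul_assoc] using hyQ
  have h2 : g * y * g⁻¹ ∈ N := by
    rw [← hQ'eq] at h1
    have : Subgroup.zpowers (x : G) ≤ N := by
      rw [Subgroup.zpowers_le]
      exact x.2
    exact this h1
  have h3 : y ∈ N := by
    have := hN.conj_mem _ h2 g⁻¹
    simpa [mul_assoc] using this
  rw [eq_top_iff, ← hncl]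
  exact Subgroup.normalClosure_le_normal (by simpa using h3)

/-- Second criterion: a faithful 2-transitive group with a simple point stabiliser, whose degree
has two distinct prime divisors, is simple. -/
theorem isSimpleGroup_of_stabilizer {G Ω : Type*} [Group G] [MulAction G Ω] [FaithfulSMul G Ω]
    [Finite G] (h2 : IsMultiplyPretransitive G Ω 2) (a : Ω)
    (hs : IsSimpleGroup (stabilizer G a)) {p q : ℕ} (hp : p.Prime) (hq : q.Prime) (hpq : p ≠ q)
    (hpd : p ∣ Nat.card Ω) (hqd : q ∣ Nat.card Ω) : IsSimpleGroup G := by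
  have hnt : Nontrivial G := by
    obtain ⟨x, y, hxy⟩ := hs.toNontrivial
    exact ⟨⟨x.1, y.1, fun h => hxy (Subtype.ext h)⟩⟩
  refine ⟨fun N hN => ?_⟩
  by_cases hbot : N = ⊥
  · exact Or.inl hbot
  right
  have htr := normal_isPretransitive h2 N hbot
  have hKn : (N.subgroupOf (stabilizer G a)).Normal := inferInstance
  rcases hs.eq_bot_or_eq_top_of_normal _ hKn with hK | hK
  · -- regular normal subgroup: impossible
    exfalso
    rw [Subgroup.subgroupOf_eq_bot] at hK
    have hdisj : ∀ n ∈ N, n • a = a → n = 1 := by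
      intro n hn hna
      have : n ∈ N ⊓ stabilizer G a := ⟨hn, hna⟩
      rw [hK.eq_bot] at this
      exact this
    have hord : ∀ n ∈ N, ∀ n' ∈ N, n ≠ 1 → n' ≠ 1 → orderOf n' = orderOf n := by
      intro n hn n' hn' h1 h1'
      have hna : a ≠ n • a := fun h => h1 (hdisj n hn h.symm)
      have hna' : a ≠ n' • a := fun h => h1' (hdisj n' hn' h.symm)
      obtain ⟨h, hha, hhn⟩ := (is_two_pretransitive_iff.mp h2) hna hna'
      have hm : n'⁻¹ * (h * n * h⁻¹) ∈ N := N.mul_mem (N.inv_mem hn') (hN.conj_mem n hn h)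
      have hma : (n'⁻¹ * (h * n * h⁻¹)) • a = a := by
        have h4 : h⁻¹ • a = a := by rw [inv_smul_eq_iff, hha]
        rw [mul_smul, mul_smul, mul_smul, h4, hhn, inv_smul_smul]
      have h5 := hdisj _ hm hma
      have h6 : n' = h * n * h⁻¹ := by
        rw [inv_mul_eq_one] at h5
        exact h5
      rw [h6]
      have := orderOf_injective (MulAut.conj h).toMonoidHom (MulAut.conj h).injective n
      simpa using this
    have hdvd := card_dvd_card_normal h2 N hbot
    have := Fact.mk hp
    have := Fact.mk hq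
    obtain ⟨x, hx⟩ := exists_prime_orderOf_dvd_card' (G := N) p (hpd.trans hdvd)
    obtain ⟨z, hz⟩ := exists_prime_orderOf_dvd_card' (G := N) q (hqd.trans hdvd)
    have hx' : orderOf (x : G) = p := by rw [Subgroup.orderOf_coe]; exact hx
    have hz' : orderOf (z : G) = q := by rw [Subgroup.orderOf_coe]; exact hz
    have hx1 : (x : G) ≠ 1 := by
      intro h
      rw [h, orderOf_one] at hx'
      exact hp.one_lt.ne hx'
    have hz1 : (z : G) ≠ 1 := by
      intro h
      rw [h, orderOf_one] at hz'
      exact hq.one_lt.ne hz'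
    have := hord x x.2 z z.2 hx1 hz1
    rw [hx', hz'] at this
    exact hpq this.symm
  · rw [Subgroup.subgroupOf_eq_top] at hK
    rw [eq_top_iff]
    intro g _
    obtain ⟨n, hn⟩ := htr.exists_smul_eq a (g • a)
    have h1 : (n : G)⁻¹ * g ∈ stabilizer G a := by
      rw [mem_stabilizer_iff, mul_smul, inv_smul_eq_iff]
      exact hn.symm
    have h2 := hK h1
    have : g = n * ((n : G)⁻¹ * g) := by simp
    rw [this]
    exact N.mul_mem n.2 h2

end Cfsg.Agent.Helper7
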