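import Cfsg.Agent.Helper7.ChainTrans
import Cfsg.Agent.Helper7.Simple

/-!
# The action of a chain group on the points of an invariant mask; simplicity certificates
-/

set_option autoImplicit false

namespace Cfsg.Agent.Helper7

open Cfsg MulAction

/-- Tuple transitivity, with invariance of the mask only required for the chain group itself. -/
theorem chain_trans' {H : Subgroup (Equiv.Perm GolayPt)} (S : ℕ)
    {F : List ℕ} {Ls : List Level}
    (hS : ∀ g ∈ fixG H F, ∀ p, S.testBit (idx p) = true → S.testBit (idx (g p)) = true)
    (hT : ∀ L ∈ Ls, ∀ l ∈ L.T, Tabled H l) (hok : chainOK F Ls = true)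
    (hfull : fullOK S F Ls = true) (hF24 : ∀ i ∈ F, i < 24)
    (xs : List GolayPt) (hlen : xs.length = Ls.length) (hnd : xs.Nodup)
    (hxS : ∀ x ∈ xs, S.testBit (idx x) = true) (hxF : ∀ x ∈ xs, idx x ∉ F) :
    ∃ g ∈ fixG H F, List.Forall₂ (fun L x => g (pt L.b) = x) Ls xs := by
  induction Ls generalizing F xs with
  | nil =>
    have : xs = [] := List.length_eq_zero_iff.mp hlen
    subst this
    exact ⟨1, (fixG H F).one_mem, List.Forall₂.nil⟩
  | cons L Ls ih =>
    match xs, hlen with
    | x :: xs, hlen =>
      rw [chainOK, Bool.and_eq_true, Bool.and_eq_true, Bool.and_eq_true] at hok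
      obtain ⟨⟨⟨h1, _⟩, h3⟩, h4⟩ := hok
      have hb : L.b < 24 := by simpa [Nat.blt_eq] using h3
      rw [fullOK, Bool.and_eq_true, List.all_eq_true] at hfull
      obtain ⟨hf1, hf2⟩ := hfull
      have hq := hf1 (idx x) (List.mem_range.mpr (idx_lt x))
      rw [Bool.or_eq_true, Bool.or_eq_true] at hq
      have hxorb : idx x ∈ L.orb := by
        rcases hq with (hq | hq) | hq
        · rw [hxS x (List.mem_cons_self ..)] at hq
          simp at hq
        · exact absurd (by simpa using hq) (hxF x (List.mem_cons_self ..))
        · simpa using hq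
      obtain ⟨l, _, t, ht, _, htq⟩ :=
        Level.cover (fun l hl => hT L (List.mem_cons_self ..) l hl) h1 hb _ hxorb
      rw [pt_idx] at htq
      have hnd' := List.nodup_cons.mp hnd
      have hsub : fixG H (L.b :: F) ≤ fixG H F :=
        fun g hg => ⟨hg.1, fun i hi => hg.2 i (List.mem_cons_of_mem _ hi)⟩
      obtain ⟨g', hg', hall⟩ := ih (F := L.b :: F) (xs := xs.map (fun y => t⁻¹ y))
        (fun g hg => hS g (hsub hg))
        (fun L' hL' => hT L' (List.mem_cons_of_mem _ hL')) h4 hf2
        (by
          intro i hi
          rw [List.mem_cons] at hi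
          rcases hi with rfl | hi
          · exact hb
          · exact hF24 i hi)
        (by simpa using hlen)
        (hnd'.2.map (t⁻¹).injective)
        (by
          intro y hy
          rw [List.mem_map] at hy
          obtain ⟨z, hz, rfl⟩ := hy
          exact hS _ ((fixG H F).inv_mem ht) z (hxS z (List.mem_cons_of_mem _ hz)))
        (by
          intro y hy
          rw [List.mem_map] at hy
          obtain ⟨z, hz, rfl⟩ := hy
          intro hmem
          rw [List.mem_cons] at hmem
          rcases hmem with hmem | hmem
          · have h5 : t⁻¹ z = pt L.b := by rw [← hmem, pt_idx]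
            have h6 : z = x := by
              rw [← htq, ← h5]
              simp
            exact hnd'.1 (h6 ▸ hz)
          · have h5 := ht.2 _ hmem
            rw [pt_idx] at h5
            have h6 : t (t⁻¹ z) = z := by simp
            rw [h6] at h5
            have h7 : idx z = idx (t⁻¹ z) := by rw [← h5]
            exact hxF z (List.mem_cons_of_mem _ hz) (h7 ▸ hmem))
      refine ⟨t * g', ?_, ?_⟩
      · refine ⟨H.mul_mem ht.1 hg'.1, fun i hi => ?_⟩
        rw [Equiv.Perm.mul_apply, hg'.2 i (List.mem_cons_of_mem _ hi), ht.2 i hi]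
      · apply List.Forall₂.cons
        · rw [Equiv.Perm.mul_apply, hg'.2 L.b (List.mem_cons_self ..), htq]
        · rw [List.forall₂_map_right_iff] at hall
          refine hall.imp ?_
          intro L' y hy
          rw [Equiv.Perm.mul_apply, hy]
          simp

theorem chainOK_take_two {F : List ℕ} {L0 L1 : Level} {rest : List Level}
    (h : chainOK F (L0 :: L1 :: rest) = true) : chainOK F [L0, L1] = true := by
  simp only [chainOK, Bool.and_eq_true, Bool.and_true] at h ⊢
  exact ⟨h.1, h.2.1⟩

/-- The sub-action of a subgroup `G` on the points of an invariant mask. -/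
def maskSub (G : Subgroup (Equiv.Perm GolayPt)) (S : ℕ)
    (hinv : ∀ g ∈ G, ∀ p, S.testBit (idx p) = true → S.testBit (idx (g p)) = true) :
    SubMulAction G GolayPt where
  carrier := {p | S.testBit (idx p) = true}
  smul_mem' := fun g _ hp => hinv g.1 g.2 _ hp

theorem card_maskSub (G : Subgroup (Equiv.Perm GolayPt)) (S : ℕ)
    (hinv : ∀ g ∈ G, ∀ p, S.testBit (idx p) = true → S.testBit (idx (g p)) = true) :
    Nat.card (maskSub G S hinv) = wt S := by
  have e : (maskSub G S hinv) ≃ {p // p ∈ support₂ (word S)} :=
    Equiv.subtypeEquivRight (fun p => by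
      rw [mem_support₂_word]
      rfl)
  rw [Nat.card_congr e, Nat.card_eq_fintype_card, Fintype.card_coe, card_support₂_word]

theorem faithful_maskSub (G : Subgroup (Equiv.Perm GolayPt)) (S : ℕ)
    (hinv : ∀ g ∈ G, ∀ p, S.testBit (idx p) = true → S.testBit (idx (g p)) = true)
    (hfaith : ∀ g ∈ G, (∀ p, S.testBit (idx p) = true → g p = p) → g = 1) :
    FaithfulSMul G (maskSub G S hinv) := by
  constructor
  intro g g' h
  have h1 : (g'⁻¹ * g : G).1 = 1 := by
    apply hfaith _ (g'⁻¹ * g).2
    intro p hp
    have := h ⟨p, hp⟩
    have h2 : (g : Equiv.Perm GolayPt) p = (g' : Equiv.Perm GolayPt) p := by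
      have := congrArg Subtype.val this
      exact this
    show ((g' : Equiv.Perm GolayPt)⁻¹ * (g : Equiv.Perm GolayPt)) p = p
    rw [Equiv.Perm.mul_apply, h2]
    simp
  have h3 : g'⁻¹ * g = 1 := Subtype.ext h1
  rw [inv_mul_eq_one] at h3
  exact h3.symm

/-- 2-transitivity on the points of the mask, from a chain. -/
theorem two_trans_maskSub {H : Subgroup (Equiv.Perm GolayPt)} (S : ℕ) {F : List ℕ}
    {Ls : List Level}
    (hS : ∀ g ∈ fixG H F, ∀ p, S.testBit (idx p) = true → S.testBit (idx (g p)) = true)
    (hT : ∀ L ∈ Ls, ∀ l ∈ L.T, Tabled H l) (hok : chainOK F Ls = true)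
    (hfull : fullOK S F (Ls.take 2) = true) (hF24 : ∀ i ∈ F, i < 24)
    (hSF : ∀ i ∈ F, S.testBit i = false) (hlen : 2 ≤ Ls.length) :
    IsMultiplyPretransitive (fixG H F) (maskSub (fixG H F) S hS) 2 := by
  match Ls, hlen with
  | L0 :: L1 :: rest, _ =>
    have hok2 : chainOK F [L0, L1] = true := chainOK_take_two hok
    have hfull2 : fullOK S F [L0, L1] = true := hfull
    have key : ∀ a b : maskSub (fixG H F) S hS, a ≠ b →
        ∃ g ∈ fixG H F, g (pt L0.b) = a.1 ∧ g (pt L1.b) = b.1 := by
      intro a b hab
      obtain ⟨g, hg, hall⟩ := chain_trans' (H := H) S hS (Ls := [L0, L1])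
        (fun L hL l hl => hT L (by
          simp only [List.mem_cons, List.not_mem_nil, or_false] at hL
          rcases hL with rfl | rfl <;> simp) l hl)
        hok2 hfull2 hF24 [a.1, b.1] rfl
        (by
          simp only [List.nodup_cons, List.mem_singleton, List.not_mem_nil, not_false_eq_true,
            List.nodup_nil, and_true]
          exact fun h => hab (Subtype.ext h))
        (by
          intro x hx
          simp only [List.mem_cons, List.not_mem_nil, or_false] at hx
          rcases hx with rfl | rfl
          · exact a.2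
          · exact b.2)
        (by
          intro x hx hmem
          have h1 := hSF _ hmem
          simp only [List.mem_cons, List.not_mem_nil, or_false] at hx
          rcases hx with rfl | rfl
          · have := a.2
            change S.testBit (idx a.1) = true at this
            rw [h1] at this
            exact Bool.false_ne_true this
          · have := b.2
            change S.testBit (idx b.1) = true at this
            rw [h1] at this
            exact Bool.false_ne_true this)
      simp only [List.forall₂_cons, List.forall₂_nil_right_iff] at hall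
      exact ⟨g, hg, hall.1, hall.2.1⟩
    rw [is_two_pretransitive_iff]
    intro a b c d hab hcd
    obtain ⟨g1, hg1, h1a, h1b⟩ := key a b hab
    obtain ⟨g2, hg2, h2c, h2d⟩ := key c d hcd
    refine ⟨⟨g2 * g1⁻¹, (fixG H F).mul_mem hg2 ((fixG H F).inv_mem hg1)⟩, ?_, ?_⟩
    · apply Subtype.ext
      show (g2 * g1⁻¹) a.1 = c.1
      rw [← h1a, ← h2c]
      simp
    · apply Subtype.ext
      show (g2 * g1⁻¹) b.1 = d.1
      rw [← h1b, ← h2d]
      simp

end Cfsg.Agent.Helper7
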