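import Cfsg.Agent.Helper7.M11Compl
import Cfsg.Agent.Helper7.MaskAct

/-!
# The stabiliser of a dodecad and three points on it: order 72, transitive on the complementary
dodecad (generated data + proofs)
-/

set_option autoImplicit false

namespace Cfsg.Agent.Helper7

open Cfsg
open scoped Pointwise

/-- The stabiliser of the dodecad and the points 0, 1, 2 on the complement: the straight-line program (node 0 is the identity, nodes 1,2,3 the generators). -/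
def m9cProg : List Op := [
  .mul 1 1, .mul 1 2, .mul 1 4, .mul 1 5, .mul 1 6, .mul 2 6, .mul 1 7, .mul 2 8,
  .mul 3 9, .mul 1 10, .mul 2 10, .mul 3 11, .mul 1 12, .mul 3 13, .mul 3 14, .mul 3 15,
  .mul 1 16, .mul 1 17, .mul 3 18, .mul 1 19, .mul 1 20, .mul 3 21, .mul 1 22, .mul 2 23,
  .mul 3 24, .mul 1 25, .mul 1 26, .mul 2 29, .inv 27, .mul 1 28, .mul 32 33, .inv 31,
  .mul 3 30, .mul 35 36, .mul 34 37, .mul 37 37, .mul 37 38, .mul 37 39, .inv 41, .mul 34 41,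
  .mul 42 43, .inv 40, .mul 34 40, .mul 45 46, .mul 44 44, .mul 44 48, .mul 47 49, .mul 47 50,
  .inv 47, .mul 44 49, .mul 52 53, .inv 51, .mul 44 51, .mul 55 56, .mul 54 57, .mul 57 57,
  .mul 57 58, .mul 54 59, .mul 54 60, .inv 59, .mul 54 62, .mul 63 64, .inv 61, .mul 57 62,
  .mul 66 67, .mul 65 65, .mul 68 65, .mul 65 68, .mul 65 69, .mul 68 69, .mul 68 72, .mul 65 74,
  .mul 68 74, .mul 68 75
]

/-- The stabiliser of the dodecad and the points 0, 1, 2 on the complement: the tables of all nodes of the straight-line program. -/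
def m9cTabs : List (List ℕ) := [
  [0, 1, 2, 3, 4, 5, 6, 7, 8, 9, 10, 11, 12, 13, 14, 15, 16, 17, 18, 19, 20, 21, 22, 23],
  [1, 2, 3, 4, 5, 6, 7, 8, 9, 10, 11, 12, 13, 14, 15, 16, 17, 18, 19, 20, 21, 22, 0, 23],
  [23, 22, 11, 15, 17, 9, 19, 13, 20, 5, 16, 2, 21, 7, 18, 3, 10, 4, 14, 6, 8, 12, 1, 0],
  [0, 18, 6, 3, 2, 21, 1, 5, 16, 12, 7, 19, 8, 9, 17, 15, 13, 11, 4, 22, 10, 20, 14, 23],
  [2, 3, 4, 5, 6, 7, 8, 9, 10, 11, 12, 13, 14, 15, 16, 17, 18, 19, 20, 21, 22, 0, 1, 23],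
  [23, 0, 12, 16, 18, 10, 20, 14, 21, 6, 17, 3, 22, 8, 19, 4, 11, 5, 15, 7, 9, 13, 2, 1],
  [3, 4, 5, 6, 7, 8, 9, 10, 11, 12, 13, 14, 15, 16, 17, 18, 19, 20, 21, 22, 0, 1, 2, 23],
  [23, 1, 13, 17, 19, 11, 21, 15, 22, 7, 18, 4, 0, 9, 20, 5, 12, 6, 16, 8, 10, 14, 3, 2],
  [4, 5, 6, 7, 8, 9, 10, 11, 12, 13, 14, 15, 16, 17, 18, 19, 20, 21, 22, 0, 1, 2, 3, 23],
  [15, 17, 9, 19, 13, 20, 5, 16, 2, 21, 7, 18, 3, 10, 4, 14, 6, 8, 12, 1, 23, 22, 11, 0],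
  [23, 2, 14, 18, 20, 12, 22, 16, 0, 8, 19, 5, 1, 10, 21, 6, 13, 7, 17, 9, 11, 15, 4, 3],
  [17, 9, 19, 13, 20, 5, 16, 2, 21, 7, 18, 3, 10, 4, 14, 6, 8, 12, 1, 23, 22, 11, 15, 0],
  [15, 11, 12, 22, 9, 10, 21, 13, 6, 20, 5, 4, 3, 7, 2, 17, 1, 16, 8, 18, 23, 14, 19, 0],
  [23, 3, 15, 19, 21, 13, 0, 17, 1, 9, 20, 6, 2, 11, 22, 7, 14, 8, 18, 10, 12, 16, 5, 4],
  [0, 11, 18, 14, 8, 21, 1, 10, 23, 20, 6, 9, 22, 16, 12, 19, 7, 13, 4, 5, 2, 3, 17, 15],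
  [11, 12, 22, 9, 10, 21, 13, 6, 20, 5, 4, 3, 7, 2, 17, 1, 16, 8, 18, 23, 14, 19, 15, 0],
  [16, 12, 13, 0, 10, 11, 22, 14, 7, 21, 6, 5, 4, 8, 3, 18, 2, 17, 9, 19, 23, 15, 20, 1],
  [23, 3, 15, 22, 20, 9, 0, 11, 18, 12, 10, 1, 6, 19, 14, 5, 17, 16, 4, 7, 8, 13, 21, 2],
  [0, 19, 4, 17, 16, 20, 18, 7, 23, 10, 1, 12, 14, 13, 8, 22, 5, 9, 2, 21, 6, 3, 11, 15],
  [19, 8, 14, 12, 7, 20, 9, 1, 10, 21, 2, 3, 5, 6, 11, 18, 13, 16, 4, 23, 17, 22, 15, 0],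
  [17, 13, 14, 1, 11, 12, 0, 15, 8, 22, 7, 6, 5, 9, 4, 19, 3, 18, 10, 20, 23, 16, 21, 2],
  [23, 4, 16, 0, 21, 10, 1, 12, 19, 13, 11, 2, 7, 20, 15, 6, 18, 17, 5, 8, 9, 14, 22, 3],
  [0, 22, 2, 11, 13, 10, 4, 5, 23, 7, 18, 8, 17, 9, 16, 14, 21, 12, 6, 20, 1, 3, 19, 15],
  [20, 9, 15, 13, 8, 21, 10, 2, 11, 22, 3, 4, 6, 7, 12, 19, 14, 17, 5, 23, 18, 0, 16, 1],
  [18, 14, 15, 2, 12, 13, 1, 16, 9, 0, 8, 7, 6, 10, 5, 20, 4, 19, 11, 21, 23, 17, 22, 3],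
  [23, 2, 13, 0, 20, 7, 18, 8, 22, 9, 19, 6, 5, 10, 15, 1, 4, 11, 21, 16, 12, 17, 14, 3],
  [1, 0, 3, 12, 14, 11, 5, 6, 23, 8, 19, 9, 18, 10, 17, 15, 22, 13, 7, 21, 2, 4, 20, 16],
  [8, 5, 3, 7, 20, 12, 16, 11, 2, 1, 15, 17, 19, 13, 21, 6, 18, 4, 9, 0, 14, 23, 10, 22],
  [4, 17, 15, 6, 8, 9, 18, 13, 12, 0, 16, 5, 1, 7, 21, 10, 2, 22, 19, 20, 23, 11, 14, 3],
  [23, 3, 14, 1, 21, 8, 19, 9, 0, 10, 20, 7, 6, 11, 16, 2, 5, 12, 22, 17, 13, 18, 15, 4],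
  [2, 1, 4, 13, 15, 12, 6, 7, 23, 9, 20, 10, 19, 11, 18, 16, 0, 14, 8, 22, 3, 5, 21, 17],
  [0, 15, 18, 22, 12, 20, 6, 5, 23, 16, 8, 13, 19, 2, 10, 11, 9, 21, 1, 4, 7, 14, 3, 17],
  [19, 9, 8, 2, 17, 1, 15, 3, 0, 18, 22, 7, 5, 13, 20, 10, 6, 11, 16, 12, 4, 14, 23, 21],
  [5, 18, 16, 7, 9, 10, 19, 14, 13, 1, 17, 6, 2, 8, 22, 11, 3, 0, 20, 21, 23, 12, 15, 4],
  [1, 16, 6, 3, 18, 22, 12, 20, 13, 9, 11, 15, 8, 0, 23, 7, 2, 19, 4, 14, 21, 5, 10, 17],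
  [0, 18, 13, 22, 19, 7, 6, 20, 10, 16, 14, 15, 4, 11, 21, 1, 9, 23, 2, 12, 5, 17, 3, 8],
  [6, 18, 2, 9, 15, 8, 1, 5, 23, 12, 10, 7, 22, 19, 4, 13, 0, 17, 16, 14, 3, 21, 20, 11],
  [6, 2, 13, 16, 1, 10, 18, 7, 8, 4, 14, 20, 3, 12, 19, 11, 0, 23, 9, 21, 22, 17, 5, 15],
  [12, 6, 0, 2, 16, 11, 4, 20, 13, 18, 23, 21, 3, 8, 14, 15, 1, 17, 9, 5, 10, 19, 22, 7],
  [18, 13, 12, 0, 2, 14, 9, 7, 8, 1, 19, 22, 16, 3, 21, 20, 6, 15, 4, 17, 5, 23, 10, 11],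
  [3, 18, 6, 13, 0, 20, 1, 22, 12, 9, 15, 17, 16, 8, 19, 11, 2, 23, 4, 10, 14, 21, 5, 7],
  [9, 12, 3, 6, 13, 19, 4, 7, 8, 2, 21, 5, 0, 16, 17, 22, 18, 11, 1, 23, 10, 15, 14, 20],
  [12, 18, 9, 2, 6, 11, 3, 7, 8, 0, 20, 17, 1, 4, 22, 21, 13, 14, 16, 5, 23, 10, 15, 19],
  [9, 8, 3, 12, 0, 14, 18, 20, 13, 6, 5, 22, 1, 2, 19, 10, 4, 15, 16, 17, 11, 7, 23, 21],
  [0, 8, 2, 1, 12, 22, 16, 23, 4, 3, 11, 15, 18, 9, 5, 20, 6, 21, 13, 14, 17, 7, 19, 10],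
  [4, 6, 16, 0, 18, 22, 2, 23, 13, 9, 19, 15, 8, 3, 20, 10, 12, 11, 1, 14, 5, 21, 7, 17],
  [3, 4, 12, 0, 1, 21, 16, 10, 8, 9, 7, 19, 2, 13, 14, 15, 6, 17, 18, 11, 23, 5, 22, 20],
  [0, 18, 8, 4, 6, 21, 12, 19, 13, 9, 23, 14, 16, 3, 20, 10, 2, 11, 1, 15, 17, 22, 7, 5],
  [0, 4, 2, 8, 18, 19, 6, 10, 12, 1, 15, 20, 13, 3, 22, 17, 16, 7, 9, 5, 21, 23, 14, 11],
  [0, 12, 2, 4, 13, 14, 16, 11, 18, 8, 20, 17, 9, 1, 19, 21, 6, 23, 3, 22, 7, 10, 5, 15],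
  [0, 16, 8, 6, 3, 20, 2, 14, 1, 13, 17, 11, 9, 18, 15, 22, 12, 5, 4, 7, 19, 23, 21, 10],
  [0, 2, 13, 12, 4, 17, 8, 20, 18, 3, 11, 14, 9, 1, 10, 7, 16, 21, 6, 19, 15, 5, 22, 23],
  [0, 18, 16, 13, 3, 23, 4, 22, 2, 9, 15, 17, 6, 8, 11, 19, 12, 20, 1, 7, 14, 5, 21, 10],
  [0, 18, 2, 12, 9, 5, 6, 15, 13, 4, 17, 21, 3, 8, 14, 7, 16, 10, 1, 19, 23, 11, 22, 20],
  [0, 1, 16, 6, 9, 23, 4, 19, 8, 3, 20, 5, 13, 2, 11, 22, 12, 15, 18, 7, 10, 17, 21, 14],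
  [0, 13, 1, 9, 4, 21, 18, 15, 6, 12, 14, 10, 3, 2, 11, 20, 16, 5, 8, 19, 7, 17, 22, 23],
  [0, 2, 9, 18, 12, 21, 4, 17, 13, 1, 15, 5, 3, 8, 11, 23, 6, 7, 16, 14, 20, 22, 19, 10],
  [0, 1, 12, 8, 3, 17, 4, 5, 2, 13, 20, 21, 9, 6, 10, 23, 18, 15, 16, 11, 7, 22, 19, 14],
  [0, 1, 13, 8, 6, 15, 9, 23, 16, 2, 10, 17, 3, 4, 20, 14, 18, 22, 12, 5, 19, 21, 7, 11],
  [0, 1, 9, 2, 8, 15, 3, 17, 12, 6, 7, 22, 13, 4, 20, 14, 16, 23, 18, 21, 5, 19, 11, 10],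
  [0, 1, 6, 2, 4, 23, 13, 14, 18, 12, 20, 15, 8, 3, 7, 10, 16, 19, 9, 17, 11, 22, 5, 21],
  [0, 1, 3, 16, 8, 22, 6, 15, 13, 4, 19, 21, 2, 9, 10, 11, 12, 14, 18, 17, 23, 7, 5, 20],
  [0, 1, 4, 16, 9, 14, 2, 11, 18, 13, 10, 22, 8, 6, 19, 20, 12, 7, 3, 15, 5, 21, 23, 17],
  [0, 1, 3, 6, 13, 20, 9, 10, 4, 2, 23, 22, 8, 12, 15, 5, 16, 7, 18, 21, 14, 19, 11, 17],
  [0, 1, 9, 12, 3, 11, 16, 5, 18, 2, 20, 21, 8, 4, 7, 10, 13, 19, 6, 22, 23, 17, 14, 15],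
  [0, 1, 2, 8, 6, 22, 16, 20, 18, 3, 14, 19, 4, 13, 10, 23, 12, 21, 9, 11, 17, 7, 15, 5],
  [0, 1, 12, 2, 9, 22, 6, 21, 4, 13, 14, 15, 16, 8, 17, 7, 3, 19, 18, 10, 23, 11, 5, 20],
  [0, 1, 3, 18, 13, 10, 12, 21, 16, 6, 20, 19, 2, 4, 11, 7, 9, 5, 8, 23, 17, 22, 14, 15],
  [0, 1, 2, 18, 8, 14, 16, 11, 3, 6, 23, 10, 12, 9, 15, 21, 13, 22, 4, 20, 19, 5, 17, 7],
  [0, 1, 2, 18, 16, 15, 12, 17, 9, 8, 10, 11, 6, 13, 14, 5, 4, 7, 3, 19, 21, 20, 23, 22],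
  [0, 1, 2, 3, 16, 17, 13, 19, 4, 18, 15, 20, 8, 9, 23, 7, 12, 5, 6, 10, 22, 11, 21, 14],
  [0, 1, 2, 9, 18, 10, 12, 19, 8, 16, 5, 14, 4, 3, 23, 7, 13, 15, 6, 17, 11, 22, 21, 20],
  [0, 1, 2, 9, 12, 23, 4, 21, 3, 18, 14, 19, 16, 13, 10, 22, 6, 20, 8, 11, 7, 17, 5, 15],
  [0, 1, 2, 4, 13, 21, 12, 22, 6, 3, 23, 10, 16, 9, 15, 14, 8, 11, 18, 20, 5, 19, 7, 17],
  [0, 1, 2, 6, 12, 7, 8, 5, 18, 4, 15, 20, 13, 9, 23, 17, 16, 19, 3, 10, 11, 22, 14, 21],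
  [0, 1, 2, 16, 4, 20, 18, 22, 9, 6, 23, 17, 13, 3, 5, 21, 12, 11, 8, 14, 19, 15, 10, 7],
  [0, 1, 2, 16, 12, 11, 3, 14, 4, 8, 21, 19, 9, 6, 7, 22, 13, 20, 18, 23, 10, 17, 15, 5],
  [0, 1, 2, 13, 8, 19, 4, 17, 6, 16, 7, 22, 9, 18, 14, 5, 12, 10, 3, 15, 20, 21, 23, 11]
]

theorem m9cTabs_eq : runSLP m9cProg [idT, tA, tB, tC] = m9cTabs := by decide +kernel

/-- The stabiliser of the dodecad and the points 0, 1, 2 on the complement: base point, orbit, node numbers of the transversal, for each level. -/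
def m9cSpecs : List (ℕ × List ℕ × List ℕ) := [
  (5, [5, 7, 10, 11, 14, 15, 17, 19, 20, 21, 22, 23],
    [0, 74, 71, 76, 68, 69, 70, 77, 75, 73, 65, 72])
]

/-- The stabiliser of the dodecad and the points 0, 1, 2 on the complement: the levels of the chain. -/
def m9cLevels : List Level := m9cSpecs.map (mkLevel m9cTabs)

theorem tabled_m9cTabs : ∀ l ∈ m9cTabs, Tabled M24 l := by
  rw [← m9cTabs_eq]
  apply tabled_runSLP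
  intro l hl
  simp only [List.mem_cons, List.not_mem_nil, or_false] at hl
  rcases hl with rfl | rfl | rfl | rfl
  · exact tabled_idT _
  · exact ⟨gA, gA_mem_M24, isTable_gA⟩
  · exact ⟨projInv, projInv_mem_M24, isTable_projInv⟩
  · exact ⟨cubeTwist, cubeTwist_mem_M24, isTable_cubeTwist⟩

theorem tabled_m9cLevels_M24 : ∀ L ∈ m9cLevels, ∀ l ∈ L.T, Tabled M24 l := by
  intro L hL l hl
  rw [m9cLevels, List.mem_map] at hL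
  obtain ⟨s, _, rfl⟩ := hL
  exact tabled_m9cTabs l (mkLevel_T_mem _ _ l hl)

theorem m9c_stable : m9cLevels.all (fun L => L.T.all (maskStable d0)) = true := by decide +kernel

theorem tabled_m9cLevels : ∀ L ∈ m9cLevels, ∀ l ∈ L.T, Tabled M12 l := by
  intro L hL l hl
  have h := m9c_stable
  rw [List.all_eq_true] at h
  have h1 := h L hL
  rw [List.all_eq_true] at h1
  exact (tabled_m9cLevels_M24 L hL l hl).setStab (h1 l hl)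

theorem m9c_chainOK : chainOK [2, 1, 0] m9cLevels = true := by decide +kernel

theorem m9c_full : fullOK d0c [2, 1, 0] m9cLevels = true := by decide +kernel

/-- The stabiliser of the standard dodecad and of the points `0, 1, 2` is transitive on the
complementary dodecad. -/
theorem m9_exists_map (x y : GolayPt) (hx : x ∉ d0F) (hy : y ∉ d0F) :
    ∃ g ∈ fixG M12 [2, 1, 0], g x = y := by
  have key : ∀ z : GolayPt, z ∉ d0F → ∃ g ∈ fixG M12 [2, 1, 0], g (pt 5) = z := by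
    intro z hz
    obtain ⟨g, hg, hall⟩ := chain_trans' (H := M12) d0c (F := [2, 1, 0]) (Ls := m9cLevels)
      (fun g hg => M12_inv_c g hg.1) tabled_m9cLevels m9c_chainOK m9c_full (by decide) [z]
      (by
        have : m9cLevels.length = 1 := by decide +kernel
        rw [this]
        rfl) (by simp)
      (by
        intro w hw
        rw [List.mem_singleton] at hw
        subst hw
        exact (not_mem_d0F_iff _).mp hz)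
      (by
        intro w hw
        rw [List.mem_singleton] at hw
        subst hw
        have h1 := (not_mem_d0F_iff _).mp hz
        intro h0
        have h2 : ∀ i ∈ [2, 1, 0], d0c.testBit i = false := by decide +kernel
        rw [h2 _ h0] at h1
        exact Bool.false_ne_true h1)
    refine ⟨g, hg, ?_⟩
    have hL : m9cLevels.map (fun L => L.b) = [5] := by decide +kernel
    have h2 : List.Forall₂ (fun b y => g (pt b) = y) (m9cLevels.map (fun L => L.b)) [z] := by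
      rw [List.forall₂_map_left_iff]
      exact hall
    rw [hL] at h2
    simpa using h2
  obtain ⟨gx, hgx, hx0⟩ := key x hx
  obtain ⟨gy, hgy, hy0⟩ := key y hy
  refine ⟨gy * gx⁻¹, (fixG M12 [2, 1, 0]).mul_mem hgy ((fixG M12 [2, 1, 0]).inv_mem hgx), ?_⟩
  rw [← hx0, ← hy0]
  simp

theorem card_fixG_m12_3 : Nat.card (fixG M12 [2, 1, 0]) = 72 := by
  have := card_fixG_m12 3
  have h1 : baseRev m12Levels 3 ++ [] = [2, 1, 0] := by decide +kernel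
  rw [h1] at this
  rw [this]
  decide +kernel

end Cfsg.Agent.Helper7
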