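import Cfsg.Agent.Helper7.Chain

/-!
# Invariance of octads under elements of `M24` fixing five of their points, and refinement
-/

set_option autoImplicit false

namespace Cfsg.Agent.Helper7

open Cfsg
open scoped Pointwise

theorem zmod2_add_ne_zero : ∀ a b : ZMod 2, a + b ≠ 0 → (a ≠ 0 ∧ b = 0) ∨ (a = 0 ∧ b ≠ 0) := by
  decide

theorem support₂_add_subset (w w' : V) :
    support₂ (w + w') ⊆ (support₂ w ∪ support₂ w') \ (support₂ w ∩ support₂ w') := by
  intro p hp
  rw [mem_support₂, Pi.add_apply] at hp
  rw [Finset.mem_sdiff, Finset.mem_union, Finset.mem_inter, mem_support₂, mem_support₂]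
  rcases zmod2_add_ne_zero _ _ hp with ⟨h1, h2⟩ | ⟨h1, h2⟩
  · exact ⟨Or.inl h1, fun h => h.2 h2⟩
  · exact ⟨Or.inr h2, fun h => h.1 h1⟩

theorem card_support₂_permL (g : Equiv.Perm GolayPt) (w : V) :
    (support₂ (permL g w)).card = (support₂ w).card := by
  rw [← smul_support₂, Finset.card_smul_finset]

/-- If two code words of weight 8 share at least 5 points of their supports they are equal. -/
theorem eq_of_five_common {w w' : V} (hw : w ∈ golayCode) (hw' : w' ∈ golayCode)
    (h8 : (support₂ w).card = 8) (h8' : (support₂ w').card = 8)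
    (A : Finset GolayPt) (hA : 5 ≤ A.card) (hAw : A ⊆ support₂ w) (hAw' : A ⊆ support₂ w') :
    w' = w := by
  have hv : w + w' ∈ golayCode := golayCode.add_mem hw hw'
  by_contra hne
  have hv0 : w + w' ≠ 0 := by
    intro h0
    apply hne
    funext p
    have := congrFun h0 p
    rw [Pi.add_apply, Pi.zero_apply] at this
    have h2 : ∀ a b : ZMod 2, a + b = 0 → b = a := by decide
    exact h2 _ _ this
  have hmin := golayCode_min_weight hv hv0
  have h1 := Finset.card_le_card (support₂_add_subset w w')
  have h2 : (support₂ w ∩ support₂ w') ⊆ (support₂ w ∪ support₂ w') :=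
    Finset.inter_subset_union
  rw [Finset.card_sdiff_of_subset h2] at h1
  have h3 := Finset.card_union_add_card_inter (support₂ w) (support₂ w')
  have h4 : A ⊆ support₂ w ∩ support₂ w' := Finset.subset_inter hAw hAw'
  have h5 := Finset.card_le_card h4
  omega

/-- Number of points of the list `F` lying in the mask `o`. -/
def cntIn (o : ℕ) (F : List ℕ) : ℕ := (F.filter (fun i => o.testBit i)).length

/-- An element of `M24` fixing (at least) five points of an octad maps the octad into itself. -/
theorem octad_inv {g : Equiv.Perm GolayPt} (hg : g ∈ M24) {o : ℕ} (ho : o < 2 ^ 24)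
    (hoc : enc (o % 4096) = o) (how : wt o = 8) (F : List ℕ)
    (hF : ∀ i ∈ F, g (pt i) = pt i) (hFn : F.Nodup) (hF24 : ∀ i ∈ F, i < 24)
    (h5 : 5 ≤ cntIn o F) :
    ∀ p, o.testBit (idx p) = true → o.testBit (idx (g p)) = true := by
  have hw : word o ∈ golayCode := (word_mem_golayCode_iff ho).mpr hoc
  have hw' : permL g (word o) ∈ golayCode := permL_mem_of_mem_M24 hg hw
  have h8 : (support₂ (word o)).card = 8 := by rw [card_support₂_word, how]
  have h8' : (support₂ (permL g (word o))).card = 8 := by rw [card_support₂_permL, h8]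
  let A : Finset GolayPt := ((F.filter (fun i => o.testBit i)).toFinset).image pt
  have hAcard : 5 ≤ A.card := by
    have hinj : Set.InjOn pt ((F.filter (fun i => o.testBit i)).toFinset : Set ℕ) := by
      intro i hi j hj hij
      simp only [List.coe_toFinset, List.mem_filter, Set.mem_ofPred_eq] at hi hj
      rw [← idx_pt (hF24 i hi.1), ← idx_pt (hF24 j hj.1), hij]
    rw [Finset.card_image_of_injOn hinj, List.toFinset_card_of_nodup (hFn.filter _)]
    exact h5
  have hA1 : A ⊆ support₂ (word o) := by
    intro p hp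
    simp only [A, Finset.mem_image, List.mem_toFinset, List.mem_filter] at hp
    obtain ⟨i, ⟨hiF, hio⟩, rfl⟩ := hp
    rw [mem_support₂_word, idx_pt (hF24 i hiF)]
    exact hio
  have hA2 : A ⊆ support₂ (permL g (word o)) := by
    intro p hp
    simp only [A, Finset.mem_image, List.mem_toFinset, List.mem_filter] at hp
    obtain ⟨i, ⟨hiF, hio⟩, rfl⟩ := hp
    rw [mem_support₂, ← hF i hiF, permL_apply_apply, ← mem_support₂, mem_support₂_word,
      idx_pt (hF24 i hiF)]
    exact hio
  have heq := eq_of_five_common hw hw' h8 h8' A hAcard hA1 hA2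
  intro p hp
  have h1 : word o p ≠ 0 := (mem_support₂ _ _).mp ((mem_support₂_word o p).mpr hp)
  have h2 : permL g (word o) (g p) ≠ 0 := by rw [permL_apply_apply]; exact h1
  rw [heq] at h2
  exact (mem_support₂_word o (g p)).mp ((mem_support₂ _ _).mpr h2)

/-- Check for one refinement step: the octads `os` are invariant (five points in `F`), contain
`p`, and every other point outside `F` is excluded by one of them. -/
def sepOK (F : List ℕ) (p : ℕ) (os : List ℕ) : Bool :=
  os.all (fun o => Nat.blt o 16777216 && Nat.beq (enc (o % 4096)) o && Nat.beq (wt o) 8 &&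
    Nat.ble 5 (cntIn o F) && o.testBit p) &&
  (List.range 24).all (fun q => Nat.beq q p || F.contains q || os.any (fun o => !o.testBit q))

theorem fixes_of_sepOK {g : Equiv.Perm GolayPt} (hg : g ∈ M24) (F : List ℕ)
    (hF : ∀ i ∈ F, g (pt i) = pt i) (hFn : F.Nodup) (hF24 : ∀ i ∈ F, i < 24)
    (p : ℕ) (hp : p < 24) (os : List ℕ) (h : sepOK F p os = true) : g (pt p) = pt p := by
  rw [sepOK, Bool.and_eq_true, List.all_eq_true, List.all_eq_true] at h
  obtain ⟨h1, h2⟩ := h
  by_contra hne
  have hq24 : idx (g (pt p)) < 24 := idx_lt _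
  have h3 := h2 (idx (g (pt p))) (List.mem_range.mpr hq24)
  rw [Bool.or_eq_true, Bool.or_eq_true] at h3
  rcases h3 with (h3 | h3) | h3
  · have := Nat.eq_of_beq_eq_true h3
    apply hne
    rw [← pt_idx (g (pt p)), this]
  · have hmem : idx (g (pt p)) ∈ F := by simpa using h3
    have := hF _ hmem
    rw [pt_idx] at this
    exact hne (g.injective this)
  · rw [List.any_eq_true] at h3
    obtain ⟨o, ho, hoq⟩ := h3
    have h4 := h1 o ho
    simp only [Bool.and_eq_true] at h4
    obtain ⟨⟨⟨⟨ha, hb⟩, hc⟩, hd⟩, he⟩ := h4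
    have ha' : o < 2 ^ 24 := by simpa [Nat.blt_eq] using ha
    have := octad_inv hg ha' (Nat.eq_of_beq_eq_true hb) (Nat.eq_of_beq_eq_true hc) F hF hFn hF24
      (by simpa [Nat.ble_eq] using hd) (pt p) (by rw [idx_pt hp]; exact he)
    rw [this] at hoq
    simp at hoq

/-- Check for a sequence of refinement steps. -/
def refineOK : List ℕ → List (ℕ × List ℕ) → Bool
  | _, [] => true
  | F, (p, os) :: rest => Nat.blt p 24 && !F.contains p && sepOK F p os && refineOK (p :: F) rest

theorem fixes_of_refineOK {g : Equiv.Perm GolayPt} (hg : g ∈ M24) (F : List ℕ)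
    (hF : ∀ i ∈ F, g (pt i) = pt i) (hFn : F.Nodup) (hF24 : ∀ i ∈ F, i < 24)
    (steps : List (ℕ × List ℕ)) (h : refineOK F steps = true) :
    ∀ i ∈ steps.map Prod.fst ++ F, g (pt i) = pt i := by
  induction steps generalizing F with
  | nil => simpa using hF
  | cons st rest ih =>
    obtain ⟨p, os⟩ := st
    rw [refineOK, Bool.and_eq_true, Bool.and_eq_true, Bool.and_eq_true] at h
    obtain ⟨⟨⟨h1, h2⟩, h3⟩, h4⟩ := h
    have hp : p < 24 := by simpa [Nat.blt_eq] using h1
    have hpF : p ∉ F := by simpa using h2
    have hfix := fixes_of_sepOK hg F hF hFn hF24 p hp os h3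
    have := ih (p :: F) (by
        intro i hi
        rw [List.mem_cons] at hi
        rcases hi with rfl | hi
        · exact hfix
        · exact hF i hi) (List.nodup_cons.mpr ⟨hpF, hFn⟩) (by
        intro i hi
        rw [List.mem_cons] at hi
        rcases hi with rfl | hi
        · exact hp
        · exact hF24 i hi) h4
    intro i hi
    apply this
    simp only [List.map_cons, List.cons_append, List.mem_cons, List.mem_append, List.mem_map] at hi ⊢
    rcases hi with h | h | h
    · exact Or.inr (Or.inl h)
    · exact Or.inl h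
    · exact Or.inr (Or.inr h)

/-- If the refinement reaches all 24 points, the element is the identity. -/
theorem eq_one_of_refineOK {g : Equiv.Perm GolayPt} (hg : g ∈ M24) (F : List ℕ)
    (hF : ∀ i ∈ F, g (pt i) = pt i) (hFn : F.Nodup) (hF24 : ∀ i ∈ F, i < 24)
    (steps : List (ℕ × List ℕ)) (h : refineOK F steps = true)
    (hall : (List.range 24).all (fun i => (steps.map Prod.fst ++ F).contains i) = true) :
    g = 1 := by
  ext p
  have h1 := fixes_of_refineOK hg F hF hFn hF24 steps h
  rw [List.all_eq_true] at hall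
  have h2 := hall (idx p) (List.mem_range.mpr (idx_lt p))
  have h3 : idx p ∈ steps.map Prod.fst ++ F := by simpa using h2
  have := h1 _ h3
  rw [pt_idx] at this
  rw [this]
  rfl


/-- Upper bound for an orbit from an invariant mask. -/
theorem bound_of_mask {H : Subgroup (Equiv.Perm GolayPt)} {F : List ℕ} {b : ℕ} {orb : List ℕ}
    (S : ℕ)
    (hS : ∀ g ∈ fixG H F, ∀ p, S.testBit (idx p) = true → S.testBit (idx (g p)) = true)
    (hchk : (List.range 24).all (fun q => !S.testBit q || F.contains q || orb.contains q) = true)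
    (hb : S.testBit b = true) (hbF : b ∉ F) (hb24 : b < 24) :
    ∀ g ∈ fixG H F, idx (g (pt b)) ∈ orb := by
  intro g hg
  have h1 := hS g hg (pt b) (by rw [idx_pt hb24]; exact hb)
  rw [List.all_eq_true] at hchk
  have h2 := hchk (idx (g (pt b))) (List.mem_range.mpr (idx_lt _))
  rw [Bool.or_eq_true, Bool.or_eq_true] at h2
  rcases h2 with (h2 | h2) | h2
  · rw [h1] at h2
    simp at h2
  · exfalso
    have hmem : idx (g (pt b)) ∈ F := by simpa using h2
    have := hg.2 _ hmem
    rw [pt_idx] at this
    have h3 := g.injective this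
    apply hbF
    rw [← idx_pt hb24, ← h3]
    exact hmem
  · simpa using h2

/-- The full mask is invariant under everything. -/
theorem full_mask_inv (g : Equiv.Perm GolayPt) (p : GolayPt) :
    (16777215 : ℕ).testBit (idx p) = true → (16777215 : ℕ).testBit (idx (g p)) = true := by
  intro _
  have : ∀ i < 24, (16777215 : ℕ).testBit i = true := by decide
  exact this _ (idx_lt _)

end Cfsg.Agent.Helper7
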