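import Mathlib
import Cfsg.Agent.Helper5.PSL2

/-!
# Elements of `PSL(2, 11)` from quadruples of natural numbers
-/

set_option autoImplicit false

namespace Cfsg.Agent.Helper7

open Matrix

/-- Quadruples of natural numbers, read as `2 × 2` matrices modulo 11. -/
abbrev Q11 := ℕ × ℕ × ℕ × ℕ

def q11mul (x y : Q11) : Q11 :=
  ((x.1 * y.1 + x.2.1 * y.2.2.1) % 11, (x.1 * y.2.1 + x.2.1 * y.2.2.2) % 11,
   (x.2.2.1 * y.1 + x.2.2.2 * y.2.2.1) % 11, (x.2.2.1 * y.2.1 + x.2.2.2 * y.2.2.2) % 11)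

def q11neg (x : Q11) : Q11 :=
  ((10 * x.1) % 11, (10 * x.2.1) % 11, (10 * x.2.2.1) % 11, (10 * x.2.2.2) % 11)

/-- Determinant one. -/
def q11det1 (x : Q11) : Bool := Nat.beq ((x.1 * x.2.2.2 + 10 * (x.2.1 * x.2.2.1)) % 11) 1

/-- All entries reduced. -/
def q11red (x : Q11) : Bool :=
  Nat.blt x.1 11 && Nat.blt x.2.1 11 && Nat.blt x.2.2.1 11 && Nat.blt x.2.2.2 11

def toMat11 (x : Q11) : Matrix (Fin 2) (Fin 2) (ZMod 11) :=
  !![(x.1 : ZMod 11), (x.2.1 : ZMod 11); (x.2.2.1 : ZMod 11), (x.2.2.2 : ZMod 11)]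

theorem ten_eq_neg_one : (10 : ZMod 11) = -1 := by decide

theorem toMat11_mul (x y : Q11) : toMat11 (q11mul x y) = toMat11 x * toMat11 y := by
  unfold toMat11 q11mul
  rw [Matrix.mul_fin_two]
  simp only [ZMod.natCast_mod, Nat.cast_add, Nat.cast_mul]

theorem toMat11_neg (x : Q11) : toMat11 (q11neg x) = -toMat11 x := by
  unfold toMat11 q11neg
  simp only [ZMod.natCast_mod, Nat.cast_mul, Nat.cast_ofNat, ten_eq_neg_one, neg_one_mul]
  ext i j
  fin_cases i <;> fin_cases j <;> simp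

theorem det_toMat11 {x : Q11} (h : q11det1 x = true) : (toMat11 x).det = 1 := by
  have h1 : (x.1 * x.2.2.2 + 10 * (x.2.1 * x.2.2.1)) % 11 = 1 := Nat.eq_of_beq_eq_true h
  have h2 : (((x.1 * x.2.2.2 + 10 * (x.2.1 * x.2.2.1)) % 11 : ℕ) : ZMod 11) = ((1 : ℕ) : ZMod 11) := by
    rw [h1]
  rw [ZMod.natCast_mod] at h2
  push_cast at h2
  rw [ten_eq_neg_one] at h2
  unfold toMat11
  rw [Matrix.det_fin_two_of]
  linear_combination h2

theorem toMat11_injOn {x y : Q11} (hx : q11red x = true) (hy : q11red y = true)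
    (h : toMat11 x = toMat11 y) : x = y := by
  simp only [q11red, Bool.and_eq_true, Nat.blt_eq] at hx hy
  obtain ⟨⟨⟨hx1, hx2⟩, hx3⟩, hx4⟩ := hx
  obtain ⟨⟨⟨hy1, hy2⟩, hy3⟩, hy4⟩ := hy
  have key : ∀ a b : ℕ, a < 11 → b < 11 → (a : ZMod 11) = (b : ZMod 11) → a = b := by
    intro a b ha hb hab
    have := congrArg ZMod.val hab
    rwa [ZMod.val_natCast_of_lt ha, ZMod.val_natCast_of_lt hb] at this
  unfold toMat11 at h
  have e1 := congrFun (congrFun h 0) 0
  have e2 := congrFun (congrFun h 0) 1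
  have e3 := congrFun (congrFun h 1) 0
  have e4 := congrFun (congrFun h 1) 1
  simp only [Matrix.of_apply, Matrix.cons_val_zero, Matrix.cons_val_one, Matrix.cons_val',
    Matrix.cons_val_fin_one] at e1 e2 e3 e4
  obtain ⟨a, b, c, d⟩ := x
  obtain ⟨a', b', c', d'⟩ := y
  have := key _ _ hx1 hy1 e1
  have := key _ _ hx2 hy2 e2
  have := key _ _ hx3 hy3 e3
  have := key _ _ hx4 hy4 e4
  simp_all

/-- The element of `SL(2, 11)` of a quadruple of determinant one. -/
def sl11Of (x : Q11) (h : q11det1 x = true) : Matrix.SpecialLinearGroup (Fin 2) (ZMod 11) :=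
  ⟨toMat11 x, det_toMat11 h⟩

/-- The element of `PSL(2, 11)` of a quadruple (the identity if the determinant is not one). -/
noncomputable def pslOf (x : Q11) : Matrix.ProjectiveSpecialLinearGroup (Fin 2) (ZMod 11) :=
  if h : q11det1 x = true then
    QuotientGroup.mk (sl11Of x h)
  else 1

theorem pslOf_eq {x : Q11} (h : q11det1 x = true) :
    pslOf x = QuotientGroup.mk (sl11Of x h) := by
  rw [pslOf, dif_pos h]

theorem pslOf_mul {x y : Q11} (hx : q11det1 x = true) (hy : q11det1 y = true)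
    (hxy : q11det1 (q11mul x y) = true) : pslOf (q11mul x y) = pslOf x * pslOf y := by
  rw [pslOf_eq hx, pslOf_eq hy, pslOf_eq hxy, ← QuotientGroup.mk_mul]
  congr 1
  apply Subtype.ext
  exact toMat11_mul x y

theorem mk_eq_of_neg (A B : Matrix.SpecialLinearGroup (Fin 2) (ZMod 11)) (h : B.1 = -A.1) :
    (QuotientGroup.mk A : Matrix.ProjectiveSpecialLinearGroup (Fin 2) (ZMod 11)) = QuotientGroup.mk B := by
  rw [QuotientGroup.eq, Matrix.SpecialLinearGroup.mem_center_iff]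
  refine ⟨-1, by simp, ?_⟩
  have h1 : (↑(A⁻¹ * B) : Matrix (Fin 2) (Fin 2) (ZMod 11)) = -1 := by
    rw [Matrix.SpecialLinearGroup.coe_mul, h, mul_neg, ← Matrix.SpecialLinearGroup.coe_mul,
      inv_mul_cancel, Matrix.SpecialLinearGroup.coe_one]
  rw [h1]
  ext i j
  fin_cases i <;> fin_cases j <;> simp [Matrix.scalar]

theorem pslOf_neg {x : Q11} (hx : q11det1 x = true) (hx' : q11det1 (q11neg x) = true) :
    pslOf (q11neg x) = pslOf x := by
  rw [pslOf_eq hx, pslOf_eq hx']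
  exact (mk_eq_of_neg _ _ (toMat11_neg x)).symm

theorem pslOf_inj {x y : Q11} (hx : q11det1 x = true) (hy : q11det1 y = true)
    (h : pslOf x = pslOf y) : toMat11 y = toMat11 x ∨ toMat11 y = -toMat11 x := by
  rw [pslOf_eq hx, pslOf_eq hy, QuotientGroup.eq, Matrix.SpecialLinearGroup.mem_center_iff] at h
  obtain ⟨r, hr, hA⟩ := h
  have hr2 : r = 1 ∨ r = -1 := by
    have : ∀ r : ZMod 11, r ^ 2 = 1 → r = 1 ∨ r = -1 := by decide
    exact this r (by simpa using hr)
  set A : Matrix.SpecialLinearGroup (Fin 2) (ZMod 11) := sl11Of x hx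
  set B : Matrix.SpecialLinearGroup (Fin 2) (ZMod 11) := sl11Of y hy
  have hA1 : A.1 = toMat11 x := rfl
  have hB1 : B.1 = toMat11 y := rfl
  have h2 : B.1 = A.1 * (↑(A⁻¹ * B) : Matrix (Fin 2) (Fin 2) (ZMod 11)) := by
    rw [← Matrix.SpecialLinearGroup.coe_mul, mul_inv_cancel_left]
  rw [← hA] at h2
  rcases hr2 with rfl | rfl
  · left
    have : B.1 = A.1 := by simpa using h2
    exact this
  · right
    have hs : Matrix.scalar (Fin 2) (-1 : ZMod 11) = -1 := by
      ext i j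
      fin_cases i <;> fin_cases j <;> simp [Matrix.scalar]
    rw [hs, mul_neg, mul_one] at h2
    exact h2

theorem pslOf_one : pslOf (1, 0, 0, 1) = 1 := by
  have h : q11det1 (1, 0, 0, 1) = true := by decide
  rw [pslOf_eq h]
  have : sl11Of (1, 0, 0, 1) h = 1 := by
    apply Subtype.ext
    show toMat11 (1, 0, 0, 1) = 1
    unfold toMat11
    ext i j
    fin_cases i <;> fin_cases j <;> simp
  rw [this]
  rfl

theorem pslOf_eq_one {x : Q11} (hx : q11det1 x = true) (hr : q11red x = true)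
    (h : pslOf x = 1) : x = (1, 0, 0, 1) ∨ x = (10, 0, 0, 10) := by
  have h1 : q11det1 (1, 0, 0, 1) = true := by decide
  rw [← pslOf_one] at h
  rcases pslOf_inj h1 hx h.symm with h2 | h2
  · left
    exact toMat11_injOn hr (by decide) h2
  · right
    rw [← toMat11_neg] at h2
    exact toMat11_injOn hr (by decide) h2

instance fact_prime_eleven : Fact (Nat.Prime 11) := ⟨by norm_num⟩

theorem card_PSL11 : Nat.card (Matrix.ProjectiveSpecialLinearGroup (Fin 2) (ZMod 11)) = 660 := by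
  have h1 := Cfsg.Agent.Helper5.card_PSL2_mul (F := ZMod 11)
  have h2 : (2 : ZMod 11) ≠ 0 := by decide
  rw [Cfsg.Agent.Helper5.card_center_SL2_of_two_ne_zero h2, ZMod.card] at h1
  omega

end Cfsg.Agent.Helper7
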