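import Cfsg.Agent.Helper26.Triads
import Cfsg.Agent.Helper27.Steiner

/-!
# Pairs of points relative to two points and a pair

Fix points `p ≠ q` and a pair `s` avoiding them.  Of the pairs `t` avoiding `p, q` and disjoint
from `s`, 30 lie with `p, q, s` in an octad and 160 do not; the stabiliser of `p`, `q` and `s` in
`M24` is transitive on each family and on the pairs meeting `s` in one point.
-/

set_option autoImplicit false

namespace Cfsg.Agent.Helper7

open Cfsg Cfsg.Agent.Helper26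
open scoped Pointwise

/-- The four points `p, q, s`. -/
theorem card_four {p q : GolayPt} (hpq : p ≠ q) {s : Finset GolayPt} (hs : s.card = 2)
    (hp : p ∉ s) (hq : q ∉ s) : (insert p (insert q s)).card = 4 := by
  rw [Finset.card_insert_of_notMem (by simp [hpq, hp]), Finset.card_insert_of_notMem hq, hs]

theorem pairs_set_eq (p q : GolayPt) (s : Finset GolayPt) (P : Finset GolayPt → Prop) :
    {t : Finset GolayPt | (t.card = 2 ∧ p ∉ t ∧ q ∉ t) ∧ Disjoint s t ∧ P t} =
    {t : Finset GolayPt | t.card = 2 ∧ Disjoint (insert p (insert q s)) t ∧ P t} := by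
  ext t
  simp only [Set.mem_ofPred_eq, Finset.disjoint_insert_left]
  tauto

/-- special pairs: those `t` with `p, q, s, t` in an octad -/
theorem ncard_special_pairs (T : Finset GolayPt) (hT : T.card = 4) :
    {U : Finset GolayPt | U.card = 2 ∧ Disjoint T U ∧ (∃ o ∈ octads, T ∪ U ⊆ o)}.ncard = 30 := by
  classical
  have hS := Helper27.octads_steiner
  have hfin : {b | b ∈ octads ∧ T ⊆ b}.Finite := Set.toFinite _
  set OT : Finset (Finset GolayPt) := hfin.toFinset with hOT
  have hmem : ∀ o, o ∈ OT ↔ o ∈ octads ∧ T ⊆ o := fun o => by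
    rw [hOT, Set.Finite.mem_toFinset]; rfl
  have hcnt : OT.card * 6 = 30 := by
    have h := card_blocks_through hS T (by omega)
    rw [Set.ncard_eq_toFinset_card _ hfin, hT] at h
    have h21 : Fintype.card GolayPt = 24 := by decide
    rw [h21] at h
    have e1 : Nat.choose (8 - 4) (5 - 4) = 4 := by decide
    have e2 : Nat.choose (24 - 4) (5 - 4) = 20 := by decide
    rw [e1, e2] at h
    have : OT.card = 5 := by
      have h' : hfin.toFinset.card * 4 = 20 := h
      rw [← hOT] at h'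
      omega
    rw [this]
  have hset : {U : Finset GolayPt | U.card = 2 ∧ Disjoint T U ∧ (∃ o ∈ octads, T ∪ U ⊆ o)} =
      ↑(OT.biUnion fun o => (o \ T).powersetCard 2) := by
    ext U
    simp only [Set.mem_ofPred_eq, Finset.coe_biUnion, Finset.mem_coe, Set.mem_iUnion,
      Finset.mem_powersetCard, exists_prop, hmem]
    constructor
    · rintro ⟨hU, hd, o, ho, hsub⟩
      refine ⟨o, ⟨ho, Finset.union_subset_left hsub⟩, ?_, hU⟩
      intro a ha
      exact Finset.mem_sdiff.2 ⟨Finset.union_subset_right hsub ha,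
        fun haT => Finset.disjoint_left.1 hd haT ha⟩
    · rintro ⟨o, ⟨ho, hTo⟩, hsub, hU⟩
      refine ⟨hU, ?_, o, ho, Finset.union_subset hTo fun a ha => (Finset.mem_sdiff.1 (hsub ha)).1⟩
      rw [Finset.disjoint_left]
      intro a haT haU
      exact (Finset.mem_sdiff.1 (hsub haU)).2 haT
  rw [hset, Set.ncard_coe_finset, Finset.card_biUnion]
  · rw [← hcnt, Finset.sum_const_nat (m := 6)]
    intro o ho
    rw [Finset.card_powersetCard]
    have h8 : o.card = 8 := ((hmem o).1 ho).1.2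
    have : (o \ T).card = 4 := by
      rw [Finset.card_sdiff_of_subset ((hmem o).1 ho).2]; omega
    rw [this]; decide
  · intro o ho o' ho' hne
    rw [Function.onFun, Finset.disjoint_left]
    intro U hU hU'
    apply hne
    rw [Finset.mem_powersetCard] at hU hU'
    rw [Finset.mem_coe, hmem] at ho ho'
    apply block_eq_of_le_card_inter hS ho.1 ho'.1
    have hsub : T ∪ U ⊆ o ∩ o' := by
      intro a ha
      rcases Finset.mem_union.1 ha with ha | ha
      · exact Finset.mem_inter.2 ⟨ho.2 ha, ho'.2 ha⟩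
      · exact Finset.mem_inter.2 ⟨(Finset.mem_sdiff.1 (hU.1 ha)).1, (Finset.mem_sdiff.1 (hU'.1 ha)).1⟩
    have hdisj : Disjoint T U := by
      rw [Finset.disjoint_left]
      intro a haT haU
      exact (Finset.mem_sdiff.1 (hU.1 haU)).2 haT
    have := Finset.card_le_card hsub
    rw [Finset.card_union_of_disjoint hdisj, hT, hU.2] at this
    omega

theorem ncard_disjoint_pairs (T : Finset GolayPt) (hT : T.card = 4) :
    {U : Finset GolayPt | U.card = 2 ∧ Disjoint T U}.ncard = 190 := by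
  have h := ncard_subsets_inter_eq T 2 0 (by omega)
  have h24 : Fintype.card GolayPt = 24 := by decide
  rw [hT, h24] at h
  have e : Nat.choose 4 0 * Nat.choose (24 - 4) (2 - 0) = 190 := by decide
  rw [e] at h
  rw [← h]
  congr 1
  ext U
  simp only [Set.mem_ofPred_eq, Finset.card_eq_zero, Finset.disjoint_iff_inter_eq_empty]

theorem ncard_nonspecial_pairs (T : Finset GolayPt) (hT : T.card = 4) :
    {U : Finset GolayPt | U.card = 2 ∧ Disjoint T U ∧ ¬ (∃ o ∈ octads, T ∪ U ⊆ o)}.ncard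
      = 160 := by
  have h1 := ncard_special_pairs T hT
  have h2 := ncard_disjoint_pairs T hT
  have hu : {U : Finset GolayPt | U.card = 2 ∧ Disjoint T U} =
      {U : Finset GolayPt | U.card = 2 ∧ Disjoint T U ∧ (∃ o ∈ octads, T ∪ U ⊆ o)} ∪
      {U : Finset GolayPt | U.card = 2 ∧ Disjoint T U ∧ ¬ (∃ o ∈ octads, T ∪ U ⊆ o)} := by
    ext U
    simp only [Set.mem_ofPred_eq, Set.mem_union]
    by_cases hx : ∃ o ∈ octads, T ∪ U ⊆ o
    · simp only [hx, not_true_eq_false, and_false, or_false, and_true]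
    · simp only [hx, not_false_eq_true, and_false, false_or, and_true]
  have hd : Disjoint
      {U : Finset GolayPt | U.card = 2 ∧ Disjoint T U ∧ (∃ o ∈ octads, T ∪ U ⊆ o)}
      {U : Finset GolayPt | U.card = 2 ∧ Disjoint T U ∧ ¬ (∃ o ∈ octads, T ∪ U ⊆ o)} := by
    rw [Set.disjoint_left]
    rintro U ⟨-, -, h⟩ ⟨-, -, h'⟩
    exact h' h
  rw [hu, Set.ncard_union_eq hd (Set.toFinite _) (Set.toFinite _), h1] at h2
  omega

/-- The octad condition in terms of the four points. -/
theorem octad_cond_iff (p q : GolayPt) (s t : Finset GolayPt) :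
    (∃ o ∈ octads, p ∈ o ∧ q ∈ o ∧ s ∪ t ⊆ o) ↔
      (∃ o ∈ octads, insert p (insert q s) ∪ t ⊆ o) := by
  constructor
  · rintro ⟨o, ho, hp, hq, hst⟩
    refine ⟨o, ho, ?_⟩
    intro a ha
    simp only [Finset.mem_union, Finset.mem_insert] at ha
    rcases ha with (rfl | rfl | ha) | ha
    · exact hp
    · exact hq
    · exact hst (Finset.mem_union_left _ ha)
    · exact hst (Finset.mem_union_right _ ha)
  · rintro ⟨o, ho, hsub⟩
    refine ⟨o, ho, hsub (by simp), hsub (by simp), ?_⟩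
    intro a ha
    apply hsub
    simp only [Finset.mem_union, Finset.mem_insert] at ha ⊢
    tauto

/-- Normal form of a pair `t ≠ s`. -/
theorem pair_normal_form {s t : Finset GolayPt} (hs : s.card = 2) (ht : t.card = 2) (hts : t ≠ s) :
    ∃ a b, a ≠ b ∧ t = {a, b} ∧ b ∉ s ∧
      ((a ∉ s ∧ (s ∩ t).card = 0) ∨ (a ∈ s ∧ (s ∩ t).card = 1)) := by
  classical
  obtain ⟨a, b, hab, rfl⟩ := Finset.card_eq_two.1 ht
  by_cases ha : a ∈ s
  · by_cases hb : b ∈ s
    · exfalso
      apply hts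
      apply Finset.eq_of_subset_of_card_le
      · intro z hz
        simp only [Finset.mem_insert, Finset.mem_singleton] at hz
        rcases hz with rfl | rfl <;> assumption
      · rw [hs, ht]
    · refine ⟨a, b, hab, rfl, hb, Or.inr ⟨ha, ?_⟩⟩
      have : s ∩ {a, b} = {a} := by
        ext z
        simp only [Finset.mem_inter, Finset.mem_insert, Finset.mem_singleton]
        constructor
        · rintro ⟨hz, rfl | rfl⟩
          · rfl
          · exact absurd hz hb
        · rintro rfl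
          exact ⟨ha, Or.inl rfl⟩
      rw [this, Finset.card_singleton]
  · by_cases hb : b ∈ s
    · refine ⟨b, a, hab.symm, Finset.pair_comm a b, ha, Or.inr ⟨hb, ?_⟩⟩
      have : s ∩ {a, b} = {b} := by
        ext z
        simp only [Finset.mem_inter, Finset.mem_insert, Finset.mem_singleton]
        constructor
        · rintro ⟨hz, rfl | rfl⟩
          · exact absurd hz ha
          · rfl
        · rintro rfl
          exact ⟨hb, Or.inr rfl⟩
      rw [this, Finset.card_singleton]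
    · refine ⟨a, b, hab, rfl, hb, Or.inl ⟨ha, ?_⟩⟩
      have : s ∩ {a, b} = ∅ := by
        ext z
        simp only [Finset.mem_inter, Finset.mem_insert, Finset.mem_singleton,
          Finset.notMem_empty, iff_false]
        rintro ⟨hz, rfl | rfl⟩
        · exact ha hz
        · exact hb hz
      rw [this, Finset.card_empty]

theorem pair_of_mem {s : Finset GolayPt} (hs : s.card = 2) {a : GolayPt} (ha : a ∈ s) :
    ∃ c, c ≠ a ∧ s = {a, c} := by
  classical
  obtain ⟨x, y, hxy, rfl⟩ := Finset.card_eq_two.1 hs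
  simp only [Finset.mem_insert, Finset.mem_singleton] at ha
  rcases ha with rfl | rfl
  · exact ⟨y, hxy.symm, rfl⟩
  · exact ⟨x, hxy, Finset.pair_comm x a⟩

theorem smul_pair (g : Equiv.Perm GolayPt) (a b : GolayPt) :
    g • ({a, b} : Finset GolayPt) = {g a, g b} := by
  simp only [Finset.smul_finset_insert, Finset.smul_finset_singleton, Equiv.Perm.smul_def]

/-- Transitivity of the stabiliser of `p`, `q`, `s` on the three kinds of pairs. -/
theorem pairs_trans (p q : GolayPt) (hpq : p ≠ q) (s : Finset GolayPt)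
    (hs : s.card = 2 ∧ p ∉ s ∧ q ∉ s) (t t' : Finset GolayPt)
    (ht : t.card = 2 ∧ p ∉ t ∧ q ∉ t) (ht' : t'.card = 2 ∧ p ∉ t' ∧ q ∉ t')
    (hts : t ≠ s) (hts' : t' ≠ s) (hc : (s ∩ t).card = (s ∩ t').card)
    (h : (∃ o ∈ octads, p ∈ o ∧ q ∈ o ∧ s ∪ t ⊆ o) ↔ (∃ o ∈ octads, p ∈ o ∧ q ∈ o ∧ s ∪ t' ⊆ o)) :
    ∃ g : Equiv.Perm GolayPt, g ∈ M24 ∧ g p = p ∧ g q = q ∧ g • s = s ∧ g • t = t' := by
  classical
  obtain ⟨a, b, hab, rfl, hbs, hcase⟩ := pair_normal_form hs.1 ht.1 hts
  obtain ⟨a', b', hab', rfl, hbs', hcase'⟩ := pair_normal_form hs.1 ht'.1 hts'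
  obtain ⟨-, hpt, hqt⟩ := ht
  obtain ⟨-, hpt', hqt'⟩ := ht'
  simp only [Finset.mem_insert, Finset.mem_singleton, not_or] at hpt hqt hpt' hqt'
  rcases hcase with ⟨has, h0⟩ | ⟨has, h1⟩
  · rcases hcase' with ⟨has', h0'⟩ | ⟨has', h1'⟩
    swap
    · rw [h0, h1'] at hc
      exact absurd hc (by decide)
    -- both disjoint from s
    obtain ⟨s₁, s₂, hs12, hseq⟩ := Finset.card_eq_two.1 hs.1
    subst hseq
    obtain ⟨-, hps, hqs⟩ := hs
    simp only [Finset.mem_insert, Finset.mem_singleton, not_or] at hps hqs has has' hbs hbs'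
    have conv : ∀ (x y : GolayPt) (o : Finset GolayPt),
        ((∀ z ∈ [p, q, s₁, s₂, x], z ∈ o) ∧ y ∈ o) ↔
          (p ∈ o ∧ q ∈ o ∧ ({s₁, s₂} ∪ {x, y} : Finset GolayPt) ⊆ o) := by
      intro x y o
      simp only [List.mem_cons, List.not_mem_nil, or_false, forall_eq_or_imp, forall_eq,
        Finset.subset_iff, Finset.mem_union, Finset.mem_insert, Finset.mem_singleton]
      constructor
      · rintro ⟨⟨h1, h2, h3, h4, h5⟩, h6⟩
        refine ⟨h1, h2, ?_⟩
        rintro z ((rfl | rfl) | (rfl | rfl)) <;> assumption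
      · rintro ⟨h1, h2, hall⟩
        exact ⟨⟨h1, h2, hall (Or.inl (Or.inl rfl)), hall (Or.inl (Or.inr rfl)),
          hall (Or.inr (Or.inl rfl))⟩, hall (Or.inr (Or.inr rfl))⟩
    obtain ⟨g, hg, hmap, hgx⟩ := exists_map_six [p, q, s₁, s₂, a] [p, q, s₁, s₂, a']
      (by simp [*, Ne.symm]) (by simp [*, Ne.symm]) rfl rfl b b'
      (by simp [*, Ne.symm]) (by simp [*, Ne.symm])
      (by simpa only [conv] using h)
    simp only [List.map_cons, List.map_nil, List.cons.injEq, and_true] at hmap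
    obtain ⟨e1, e2, e3, e4, e5⟩ := hmap
    refine ⟨g, hg, e1, e2, ?_, ?_⟩
    · rw [smul_pair, e3, e4]
    · rw [smul_pair, e5, hgx]
  · rcases hcase' with ⟨has', h0'⟩ | ⟨has', h1'⟩
    · rw [h1, h0'] at hc
      exact absurd hc (by decide)
    -- both meet s in one point
    obtain ⟨c, hca, hsac⟩ := pair_of_mem hs.1 has
    obtain ⟨c', hca', hsac'⟩ := pair_of_mem hs.1 has'
    obtain ⟨-, hps, hqs⟩ := hs
    have hcs : c ∈ s := by rw [hsac]; simp
    have hcs' : c' ∈ s := by rw [hsac']; simp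
    have hpa : p ≠ a := fun e => hps (e ▸ has)
    have hpc : p ≠ c := fun e => hps (e ▸ hcs)
    have hqa : q ≠ a := fun e => hqs (e ▸ has)
    have hqc : q ≠ c := fun e => hqs (e ▸ hcs)
    have hcb : c ≠ b := fun e => hbs (e ▸ hcs)
    have hpa' : p ≠ a' := fun e => hps (e ▸ has')
    have hpc' : p ≠ c' := fun e => hps (e ▸ hcs')
    have hqa' : q ≠ a' := fun e => hqs (e ▸ has')
    have hqc' : q ≠ c' := fun e => hqs (e ▸ hcs')
    have hcb' : c' ≠ b' := fun e => hbs' (e ▸ hcs')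
    obtain ⟨g, hg, hmap⟩ := exists_map_list [p, q, a, c, b] [p, q, a', c', b']
      (by simp [*, Ne.symm]) (by simp [*, Ne.symm]) rfl (by simp)
    simp only [List.map_cons, List.map_nil, List.cons.injEq, and_true] at hmap
    obtain ⟨e1, e2, e3, e4, e5⟩ := hmap
    refine ⟨g, hg, e1, e2, ?_, ?_⟩
    · rw [hsac, smul_pair, e3, e4, ← hsac']
      exact hsac
    · rw [smul_pair, e3, e5]

/-- The full statement. -/
theorem pairs_main (p q : GolayPt) (hpq : p ≠ q) (s : Finset GolayPt)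
    (hs : s.card = 2 ∧ p ∉ s ∧ q ∉ s) :
    {t : Finset GolayPt | (t.card = 2 ∧ p ∉ t ∧ q ∉ t) ∧ Disjoint s t ∧
      (∃ o ∈ octads, p ∈ o ∧ q ∈ o ∧ s ∪ t ⊆ o)}.ncard = 30 ∧
    {t : Finset GolayPt | (t.card = 2 ∧ p ∉ t ∧ q ∉ t) ∧ Disjoint s t ∧
      ¬ (∃ o ∈ octads, p ∈ o ∧ q ∈ o ∧ s ∪ t ⊆ o)}.ncard = 160 ∧
    ∀ t t' : Finset GolayPt, (t.card = 2 ∧ p ∉ t ∧ q ∉ t) → (t'.card = 2 ∧ p ∉ t' ∧ q ∉ t') →
      t ≠ s → t' ≠ s → (s ∩ t).card = (s ∩ t').card →
      ((∃ o ∈ octads, p ∈ o ∧ q ∈ o ∧ s ∪ t ⊆ o) ↔ (∃ o ∈ octads, p ∈ o ∧ q ∈ o ∧ s ∪ t' ⊆ o)) →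
      ∃ g : Equiv.Perm GolayPt, g ∈ M24 ∧ g p = p ∧ g q = q ∧ g • s = s ∧ g • t = t' := by
  have hT := card_four hpq hs.1 hs.2.1 hs.2.2
  refine ⟨?_, ?_, ?_⟩
  · rw [pairs_set_eq]
    simp only [octad_cond_iff]
    exact ncard_special_pairs _ hT
  · rw [pairs_set_eq]
    simp only [octad_cond_iff]
    exact ncard_nonspecial_pairs _ hT
  · intro t t' ht ht' hts hts' hc h
    exact pairs_trans p q hpq s hs t t' ht ht' hts hts' hc h

end Cfsg.Agent.Helper7
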