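import Cfsg.Agent.Helper7.MaskAct
import Cfsg.Agent.Helper7.OctadFix

/-!
# Recognising a full symmetric group from a faithful action and the group order
-/

set_option autoImplicit false

namespace Cfsg.Agent.Helper7

open Cfsg MulAction

/-- A group of order `n!` acting faithfully on `n` points is the symmetric group. -/
theorem nonempty_mulEquiv_perm_fin {G Ω : Type*} [Group G] [Finite G] [MulAction G Ω]
    [FaithfulSMul G Ω] [Finite Ω] (n : ℕ) (hΩ : Nat.card Ω = n) (hG : Nat.card G = n.factorial) :
    Nonempty (G ≃* Equiv.Perm (Fin n)) := by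
  classical
  have : Fintype Ω := Fintype.ofFinite Ω
  have hinj : Function.Injective (MulAction.toPermHom G Ω) := MulAction.toPerm_injective
  have hcard : Nat.card (Equiv.Perm Ω) = n.factorial := by
    rw [Nat.card_eq_fintype_card, Fintype.card_perm, ← Nat.card_eq_fintype_card, hΩ]
  have hbij : Function.Bijective (MulAction.toPermHom G Ω) := by
    rw [Nat.bijective_iff_injective_and_card]
    exact ⟨hinj, by rw [hG, hcard]⟩
  have e1 : G ≃* Equiv.Perm Ω := MulEquiv.ofBijective _ hbij
  have e2 : Ω ≃ Fin n := by
    have : Fintype.card Ω = n := by rw [← Nat.card_eq_fintype_card, hΩ]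
    exact Fintype.equivFinOfCardEq this
  exact ⟨e1.trans e2.permCongrHom⟩

/-- Table version: a subgroup described by a list of `n!` tables, all preserving a mask of weight
`n` on which only the identity acts trivially, is the symmetric group of degree `n`. -/
theorem nonempty_mulEquiv_perm_of_tables (G : Subgroup (Equiv.Perm GolayPt))
    (tabs : List (List ℕ)) (hnd : tabs.Nodup)
    (h1 : ∀ g ∈ G, ∃ l ∈ tabs, IsTable l g) (h2 : ∀ l ∈ tabs, ∃ g ∈ G, IsTable l g)
    (S n : ℕ) (hS : wt S = n) (hlen : tabs.length = n.factorial)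
    (hstab : tabs.all (maskStable S) = true)
    (hfaith : tabs.all (fun l => !fixesMask S l || l == idT) = true) :
    Nonempty (G ≃* Equiv.Perm (Fin n)) := by
  have hinv : ∀ g ∈ G, ∀ p, S.testBit (idx p) = true → S.testBit (idx (g p)) = true := by
    intro g hg p hp
    obtain ⟨l, hl, hlt⟩ := h1 g hg
    rw [List.all_eq_true] at hstab
    rw [(maskStable_iff hlt).mp (hstab l hl) p]
    exact hp
  have hf : ∀ g ∈ G, (∀ p, S.testBit (idx p) = true → g p = p) → g = 1 := by
    intro g hg hfix
    obtain ⟨l, hl, hlt⟩ := h1 g hg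
    rw [List.all_eq_true] at hfaith
    have h3 := hfaith l hl
    rw [(fixesMask_iff hlt).mpr hfix] at h3
    have h4 : l = idT := by simpa using h3
    rw [h4] at hlt
    exact hlt.inj isTable_one
  have hfaithI := faithful_maskSub G S hinv hf
  have hcardG : Nat.card G = n.factorial := by
    rw [card_of_tables G tabs hnd h1 h2, hlen]
  have : Finite (maskSub G S hinv) := Subtype.finite
  exact nonempty_mulEquiv_perm_fin (G := G) (Ω := maskSub G S hinv) n
    (by rw [card_maskSub G S hinv, hS]) hcardG

end Cfsg.Agent.Helper7
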