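import Cfsg.Agent.Helper7.QStabData

/-!
# The stabiliser of the standard quartet: checks of the generated data
-/

set_option autoImplicit false

namespace Cfsg.Agent.Helper7

open Cfsg Cfsg.Agent.Helper56.GL23

theorem q432_eq : q432 = perm432.map (fun i => c432Tabs.getD i []) := by decide +kernel

theorem q432Out_eq : runSLP q432Prog [idT, g432a.1, g432b.1] = c432Tabs := by decide +kernel

theorem c432_length : c432Tabs.length = 432 := by decide +kernel

theorem c432_head : (c432.take 3).map (fun e => (e.1, e.2.1)) = [(idT, qone), g432a, g432b] := by
  decide +kernel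

theorem c432_det : c432.all (fun e => decide (qdet e.2.1 ≠ 0)) = true := by decide +kernel

theorem c432_mul : c432.all (fun e => mulChk3 e g432a e.2.2.1 && mulChk3 e g432b e.2.2.2) = true := by
  decide +kernel

theorem c432_surj : ∀ x : Q3, qdet x = 0 ∨ c432.any (fun e => decide (e.2.1 = x)) = true := by
  decide +kernel

end Cfsg.Agent.Helper7
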