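import Cfsg.Agent.Helper7.QStab

/-!
# The number of quartets of a dodecad
-/

set_option autoImplicit false

namespace Cfsg.Agent.Helper7

open Cfsg MulAction
open scoped Pointwise

theorem orbit_Q0F_eq : orbit M12 Q0F = quartets d0F := by
  ext Q
  constructor
  · rintro ⟨g, rfl⟩
    exact smul_mem_quartets_d0F g.2 Q0F_mem
  · intro hQ
    obtain ⟨g, hg, rfl⟩ := quartet_trans_std hQ
    exact ⟨⟨g, hg⟩, rfl⟩

theorem map_stabilizer_Q0F : (stabilizer M12 Q0F).map M12.subtype = qStab := by
  ext g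
  rw [Subgroup.mem_map, mem_qStab]
  constructor
  · rintro ⟨k, hk, rfl⟩
    exact ⟨k.2, hk⟩
  · rintro ⟨hg, hs⟩
    exact ⟨⟨g, hg⟩, hs, rfl⟩

theorem card_stabilizer_Q0F : Nat.card (stabilizer M12 Q0F) = 432 := by
  have h := Subgroup.card_map_of_injective (K := stabilizer M12 Q0F) M12.subtype_injective
  rw [map_stabilizer_Q0F] at h
  rw [← h]
  exact card_qStab

theorem ncard_quartets_d0F : (quartets d0F).ncard = 220 := by
  rw [← orbit_Q0F_eq, ← index_stabilizer]
  have h := (stabilizer M12 Q0F).index_mul_card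
  rw [card_stabilizer_Q0F, card_M12] at h
  exact Nat.eq_of_mul_eq_mul_right (by norm_num : 0 < 432) (h.trans (by norm_num))

theorem quartets_smul (s : M24) :
    quartets (s • d0F) = (fun Q : Finset (Finset GolayPt) => (s : Equiv.Perm GolayPt) • Q) ''
      quartets d0F := by
  have hs : (s : Equiv.Perm GolayPt) ∈ M24 := s.2
  have hsi : (s : Equiv.Perm GolayPt)⁻¹ ∈ M24 := M24.inv_mem hs
  have hsd : (s : Equiv.Perm GolayPt)⁻¹ • (s • d0F) = d0F := inv_smul_smul _ _
  ext Q
  constructor
  · intro hQ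
    have h1 := smul_mem_quartets hsi hQ
    rw [hsd] at h1
    exact ⟨_, h1, smul_inv_smul _ _⟩
  · rintro ⟨Q', hQ', rfl⟩
    exact smul_mem_quartets hs hQ'

/-- A dodecad has 220 quartets. -/
theorem ncard_quartets {d : Finset GolayPt} (hd : d ∈ dodecads) : (quartets d).ncard = 220 := by
  obtain ⟨s, rfl⟩ := exists_smul_d0F_eq hd
  rw [quartets_smul, Set.ncard_image_of_injective _ (MulAction.injective _), ncard_quartets_d0F]

end Cfsg.Agent.Helper7
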