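import Cfsg.Agent.Helper7.QStabChecks
import Cfsg.Agent.Helper7.QuartetCount

/-!
# The structure of the stabiliser of a quartet
-/

set_option autoImplicit false

namespace Cfsg.Agent.Helper7

open Cfsg MulAction Cfsg.Agent.Helper56.GL23
open scoped Pointwise

theorem c432_h1 : ∀ g ∈ qStab, ∃ l ∈ c432Tabs, IsTable l g := by
  intro g hg
  obtain ⟨l, hl, hlt⟩ := q432_h1 g hg
  refine ⟨l, ?_, hlt⟩
  rw [q432_eq, List.mem_map] at hl
  obtain ⟨i, _, hi⟩ := hl
  by_cases hi432 : i < c432Tabs.length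
  · rw [List.getD_eq_getElem _ _ hi432] at hi
    rw [← hi]
    exact List.getElem_mem hi432
  · rw [List.getD_eq_default _ _ (by omega)] at hi
    have := hlt.1
    rw [← hi] at this
    simp at this

theorem c432_nodup : c432Tabs.Nodup :=
  (nodup_and_tabled_of_card _ c432Tabs c432_h1 (by rw [card_qStab, c432_length])).1

theorem c432_h2 : ∀ l ∈ c432Tabs, ∃ g ∈ qStab, IsTable l g :=
  (nodup_and_tabled_of_card _ c432Tabs c432_h1 (by rw [card_qStab, c432_length])).2

theorem valQ3_of_mem {e : List ℕ × Q3 × ℕ × ℕ} (he : e ∈ c432) : valQ3 e.1 = e.2.1 := by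
  rw [valQ3, lookupT_eq_of_mem _ c432 c432_nodup (l := e.1) (a := e.2) he]

theorem c432_mem_of_tab {l : List ℕ} (hl : l ∈ c432Tabs) :
    ∃ e ∈ c432, e.1 = l ∧ e.2.1 = valQ3 l := by
  rw [c432Tabs, List.mem_map] at hl
  obtain ⟨e, he, rfl⟩ := hl
  exact ⟨e, he, rfl, (valQ3_of_mem he).symm⟩

theorem c432_det_ne {e : List ℕ × Q3 × ℕ × ℕ} (he : e ∈ c432) : qdet e.2.1 ≠ 0 := by
  have h := c432_det
  rw [List.all_eq_true] at h
  exact of_decide_eq_true (h e he)

theorem c432_take_mem {x : List ℕ × Q3} (hx : x ∈ [(idT, qone), g432a, g432b]) :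
    ∃ e ∈ c432, e.1 = x.1 ∧ e.2.1 = x.2 := by
  rw [← c432_head, List.mem_map] at hx
  obtain ⟨e, he, rfl⟩ := hx
  exact ⟨e, List.mem_of_mem_take he, rfl, rfl⟩

theorem mulChk3_sound {e : List ℕ × Q3 × ℕ × ℕ} {f : List ℕ × Q3} {n : ℕ}
    (h : mulChk3 e f n = true) :
    ∃ t ∈ c432, t.1 = compT e.1 f.1 ∧ t.2.1 = qmul e.2.1 f.2 := by
  unfold mulChk3 at h
  split at h
  · rename_i t ht
    rw [Bool.and_eq_true] at h
    exact ⟨t, List.mem_of_getElem? ht, by simpa using h.1, of_decide_eq_true h.2⟩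
  · exact absurd h (by simp)

/-- The homomorphism from the stabiliser of the standard quartet onto `GL(2, 3)`. -/
theorem exists_hom_qStab :
    ∃ F : qStab →* GL (Fin 2) (ZMod 3), Function.Surjective F := by
  obtain ⟨F, hF⟩ := exists_monoidHom_of_slp (M := GL (Fin 2) (ZMod 3)) qStab c432Tabs c432_h1
    [g432a.1, g432b.1]
    (by
      intro s hs
      have : ∃ x ∈ [(idT, qone), g432a, g432b], x.1 = s := by
        simp only [List.mem_cons, List.not_mem_nil, or_false] at hs
        rcases hs with rfl | rfl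
        · exact ⟨g432a, by simp, rfl⟩
        · exact ⟨g432b, by simp, rfl⟩
      obtain ⟨x, hx, rfl⟩ := this
      obtain ⟨e, he, he1, _⟩ := c432_take_mem hx
      rw [← he1]
      exact c432_h2 _ (List.mem_map.mpr ⟨e, he, rfl⟩))
    q432Prog
    (by
      intro l hl
      rw [q432Out_eq]
      exact hl)
    (fun l => glOf3 (valQ3 l))
    (by
      obtain ⟨e, he, he1, he2⟩ := c432_take_mem (x := (idT, qone)) (by simp)
      show glOf3 (valQ3 idT) = 1
      have := valQ3_of_mem he
      rw [he1, he2] at this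
      rw [this]
      exact glOf3_one)
    (by
      intro l hl s hs
      obtain ⟨e, he, rfl, hev⟩ := c432_mem_of_tab hl
      have hf : ∃ f ∈ [g432a, g432b], f.1 = s ∧
          mulChk3 e f (if f = g432a then e.2.2.1 else e.2.2.2) = true := by
        have h := c432_mul
        rw [List.all_eq_true] at h
        have h3 := h e he
        rw [Bool.and_eq_true] at h3
        simp only [List.mem_cons, List.not_mem_nil, or_false] at hs
        rcases hs with rfl | rfl
        · exact ⟨g432a, by simp, rfl, by rw [if_pos rfl]; exact h3.1⟩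
        · refine ⟨g432b, by simp, rfl, ?_⟩
          have : g432b ≠ g432a := by decide +kernel
          rw [if_neg this]
          exact h3.2
      obtain ⟨f, hf, rfl, hchk⟩ := hf
      obtain ⟨t, ht, ht1, ht2⟩ := mulChk3_sound hchk
      obtain ⟨e', he', he'1, he'2⟩ := c432_take_mem (x := f) (List.mem_cons_of_mem _ hf)
      have hfv : valQ3 f.1 = f.2 := by
        have := valQ3_of_mem he'
        rwa [he'1, he'2] at this
      have htv : valQ3 (compT e.1 f.1) = t.2.1 := by
        have := valQ3_of_mem ht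
        rwa [ht1] at this
      have hdl := c432_det_ne he
      have hdf : qdet f.2 ≠ 0 := by
        have := c432_det_ne he'
        rwa [he'2] at this
      show glOf3 (valQ3 (compT e.1 f.1)) = glOf3 (valQ3 e.1) * glOf3 (valQ3 f.1)
      rw [hfv, htv, ← hev, ht2, glOf3_mul hdl hdf])
  refine ⟨F, fun A => ?_⟩
  obtain ⟨hdet, hA⟩ := glOf3_ofMat A
  rcases c432_surj (ofMat A.1) with h0 | h0
  · exact absurd h0 hdet
  · rw [List.any_eq_true] at h0
    obtain ⟨e, he, hex⟩ := h0
    have hex' : e.2.1 = ofMat A.1 := of_decide_eq_true hex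
    obtain ⟨g, hg, hlt⟩ := c432_h2 e.1 (List.mem_map.mpr ⟨e, he, rfl⟩)
    refine ⟨⟨g, hg⟩, ?_⟩
    rw [hF]
    show glOf3 (valQ3 (tableOf g)) = A
    rw [← hlt.eq_tableOf, valQ3_of_mem he, hex', hA]

/-- A group of order 432 mapping onto a group of order 48 has a normal subgroup of order 9 with
that quotient. -/
theorem normal_nine_of_surjective {H M : Type*} [Group H] [Group M] (F : H →* M)
    (hF : Function.Surjective F) (hH : Nat.card H = 432) (hM : Nat.card M = 48) :
    ∃ (N : Subgroup H) (_ : N.Normal), Nat.card N = 9 ∧ Nonempty (H ⧸ N ≃* M) := by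
  refine ⟨F.ker, MonoidHom.normal_ker F, ?_, ⟨QuotientGroup.quotientKerEquivOfSurjective F hF⟩⟩
  have h1 := Subgroup.card_eq_card_quotient_mul_card_subgroup F.ker
  have h2 : Nat.card (H ⧸ F.ker) = 48 := by
    rw [Nat.card_congr (QuotientGroup.quotientKerEquivOfSurjective F hF).toEquiv, hM]
  rw [hH, h2] at h1
  omega

/-- The stabiliser of the standard quartet is transitive on the standard dodecad. -/
theorem qStab_trans {p q : GolayPt} (hp : p ∈ d0F) (hq : q ∈ d0F) : ∃ g ∈ qStab, g p = q := by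
  have key : ∀ x : GolayPt, x ∈ d0F → ∃ g ∈ qStab, g (pt 0) = x := by
    intro x hx
    have h3 : ∀ i < 24, d0.testBit i = true → i ∈ d0pts := by decide +kernel
    have hx' : idx x ∈ qLevel.orb := h3 _ (idx_lt x) ((mem_d0F_iff x).mp hx)
    obtain ⟨l, _, t, ht, _, htq⟩ := Level.cover (F := []) tabled_qReps qLevel_ok (by decide) _ hx'
    rw [fixG_nil] at ht
    refine ⟨t, ht, ?_⟩
    have : qLevel.b = 0 := rfl
    rw [this] at htq
    rw [htq, pt_idx]
  obtain ⟨gp, hgp, hp0⟩ := key p hp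
  obtain ⟨gq, hgq, hq0⟩ := key q hq
  refine ⟨gq * gp⁻¹, qStab.mul_mem hgq (qStab.inv_mem hgp), ?_⟩
  rw [← hp0, ← hq0]
  simp

end Cfsg.Agent.Helper7
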