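import Cfsg.Agent.Helper7.QuartetStab

/-!
# The orbits of the stabiliser of a quartet on the quartets of a dodecad
-/

set_option autoImplicit false

namespace Cfsg.Agent.Helper7

open Cfsg MulAction Cfsg.Agent.Helper56.GL23
open scoped Pointwise

/-- The family of sets given by a list of masks. -/
def maskQ (qL : List ℕ) : Finset (Finset GolayPt) := (qL.map decT).toFinset

theorem mem_maskQ_iff (qL : List ℕ) (t : Finset GolayPt) :
    t ∈ maskQ qL ↔ ∃ a ∈ qL, t = decT a := by
  rw [maskQ, List.mem_toFinset, List.mem_map]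
  constructor
  · rintro ⟨a, ha, rfl⟩; exact ⟨a, ha, rfl⟩
  · rintro ⟨a, ha, rfl⟩; exact ⟨a, ha, rfl⟩

theorem maskQ_q0L : maskQ q0L = Q0F := Q0F_eq.symm

/-- Table-level test for stabilising a family of sets given by masks. -/
def qStableL (qL : List ℕ) (l : List ℕ) : Bool := qL.all (fun a => qL.contains (pullMask l a))

theorem qStableL_iff {qL : List ℕ} (hlt : ∀ a ∈ qL, a < 2 ^ 24) {l : List ℕ}
    {g : Equiv.Perm GolayPt} (h : IsTable l g) :
    qStableL qL l = true ↔ g • maskQ qL = maskQ qL := by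
  have key : qStableL qL l = true ↔ g⁻¹ • maskQ qL = maskQ qL := by
    rw [qStableL, List.all_eq_true]
    constructor
    · intro hall
      apply Finset.eq_of_subset_of_card_le
      · intro t ht
        obtain ⟨t', ht', rfl⟩ := Finset.mem_smul_finset.mp ht
        obtain ⟨a, ha, rfl⟩ := (mem_maskQ_iff qL t').mp ht'
        rw [inv_smul_decT h, mem_maskQ_iff]
        exact ⟨pullMask l a, by simpa using hall a ha, rfl⟩
      · rw [Finset.card_smul_finset]
    · intro he a ha
      have h1 : g⁻¹ • decT a ∈ g⁻¹ • maskQ qL :=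
        Finset.smul_mem_smul_finset ((mem_maskQ_iff _ _).mpr ⟨a, ha, rfl⟩)
      rw [he, inv_smul_decT h, mem_maskQ_iff] at h1
      obtain ⟨b, hb, hab⟩ := h1
      have hlt' : pullMask l a < 2 ^ 24 := by
        have := pullMask_lt l a
        rwa [h.1] at this
      rw [decT_inj hlt' (hlt b hb) hab]
      simpa using hb
  rw [key]
  constructor
  · intro he
    rw [← he, smul_inv_smul, he]
  · intro he
    rw [← he, inv_smul_smul, he]

/-- Test for a list of masks to be a quartet of the standard dodecad. -/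
def quartetChk (qL : List ℕ) : Bool :=
  Nat.beq qL.length 4 && decide qL.Nodup &&
  qL.all (fun a => Nat.blt a (2 ^ 24) && Nat.beq (wt a) 3 &&
    Nat.beq (a &&& d0) a && qL.all (fun b => a == b || isHex (a ||| b)))

theorem quartetChk_lt {qL : List ℕ} (hc : quartetChk qL = true) : ∀ a ∈ qL, a < 2 ^ 24 := by
  intro a ha
  rw [quartetChk, Bool.and_eq_true, List.all_eq_true] at hc
  have h1 := hc.2 a ha
  simp only [Bool.and_eq_true, Nat.blt_eq] at h1
  exact h1.1.1.1

theorem maskQ_mem_quartets {qL : List ℕ} (hc : quartetChk qL = true) :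
    maskQ qL ∈ quartets d0F := by
  have hlt := quartetChk_lt hc
  rw [quartetChk, Bool.and_eq_true, Bool.and_eq_true, List.all_eq_true] at hc
  obtain ⟨⟨h4, hnd⟩, hc⟩ := hc
  have hnd' : qL.Nodup := of_decide_eq_true hnd
  refine ⟨?_, ?_, ?_⟩
  · rw [maskQ, List.toFinset_card_of_nodup, List.length_map]
    · exact Nat.eq_of_beq_eq_true h4
    · apply List.Nodup.map_on _ hnd'
      intro a ha b hb hab
      exact decT_inj (hlt a ha) (hlt b hb) hab
  · intro t ht
    obtain ⟨a, ha, rfl⟩ := (mem_maskQ_iff _ t).mp ht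
    have h1 := hc a ha
    simp only [Bool.and_eq_true, Nat.blt_eq] at h1
    refine ⟨?_, ?_⟩
    · rw [card_decT]
      exact Nat.eq_of_beq_eq_true h1.1.1.2
    · rw [d0F_eq_decT]
      exact decT_subset_of_land (Nat.eq_of_beq_eq_true h1.1.2)
  · intro t ht u hu htu
    obtain ⟨a, ha, rfl⟩ := (mem_maskQ_iff _ t).mp ht
    obtain ⟨b, hb, rfl⟩ := (mem_maskQ_iff _ u).mp hu
    have h1 := hc a ha
    simp only [Bool.and_eq_true, Nat.blt_eq] at h1
    have h3 := h1.2
    rw [List.all_eq_true] at h3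
    have h4' := h3 b hb
    rw [Bool.or_eq_true, beq_iff_eq] at h4'
    rcases h4' with rfl | h4'
    · exact absurd rfl htu
    · rw [← decT_lor, ← isHex_iff (lor_lt_24 (hlt a ha) (hlt b hb))]
      exact h4'

/-- The size of the orbit of a quartet of the standard dodecad under the stabiliser of the standard
quartet, from the number of tables stabilising it. -/
theorem ncard_orbit_qStab {qL : List ℕ} (hlt : ∀ a ∈ qL, a < 2 ^ 24) (n : ℕ)
    (hn : n * (c432Tabs.filter (qStableL qL)).length = 432) :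
    (orbit qStab (maskQ qL)).ncard = n := by
  have hmap : ∀ g : Equiv.Perm GolayPt,
      g ∈ (stabilizer qStab (maskQ qL)).map qStab.subtype ↔ g ∈ qStab ∧ g • maskQ qL = maskQ qL := by
    intro g
    rw [Subgroup.mem_map]
    constructor
    · rintro ⟨k, hk, rfl⟩
      exact ⟨k.2, hk⟩
    · rintro ⟨hg, hs⟩
      exact ⟨⟨g, hg⟩, hs, rfl⟩
  have hcard : Nat.card ((stabilizer qStab (maskQ qL)).map qStab.subtype) =
      (c432Tabs.filter (qStableL qL)).length := by
    apply card_of_tables _ _ (c432_nodup.filter _)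
    · intro g hg
      rw [hmap] at hg
      obtain ⟨l, hl, hlt'⟩ := c432_h1 g hg.1
      exact ⟨l, List.mem_filter.mpr ⟨hl, (qStableL_iff hlt hlt').mpr hg.2⟩, hlt'⟩
    · intro l hl
      rw [List.mem_filter] at hl
      obtain ⟨g, hg, hlt'⟩ := c432_h2 l hl.1
      exact ⟨g, (hmap g).mpr ⟨hg, (qStableL_iff hlt hlt').mp hl.2⟩, hlt'⟩
  have h1 := Subgroup.card_map_of_injective (K := stabilizer qStab (maskQ qL))
    qStab.subtype_injective
  rw [hcard] at h1
  rw [← index_stabilizer]
  have h2 := (stabilizer qStab (maskQ qL)).index_mul_card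
  rw [← h1, card_qStab, ← hn] at h2
  have hpos : 0 < (c432Tabs.filter (qStableL qL)).length := by
    rcases Nat.eq_zero_or_pos (c432Tabs.filter (qStableL qL)).length with h0 | h0
    · rw [h0] at hn
      simp at hn
    · exact h0
  exact Nat.eq_of_mul_eq_mul_right hpos h2

/-- Representatives of the orbits on quartets. -/
abbrev x1L : List ℕ := [7, 584, 73744, 266496]
abbrev x2L : List ℕ := [88, 770, 8197, 331776]
abbrev x3L : List ℕ := [74, 517, 12304, 327936]
abbrev x4L : List ℕ := [268, 12289, 65616, 262658]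

theorem xL_chk : quartetChk x1L = true ∧ quartetChk x2L = true ∧ quartetChk x3L = true ∧
    quartetChk x4L = true := by decide +kernel

theorem xL_stab : (c432Tabs.filter (qStableL q0L)).length = 432 ∧
    (c432Tabs.filter (qStableL x1L)).length = 36 ∧
    (c432Tabs.filter (qStableL x2L)).length = 16 ∧
    (c432Tabs.filter (qStableL x3L)).length = 6 ∧
    (c432Tabs.filter (qStableL x4L)).length = 4 := by decide +kernel

theorem q0L_lt' : ∀ a ∈ q0L, a < 2 ^ 24 := by decide

theorem orbit_disjoint_of_ncard_ne {G β : Type*} [Group G] [MulAction G β] {x y : β}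
    (h : (orbit G x).ncard ≠ (orbit G y).ncard) : Disjoint (orbit G x) (orbit G y) := by
  rcases orbit.eq_or_disjoint (G := G) x y with he | hd
  · exact absurd (by rw [he]) h
  · exact hd

theorem orbit_qStab_subset {X : Finset (Finset GolayPt)} (hX : X ∈ quartets d0F) :
    orbit qStab X ⊆ quartets d0F := by
  rintro _ ⟨g, rfl⟩
  exact smul_mem_quartets_d0F (mem_qStab.mp g.2).1 hX

theorem orbit_qStab_Q0F : orbit qStab Q0F = {Q0F} := by
  ext X
  rw [Set.mem_singleton_iff]
  constructor
  · rintro ⟨g, rfl⟩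
    exact (mem_qStab.mp g.2).2
  · rintro rfl
    exact mem_orbit_self _

/-- The quartets of the standard dodecad are the standard one and four orbits of its stabiliser. -/
theorem quartets_d0F_eq_orbits :
    (orbit qStab (maskQ x1L)).ncard = 12 ∧ (orbit qStab (maskQ x2L)).ncard = 27 ∧
    (orbit qStab (maskQ x3L)).ncard = 72 ∧ (orbit qStab (maskQ x4L)).ncard = 108 ∧
    quartets d0F = {Q0F} ∪ orbit qStab (maskQ x1L) ∪ orbit qStab (maskQ x2L) ∪
      orbit qStab (maskQ x3L) ∪ orbit qStab (maskQ x4L) := by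
  obtain ⟨c1, c2, c3, c4⟩ := xL_chk
  obtain ⟨s0, s1, s2, s3, s4⟩ := xL_stab
  have n0 : (orbit qStab Q0F).ncard = 1 := by
    rw [orbit_qStab_Q0F, Set.ncard_singleton]
  have n1 := ncard_orbit_qStab (quartetChk_lt c1) 12 (by rw [s1])
  have n2 := ncard_orbit_qStab (quartetChk_lt c2) 27 (by rw [s2])
  have n3 := ncard_orbit_qStab (quartetChk_lt c3) 72 (by rw [s3])
  have n4 := ncard_orbit_qStab (quartetChk_lt c4) 108 (by rw [s4])
  refine ⟨n1, n2, n3, n4, ?_⟩
  rw [← orbit_qStab_Q0F]
  have d01 : Disjoint (orbit qStab Q0F) (orbit qStab (maskQ x1L)) :=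
    orbit_disjoint_of_ncard_ne (by rw [n0, n1]; norm_num)
  have d02 : Disjoint (orbit qStab Q0F) (orbit qStab (maskQ x2L)) :=
    orbit_disjoint_of_ncard_ne (by rw [n0, n2]; norm_num)
  have d03 : Disjoint (orbit qStab Q0F) (orbit qStab (maskQ x3L)) :=
    orbit_disjoint_of_ncard_ne (by rw [n0, n3]; norm_num)
  have d04 : Disjoint (orbit qStab Q0F) (orbit qStab (maskQ x4L)) :=
    orbit_disjoint_of_ncard_ne (by rw [n0, n4]; norm_num)
  have d12 : Disjoint (orbit qStab (maskQ x1L)) (orbit qStab (maskQ x2L)) :=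
    orbit_disjoint_of_ncard_ne (by rw [n1, n2]; norm_num)
  have d13 : Disjoint (orbit qStab (maskQ x1L)) (orbit qStab (maskQ x3L)) :=
    orbit_disjoint_of_ncard_ne (by rw [n1, n3]; norm_num)
  have d14 : Disjoint (orbit qStab (maskQ x1L)) (orbit qStab (maskQ x4L)) :=
    orbit_disjoint_of_ncard_ne (by rw [n1, n4]; norm_num)
  have d23 : Disjoint (orbit qStab (maskQ x2L)) (orbit qStab (maskQ x3L)) :=
    orbit_disjoint_of_ncard_ne (by rw [n2, n3]; norm_num)
  have d24 : Disjoint (orbit qStab (maskQ x2L)) (orbit qStab (maskQ x4L)) :=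
    orbit_disjoint_of_ncard_ne (by rw [n2, n4]; norm_num)
  have d34 : Disjoint (orbit qStab (maskQ x3L)) (orbit qStab (maskQ x4L)) :=
    orbit_disjoint_of_ncard_ne (by rw [n3, n4]; norm_num)
  have u1 : (orbit qStab Q0F ∪ orbit qStab (maskQ x1L)).ncard = 13 := by
    rw [Set.ncard_union_eq d01, n0, n1]
  have u2 : (orbit qStab Q0F ∪ orbit qStab (maskQ x1L) ∪ orbit qStab (maskQ x2L)).ncard = 40 := by
    rw [Set.ncard_union_eq (Set.disjoint_union_left.mpr ⟨d02, d12⟩), u1, n2]
  have u3 : (orbit qStab Q0F ∪ orbit qStab (maskQ x1L) ∪ orbit qStab (maskQ x2L) ∪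
      orbit qStab (maskQ x3L)).ncard = 112 := by
    rw [Set.ncard_union_eq (Set.disjoint_union_left.mpr
      ⟨Set.disjoint_union_left.mpr ⟨d03, d13⟩, d23⟩), u2, n3]
  have u4 : (orbit qStab Q0F ∪ orbit qStab (maskQ x1L) ∪ orbit qStab (maskQ x2L) ∪
      orbit qStab (maskQ x3L) ∪ orbit qStab (maskQ x4L)).ncard = 220 := by
    rw [Set.ncard_union_eq (Set.disjoint_union_left.mpr
      ⟨Set.disjoint_union_left.mpr ⟨Set.disjoint_union_left.mpr ⟨d04, d14⟩, d24⟩, d34⟩), u3, n4]
  symm
  apply Set.eq_of_subset_of_ncard_le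
  · intro X hX
    simp only [Set.mem_union] at hX
    rcases hX with (((hX | hX) | hX) | hX) | hX
    · exact orbit_qStab_subset Q0F_mem hX
    · exact orbit_qStab_subset (maskQ_mem_quartets c1) hX
    · exact orbit_qStab_subset (maskQ_mem_quartets c2) hX
    · exact orbit_qStab_subset (maskQ_mem_quartets c3) hX
    · exact orbit_qStab_subset (maskQ_mem_quartets c4) hX
  · rw [u4, ncard_quartets_d0F]
  · exact Set.toFinite _

end Cfsg.Agent.Helper7
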