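import Cfsg.Agent.Helper7.QuartetOrbits

/-!
# The orbits of the stabiliser of a quartet on the quartets of a dodecad: general position
-/

set_option autoImplicit false

namespace Cfsg.Agent.Helper7

open Cfsg MulAction
open scoped Pointwise

theorem orbit_image_of_equiv {A G β : Type*} [Group A] [Group G] [MulAction A β] [MulAction G β]
    (e : A ≃* G) (φ : β → β) (h : ∀ (k : A) (x : β), k • φ x = φ (e k • x)) (x : β) :
    orbit A (φ x) = φ '' orbit G x := by
  ext y
  constructor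
  · rintro ⟨k, rfl⟩
    exact ⟨e k • x, ⟨e k, rfl⟩, (h k x).symm⟩
  · rintro ⟨_, ⟨g, rfl⟩, rfl⟩
    refine ⟨e.symm g, ?_⟩
    show e.symm g • φ x = φ (g • x)
    rw [h, MulEquiv.apply_symm_apply]

/-- The orbits of the stabiliser of a quartet `Q` of a dodecad on the quartets other than `Q` have
lengths 12, 27, 72 and 108. -/
theorem quartet_orbits {d : Finset GolayPt} (hd : d ∈ dodecads) {Q : Finset (Finset GolayPt)}
    (hQ : Q ∈ quartets d) :
    ∃ X₁ ∈ quartets d, ∃ X₂ ∈ quartets d, ∃ X₃ ∈ quartets d, ∃ X₄ ∈ quartets d,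
      (orbit ↥(stabilizer M24 d ⊓ stabilizer M24 Q) X₁).ncard = 12 ∧
      (orbit ↥(stabilizer M24 d ⊓ stabilizer M24 Q) X₂).ncard = 27 ∧
      (orbit ↥(stabilizer M24 d ⊓ stabilizer M24 Q) X₃).ncard = 72 ∧
      (orbit ↥(stabilizer M24 d ⊓ stabilizer M24 Q) X₄).ncard = 108 ∧
      quartets d = {Q} ∪ orbit ↥(stabilizer M24 d ⊓ stabilizer M24 Q) X₁ ∪
        orbit ↥(stabilizer M24 d ⊓ stabilizer M24 Q) X₂ ∪
        orbit ↥(stabilizer M24 d ⊓ stabilizer M24 Q) X₃ ∪
        orbit ↥(stabilizer M24 d ⊓ stabilizer M24 Q) X₄ := by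
  obtain ⟨s, rfl, rfl⟩ := exists_std_dQ hd hQ
  obtain ⟨c1, c2, c3, c4⟩ := xL_chk
  obtain ⟨n1, n2, n3, n4, hU⟩ := quartets_d0F_eq_orbits
  let e : ↥(stabilizer M24 (s • d0F) ⊓ stabilizer M24 (s • Q0F)) ≃* qStab :=
    (stabInfConj s d0F Q0F).trans stabQEquiv
  let φ : Finset (Finset GolayPt) → Finset (Finset GolayPt) := fun X => s • X
  have hφ : Function.Injective φ := MulAction.injective s
  have hk : ∀ (k : ↥(stabilizer M24 (s • d0F) ⊓ stabilizer M24 (s • Q0F)))
      (X : Finset (Finset GolayPt)), k • φ X = φ (e k • X) := by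
    intro k X
    show (k.1 : M24) • (s • X) = s • ((s⁻¹ * k.1 * s : M24) • X)
    rw [← mul_smul, ← mul_smul]
    congr 1
    group
  have horb : ∀ X : Finset (Finset GolayPt),
      orbit ↥(stabilizer M24 (s • d0F) ⊓ stabilizer M24 (s • Q0F)) (s • X) = φ '' orbit qStab X :=
    fun X => orbit_image_of_equiv e φ hk X
  have hs : (s : Equiv.Perm GolayPt) ∈ M24 := s.2
  have hmem : ∀ X ∈ quartets d0F, s • X ∈ quartets (s • d0F) := fun X hX =>
    smul_mem_quartets hs hX
  refine ⟨s • maskQ x1L, hmem _ (maskQ_mem_quartets c1), s • maskQ x2L,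
    hmem _ (maskQ_mem_quartets c2), s • maskQ x3L, hmem _ (maskQ_mem_quartets c3),
    s • maskQ x4L, hmem _ (maskQ_mem_quartets c4), ?_, ?_, ?_, ?_, ?_⟩
  · rw [horb, Set.ncard_image_of_injective _ hφ, n1]
  · rw [horb, Set.ncard_image_of_injective _ hφ, n2]
  · rw [horb, Set.ncard_image_of_injective _ hφ, n3]
  · rw [horb, Set.ncard_image_of_injective _ hφ, n4]
  · rw [horb, horb, horb, horb, quartets_smul s, hU, Set.image_union, Set.image_union,
      Set.image_union, Set.image_union, Set.image_singleton]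
    rfl

end Cfsg.Agent.Helper7
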