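import Cfsg.Agent.Helper7.QStabGL

/-!
# The stabiliser of a quartet of a dodecad
-/

set_option autoImplicit false

namespace Cfsg.Agent.Helper7

open Cfsg MulAction Cfsg.Agent.Helper56.GL23
open scoped Pointwise

/-- Standard position for a dodecad and one of its quartets. -/
theorem exists_std_dQ {d : Finset GolayPt} (hd : d ∈ dodecads) {Q : Finset (Finset GolayPt)}
    (hQ : Q ∈ quartets d) : ∃ s : M24, s • d0F = d ∧ s • Q0F = Q := by
  obtain ⟨s, rfl⟩ := exists_smul_d0F_eq hd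
  have hs : (s : Equiv.Perm GolayPt) ∈ M24 := s.2
  have hsi : (s : Equiv.Perm GolayPt)⁻¹ ∈ M24 := M24.inv_mem hs
  have hsd : (s : Equiv.Perm GolayPt)⁻¹ • (s • d0F) = d0F := inv_smul_smul _ _
  have h1 := smul_mem_quartets hsi hQ
  rw [hsd] at h1
  obtain ⟨g, hg, hgQ⟩ := quartet_trans_std h1
  have hg' := (mem_M12_iff g).mp hg
  refine ⟨s * ⟨g, hg'.1⟩, ?_, ?_⟩
  · rw [mul_smul]
    have : (⟨g, hg'.1⟩ : M24) • d0F = d0F := hg'.2
    rw [this]
  · rw [mul_smul]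
    have : (⟨g, hg'.1⟩ : M24) • Q0F = (s : Equiv.Perm GolayPt)⁻¹ • Q := hgQ
    rw [this]
    exact smul_inv_smul _ _

/-- The joint stabiliser of the standard dodecad and the standard quartet. -/
def stabQEquiv : ↥(stabilizer M24 d0F ⊓ stabilizer M24 Q0F) ≃* qStab where
  toFun k := ⟨k.1.1, mem_qStab.mpr ⟨(mem_M12_iff _).mpr ⟨k.1.2, k.2.1⟩, k.2.2⟩⟩
  invFun k := ⟨⟨k.1, ((mem_M12_iff _).mp (mem_qStab.mp k.2).1).1⟩,
    ⟨((mem_M12_iff _).mp (mem_qStab.mp k.2).1).2, (mem_qStab.mp k.2).2⟩⟩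
  left_inv k := rfl
  right_inv k := rfl
  map_mul' k k' := rfl

/-- The stabiliser of a quartet of a dodecad has order 432, a normal subgroup of order 9 with
quotient `GL(2, 3)`, and is transitive on the dodecad. -/
theorem quartet_stab_structure {d : Finset GolayPt} (hd : d ∈ dodecads)
    {Q : Finset (Finset GolayPt)} (hQ : Q ∈ quartets d) :
    Nat.card ↥(stabilizer M24 d ⊓ stabilizer M24 Q) = 432 ∧
    (∃ (N : Subgroup ↥(stabilizer M24 d ⊓ stabilizer M24 Q)) (_ : N.Normal), Nat.card N = 9 ∧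
      Nonempty (↥(stabilizer M24 d ⊓ stabilizer M24 Q) ⧸ N ≃* GL (Fin 2) (ZMod 3))) ∧
    ∀ p ∈ d, ∀ q ∈ d, ∃ g ∈ (stabilizer M24 d ⊓ stabilizer M24 Q),
      ((g : ↥M24) : Equiv.Perm GolayPt) p = q := by
  obtain ⟨s, rfl, rfl⟩ := exists_std_dQ hd hQ
  let e : ↥(stabilizer M24 (s • d0F) ⊓ stabilizer M24 (s • Q0F)) ≃* qStab :=
    (stabInfConj s d0F Q0F).trans stabQEquiv
  have hcard : Nat.card ↥(stabilizer M24 (s • d0F) ⊓ stabilizer M24 (s • Q0F)) = 432 := by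
    rw [Nat.card_congr e.toEquiv, card_qStab]
  refine ⟨hcard, ?_, ?_⟩
  · obtain ⟨F, hF⟩ := exists_hom_qStab
    exact normal_nine_of_surjective (F.comp e.toMonoidHom)
      (hF.comp e.surjective) hcard card_GL23'
  · intro p hp q hq
    have hp' : (s⁻¹ : M24) • p ∈ d0F := by
      rw [← Finset.smul_mem_smul_finset_iff s, smul_inv_smul]
      exact hp
    have hq' : (s⁻¹ : M24) • q ∈ d0F := by
      rw [← Finset.smul_mem_smul_finset_iff s, smul_inv_smul]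
      exact hq
    obtain ⟨g, hg, hgpq⟩ := qStab_trans hp' hq'
    refine ⟨(e.symm ⟨g, hg⟩ : ↥(stabilizer M24 (s • d0F) ⊓ stabilizer M24 (s • Q0F))).1,
      (e.symm ⟨g, hg⟩).2, ?_⟩
    show ((s * (stabQEquiv.symm ⟨g, hg⟩).1 * s⁻¹ : M24) : Equiv.Perm GolayPt) p = q
    have h1 : ((s * (stabQEquiv.symm ⟨g, hg⟩).1 * s⁻¹ : M24) : Equiv.Perm GolayPt) =
        (s : Equiv.Perm GolayPt) * g * (s : Equiv.Perm GolayPt)⁻¹ := rfl
    rw [h1, Equiv.Perm.mul_apply, Equiv.Perm.mul_apply]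
    have h2 : (s : Equiv.Perm GolayPt)⁻¹ p = (s⁻¹ : M24) • p := rfl
    rw [h2, hgpq]
    show (s : Equiv.Perm GolayPt) ((s : Equiv.Perm GolayPt)⁻¹ q) = q
    simp

end Cfsg.Agent.Helper7
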