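import Cfsg.Agent.Helper7.Quartets

/-!
# Transitivity of the stabiliser of a dodecad on its quartets
-/

set_option autoImplicit false

namespace Cfsg.Agent.Helper7

open Cfsg MulAction
open scoped Pointwise

theorem mem_smul_iff_inv_smul_mem {α : Type*} [DecidableEq α] (g : Equiv.Perm GolayPt)
    [MulAction (Equiv.Perm GolayPt) α] (Q : Finset α) (t : α) : t ∈ g • Q ↔ g⁻¹ • t ∈ Q := by
  rw [← Finset.smul_mem_smul_finset_iff g⁻¹, inv_smul_smul]

/-- In the standard dodecad, two disjoint triples whose union is a hexad lie in a unique quartet. -/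
theorem quartet_existsUnique_std {t u : Finset GolayPt} (ht : t.card = 3) (hu : u.card = 3)
    (htu : Disjoint t u) (hh : t ∪ u ∈ hexadsOn d0F) :
    ∃ g ∈ M12, g • decT 7 = t ∧ g • decT 4120 = u ∧ g • Q0F ∈ quartets d0F ∧
      ∀ Q ∈ quartets d0F, t ∈ Q → u ∈ Q → Q = g • Q0F := by
  obtain ⟨g, hg, hgt, hgu⟩ := exists_m12_map_triples ht hu htu hh
  refine ⟨g, hg, hgt, hgu, smul_mem_quartets_d0F hg Q0F_mem, ?_⟩
  intro Q hQ htQ huQ
  have h1 := smul_mem_quartets_d0F (M12.inv_mem hg) hQ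
  have h2 : decT 7 ∈ g⁻¹ • Q := by
    rw [mem_smul_iff_inv_smul_mem, inv_inv, hgt]
    exact htQ
  have h3 : decT 4120 ∈ g⁻¹ • Q := by
    rw [mem_smul_iff_inv_smul_mem, inv_inv, hgu]
    exact huQ
  have := quartet_unique_std h1 h2 h3
  rw [← this, smul_inv_smul]

/-- Every quartet of the standard dodecad is an image of the standard one under `M12`. -/
theorem quartet_trans_std {Q : Finset (Finset GolayPt)} (hQ : Q ∈ quartets d0F) :
    ∃ g ∈ M12, g • Q0F = Q := by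
  have h4 := hQ.1
  obtain ⟨t, ht, u, hu, htu⟩ := Finset.one_lt_card.mp (by rw [h4]; norm_num : 1 < Q.card)
  have ht3 := (hQ.2.1 t ht).1
  have hu3 := (hQ.2.1 u hu).1
  have hh := hQ.2.2 t ht u hu htu
  obtain ⟨g, hg, _, _, _, huniq⟩ :=
    quartet_existsUnique_std ht3 hu3 (card_union_six ht3 hu3 hh.1) hh
  exact ⟨g, hg, (huniq Q hQ ht hu).symm⟩

/-- Two disjoint triples of a dodecad whose union is a hexad lie in a unique quartet. -/
theorem quartet_existsUnique {d : Finset GolayPt} (hd : d ∈ dodecads) {t u : Finset GolayPt}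
    (ht : t.card = 3) (hu : u.card = 3) (htu : Disjoint t u) (hh : t ∪ u ∈ hexadsOn d) :
    ∃! Q : Finset (Finset GolayPt), Q ∈ quartets d ∧ t ∈ Q ∧ u ∈ Q := by
  obtain ⟨s, rfl⟩ := exists_smul_d0F_eq hd
  have hs : (s : Equiv.Perm GolayPt) ∈ M24 := s.2
  have hsi : (s : Equiv.Perm GolayPt)⁻¹ ∈ M24 := M24.inv_mem hs
  have hsd : (s : Equiv.Perm GolayPt)⁻¹ • (s • d0F) = d0F := inv_smul_smul _ _
  have hsd' : (s : Equiv.Perm GolayPt) • d0F = s • d0F := rfl
  have hh' : (s : Equiv.Perm GolayPt)⁻¹ • t ∪ (s : Equiv.Perm GolayPt)⁻¹ • u ∈ hexadsOn d0F := by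
    have := smul_mem_hexadsOn hsi hh
    rwa [hsd, Finset.smul_finset_union] at this
  have htu' : Disjoint ((s : Equiv.Perm GolayPt)⁻¹ • t) ((s : Equiv.Perm GolayPt)⁻¹ • u) := by
    rw [Finset.disjoint_iff_inter_eq_empty, ← Finset.smul_finset_inter,
      Finset.disjoint_iff_inter_eq_empty.mp htu, Finset.smul_finset_empty]
  obtain ⟨g, hg, hgt, hgu, hgQ, huniq⟩ := quartet_existsUnique_std
    (by rw [Finset.card_smul_finset]; exact ht) (by rw [Finset.card_smul_finset]; exact hu)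
    htu' hh'
  refine ⟨(s : Equiv.Perm GolayPt) • (g • Q0F), ⟨?_, ?_, ?_⟩, ?_⟩
  · have := smul_mem_quartets hs hgQ
    rwa [hsd'] at this
  · rw [mem_smul_iff_inv_smul_mem, ← hgt]
    exact Finset.smul_mem_smul_finset (by rw [Q0F]; simp)
  · rw [mem_smul_iff_inv_smul_mem, ← hgu]
    exact Finset.smul_mem_smul_finset (by rw [Q0F]; simp)
  · rintro Q ⟨hQ, htQ, huQ⟩
    have h1 := smul_mem_quartets hsi hQ
    rw [hsd] at h1
    have h2 := huniq _ h1 (Finset.smul_mem_smul_finset htQ) (Finset.smul_mem_smul_finset huQ)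
    rw [← h2, smul_inv_smul]

/-- The stabiliser of a dodecad is transitive on its quartets. -/
theorem quartet_trans {d : Finset GolayPt} (hd : d ∈ dodecads) {Q Q' : Finset (Finset GolayPt)}
    (hQ : Q ∈ quartets d) (hQ' : Q' ∈ quartets d) :
    ∃ g : Equiv.Perm GolayPt, g ∈ M24 ∧ g • d = d ∧ g • Q = Q' := by
  obtain ⟨s, rfl⟩ := exists_smul_d0F_eq hd
  have hs : (s : Equiv.Perm GolayPt) ∈ M24 := s.2
  have hsi : (s : Equiv.Perm GolayPt)⁻¹ ∈ M24 := M24.inv_mem hs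
  have hsd : (s : Equiv.Perm GolayPt)⁻¹ • (s • d0F) = d0F := inv_smul_smul _ _
  have h1 := smul_mem_quartets hsi hQ
  have h2 := smul_mem_quartets hsi hQ'
  rw [hsd] at h1 h2
  obtain ⟨g, hg, hgQ⟩ := quartet_trans_std h1
  obtain ⟨g', hg', hgQ'⟩ := quartet_trans_std h2
  have hk : g' * g⁻¹ ∈ M12 := M12.mul_mem hg' (M12.inv_mem hg)
  have hk' := (mem_M12_iff _).mp hk
  refine ⟨(s : Equiv.Perm GolayPt) * (g' * g⁻¹) * (s : Equiv.Perm GolayPt)⁻¹,
    M24.mul_mem (M24.mul_mem hs hk'.1) hsi, ?_, ?_⟩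
  · rw [mul_smul, mul_smul, hsd, hk'.2]
    rfl
  · rw [mul_smul, mul_smul, ← hgQ, mul_smul, inv_smul_smul, hgQ', smul_inv_smul]

end Cfsg.Agent.Helper7
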