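import Cfsg.Agent.Helper7.Hexads

/-!
# Quartets of the standard dodecad
-/

set_option autoImplicit false

namespace Cfsg.Agent.Helper7

open Cfsg MulAction
open scoped Pointwise

/-- The masks of the hexads on the standard dodecad, as a literal. -/
def hexLit : List ℕ :=
  [270351, 331795, 274454, 73751, 77852, 331790, 274457, 340034, 335945, 266315, 69709, 266325,
  12378, 8285, 262238, 12359, 335956, 65627, 339973, 73806, 331864, 336140, 12557, 65807, 12563,
  69914, 262427, 266524, 336131, 69909, 274753, 332100, 270662, 4430, 328017, 74066, 343,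
  270680, 78152, 274698, 327958, 74009, 69955, 12628, 262477, 70151, 340488, 266765, 12814,
  336401, 70169, 8731, 66078, 262679, 74307, 78404, 270917, 328268, 275024, 328274, 4691,
  270922, 4700, 328203, 270876, 78354, 266822, 12873, 66133, 78593, 332546, 328453, 74506,
  271122, 74516, 4886, 797, 275204, 4875, 328472, 262979, 267080, 66377, 9036, 70480, 66374,
  9041, 8967, 267025, 858, 335898, 327751, 77905, 4127, 78086, 332041, 270613, 8523, 65884,
  266578, 274947, 332308, 74253, 70218, 8790, 262745, 262926, 13080, 4933, 336704, 77835,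
  327709, 69718, 270419, 266503, 340240, 8478, 74053, 328010, 4441, 336390, 12821, 266778, 591,
  74328, 332353, 271113, 13122, 262996, 70412, 274508, 66323]

theorem hexList_eq : hexList = hexLit := by decide +kernel

theorem hexLit_lt : ∀ x ∈ hexLit, x < 2 ^ 24 := by decide +kernel

/-- Whether a mask is a hexad of the standard dodecad. -/
def isHex (m : ℕ) : Bool := hexLit.contains m

theorem isHex_iff {m : ℕ} (hm : m < 2 ^ 24) : isHex m = true ↔ decT m ∈ hexadsOn d0F := by
  rw [mem_hexadsOn_d0F_iff, hexList_eq, isHex, List.contains_eq_mem, decide_eq_true_eq]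
  constructor
  · intro h
    exact ⟨m, h, rfl⟩
  · rintro ⟨x, hx, h⟩
    rwa [decT_inj hm (hexLit_lt x hx) h]

/-- The only hexad containing the points `0, 1, 2, 3, 4`. -/
theorem hex_five : hexLit.all (fun x => !(x &&& 31 == 31) || x == 4127) = true := by decide +kernel

/-- The points of the standard dodecad outside the hexad `{0, 1, 2, 3, 4, 12}`. -/
abbrev C6 : List ℕ := [6, 8, 9, 13, 16, 18]

theorem mem_C6_aux : (List.range 24).all (fun i => !(d0.testBit i) || (7 : ℕ).testBit i ||
    (4120 : ℕ).testBit i || C6.contains i) = true := by decide +kernel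

theorem mem_C6 {i : ℕ} (hi : i < 24) (h1 : d0.testBit i = true) (h2 : (7 : ℕ).testBit i = false)
    (h3 : (4120 : ℕ).testBit i = false) : i ∈ C6 := by
  have h := mem_C6_aux
  rw [List.all_eq_true] at h
  have := h i (List.mem_range.mpr hi)
  rw [h1, h2, h3] at this
  simpa using this

/-- The triples completing `{0, 1, 2}`, `{3, 4, 12}` to a quartet. -/
theorem hex_compl : C6.all (fun i => C6.all (fun j =>
    C6.all (fun k => !(isHex (7 ||| maskL [i, j, k])) ||
      !(isHex (4120 ||| maskL [i, j, k])) || maskL [i, j, k] == 8960 ||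
      maskL [i, j, k] == 327744))) = true := by decide +kernel

/-- The standard quartet. -/
def Q0F : Finset (Finset GolayPt) := {decT 7, decT 4120, decT 8960, decT 327744}

/-! ### Equivariance -/

theorem smul_mem_hexadsOn {s : Equiv.Perm GolayPt} (hs : s ∈ M24) {d h : Finset GolayPt}
    (hh : h ∈ hexadsOn d) : s • h ∈ hexadsOn (s • d) := by
  obtain ⟨h6, o, ho, rfl⟩ := hh
  refine ⟨by rw [Finset.card_smul_finset]; exact h6, s • o, smul_mem_octads hs ho, ?_⟩
  rw [Finset.smul_finset_inter]

theorem smul_mem_quartets {s : Equiv.Perm GolayPt} (hs : s ∈ M24) {d : Finset GolayPt}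
    {Q : Finset (Finset GolayPt)} (hQ : Q ∈ quartets d) : s • Q ∈ quartets (s • d) := by
  obtain ⟨h4, h3, hh⟩ := hQ
  refine ⟨by rw [Finset.card_smul_finset]; exact h4, ?_, ?_⟩
  · intro t ht
    obtain ⟨t', ht', rfl⟩ := Finset.mem_smul_finset.mp ht
    refine ⟨by rw [Finset.card_smul_finset]; exact (h3 t' ht').1, ?_⟩
    exact Finset.smul_finset_subset_smul_finset (h3 t' ht').2
  · intro t ht u hu htu
    obtain ⟨t', ht', rfl⟩ := Finset.mem_smul_finset.mp ht
    obtain ⟨u', hu', rfl⟩ := Finset.mem_smul_finset.mp hu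
    rw [← Finset.smul_finset_union]
    exact smul_mem_hexadsOn hs (hh t' ht' u' hu' (fun e => htu (by rw [e])))

theorem smul_mem_quartets_d0F {g : Equiv.Perm GolayPt} (hg : g ∈ M12)
    {Q : Finset (Finset GolayPt)} (hQ : Q ∈ quartets d0F) : g • Q ∈ quartets d0F := by
  have h := (mem_M12_iff g).mp hg
  have := smul_mem_quartets h.1 hQ
  rwa [h.2] at this

/-! ### The standard quartet -/

theorem lor_lt_24 {a b : ℕ} (ha : a < 2 ^ 24) (hb : b < 2 ^ 24) : a ||| b < 2 ^ 24 :=
  Nat.or_lt_two_pow ha hb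

theorem card_union_six {t v : Finset GolayPt} (ht : t.card = 3) (hv : v.card = 3)
    (h : (t ∪ v).card = 6) : Disjoint t v := by
  rw [← Finset.card_union_eq_card_add_card, h, ht, hv]

/-- A triple of a quartet of the standard dodecad through `{0, 1, 2}` and `{3, 4, 12}`, other than
these two, is `{8, 9, 13}` or `{6, 16, 18}`. -/
theorem quartet_third {Q : Finset (Finset GolayPt)} (hQ : Q ∈ quartets d0F)
    (ht0 : decT 7 ∈ Q) (hu0 : decT 4120 ∈ Q) {v : Finset GolayPt} (hv : v ∈ Q)
    (hvt : v ≠ decT 7) (hvu : v ≠ decT 4120) : v = decT 8960 ∨ v = decT 327744 := by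
  obtain ⟨_, h3, hh⟩ := hQ
  have hv3 := h3 v hv
  obtain ⟨i, j, k, hi, hj, hk, _, _, _, rfl, hiv, hjv, hkv⟩ := eq_decL_of_card_three hv3.1
  have hL : ∀ x ∈ [i, j, k], x < 24 := by
    intro x hx
    simp only [List.mem_cons, List.not_mem_nil, or_false] at hx
    rcases hx with rfl | rfl | rfl <;> assumption
  have hm := maskL_lt [i, j, k] hL
  rw [← decT_maskL _ hL] at hv3 hiv hjv hkv hvt hvu hv ⊢
  have hx1 := hh _ ht0 _ hv (Ne.symm hvt)
  have hx2 := hh _ hu0 _ hv (Ne.symm hvu)
  have hd1 : Disjoint (decT 7) (decT (maskL [i, j, k])) :=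
    card_union_six (by rw [card_decT]; decide +kernel) hv3.1 hx1.1
  have hd2 : Disjoint (decT 4120) (decT (maskL [i, j, k])) :=
    card_union_six (by rw [card_decT]; decide +kernel) hv3.1 hx2.1
  rw [← decT_lor, ← isHex_iff (lor_lt_24 (by norm_num) hm)] at hx1 hx2
  have hC : ∀ x, x < 24 → pt x ∈ decT (maskL [i, j, k]) → x ∈ C6 := by
    intro x hx hxv
    have h1 := hv3.2 hxv
    rw [mem_d0F_iff, idx_pt hx] at h1
    have h2 : (7 : ℕ).testBit x = false := by
      have := Finset.disjoint_right.mp hd1 hxv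
      rw [mem_decT, idx_pt hx] at this
      simpa using this
    have h3 : (4120 : ℕ).testBit x = false := by
      have := Finset.disjoint_right.mp hd2 hxv
      rw [mem_decT, idx_pt hx] at this
      simpa using this
    exact mem_C6 hx h1 h2 h3
  have hc := hex_compl
  rw [List.all_eq_true] at hc
  have hc1 := hc i (hC i hi hiv)
  rw [List.all_eq_true] at hc1
  have hc2 := hc1 j (hC j hj hjv)
  rw [List.all_eq_true] at hc2
  have hc3 := hc2 k (hC k hk hkv)
  rw [hx1, hx2] at hc3
  simp only [Bool.not_true, Bool.false_or, Bool.or_eq_true, beq_iff_eq] at hc3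
  rcases hc3 with h | h
  · left; rw [h]
  · right; rw [h]

theorem decT_ne {a b : ℕ} (ha : a < 2 ^ 24) (hb : b < 2 ^ 24) (h : a ≠ b) : decT a ≠ decT b :=
  fun e => h (decT_inj ha hb e)

/-- The only quartet of the standard dodecad through `{0, 1, 2}` and `{3, 4, 12}`. -/
theorem quartet_unique_std {Q : Finset (Finset GolayPt)} (hQ : Q ∈ quartets d0F)
    (ht0 : decT 7 ∈ Q) (hu0 : decT 4120 ∈ Q) : Q = Q0F := by
  have h4 := hQ.1
  have htu : decT 7 ≠ decT 4120 := decT_ne (by norm_num) (by norm_num) (by norm_num)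
  have hc : ((Q.erase (decT 7)).erase (decT 4120)).card = 2 := by
    rw [Finset.card_erase_of_mem (Finset.mem_erase.mpr ⟨Ne.symm htu, hu0⟩),
      Finset.card_erase_of_mem ht0, h4]
  obtain ⟨a, b, hab, he⟩ := Finset.card_eq_two.mp hc
  have ha : a ∈ (Q.erase (decT 7)).erase (decT 4120) := by rw [he]; simp
  have hb : b ∈ (Q.erase (decT 7)).erase (decT 4120) := by rw [he]; simp
  rw [Finset.mem_erase, Finset.mem_erase] at ha hb
  have ha' := quartet_third hQ ht0 hu0 ha.2.2 ha.2.1 ha.1
  have hb' := quartet_third hQ ht0 hu0 hb.2.2 hb.2.1 hb.1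
  have hQ' : Q = insert (decT 7) (insert (decT 4120) {a, b}) := by
    rw [← he, Finset.insert_erase (Finset.mem_erase.mpr ⟨Ne.symm htu, hu0⟩),
      Finset.insert_erase ht0]
  rw [hQ', Q0F]
  rcases ha' with rfl | rfl <;> rcases hb' with rfl | rfl
  · exact absurd rfl hab
  · rfl
  · rw [Finset.pair_comm]
  · exact absurd rfl hab

/-- The masks of the triples of the standard quartet. -/
abbrev q0L : List ℕ := [7, 4120, 8960, 327744]

theorem Q0F_eq : Q0F = (q0L.map decT).toFinset := by
  simp [Q0F, q0L]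

theorem mem_Q0F_iff (t : Finset GolayPt) : t ∈ Q0F ↔ ∃ a ∈ q0L, t = decT a := by
  rw [Q0F_eq, List.mem_toFinset, List.mem_map]
  constructor
  · rintro ⟨a, ha, rfl⟩; exact ⟨a, ha, rfl⟩
  · rintro ⟨a, ha, rfl⟩; exact ⟨a, ha, rfl⟩

theorem q0L_checks : q0L.all (fun a => Nat.blt a (2 ^ 24) && Nat.beq (wt a) 3 &&
    Nat.beq (a &&& d0) a && q0L.all (fun b => a == b || isHex (a ||| b))) = true := by
  decide +kernel

theorem decT_subset_of_land {a b : ℕ} (h : a &&& b = a) : decT a ⊆ decT b := by
  intro p hp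
  rw [mem_decT] at hp ⊢
  rw [← h, Nat.testBit_land, Bool.and_eq_true] at hp
  exact hp.2

theorem Q0F_mem : Q0F ∈ quartets d0F := by
  have hc := q0L_checks
  rw [List.all_eq_true] at hc
  refine ⟨?_, ?_, ?_⟩
  · rw [Q0F_eq, List.toFinset_card_of_nodup]
    · rfl
    · apply List.Nodup.map_on
      · intro a ha b hb hab
        have h1 := hc a ha
        have h2 := hc b hb
        simp only [Bool.and_eq_true, Nat.blt_eq] at h1 h2
        exact decT_inj h1.1.1.1 h2.1.1.1 hab
      · decide
  · intro t ht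
    obtain ⟨a, ha, rfl⟩ := (mem_Q0F_iff t).mp ht
    have h1 := hc a ha
    simp only [Bool.and_eq_true, Nat.blt_eq] at h1
    refine ⟨?_, ?_⟩
    · rw [card_decT]
      exact Nat.eq_of_beq_eq_true h1.1.1.2
    · rw [d0F_eq_decT]
      exact decT_subset_of_land (Nat.eq_of_beq_eq_true h1.1.2)
  · intro t ht u hu htu
    obtain ⟨a, ha, rfl⟩ := (mem_Q0F_iff t).mp ht
    obtain ⟨b, hb, rfl⟩ := (mem_Q0F_iff u).mp hu
    have h1 := hc a ha
    have h2 := hc b hb
    simp only [Bool.and_eq_true, Nat.blt_eq] at h1 h2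
    have h3 := h1.2
    rw [List.all_eq_true] at h3
    have h4 := h3 b hb
    rw [Bool.or_eq_true, beq_iff_eq] at h4
    rcases h4 with rfl | h4
    · exact absurd rfl htu
    · rw [← decT_lor, ← isHex_iff (lor_lt_24 h1.1.1.1 h2.1.1.1)]
      exact h4

theorem decT_7 : decT 7 = {pt 0, pt 1, pt 2} := by
  have : (7 : ℕ) = maskL [0, 1, 2] := by decide
  rw [this, decT_maskL _ (by decide)]
  simp [decL]

theorem decT_4120 : decT 4120 = {pt 3, pt 4, pt 12} := by
  have : (4120 : ℕ) = maskL [3, 4, 12] := by decide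
  rw [this, decT_maskL _ (by decide)]
  simp [decL]

theorem perm_smul_triple (g : Equiv.Perm GolayPt) (a b c : GolayPt) :
    g • ({a, b, c} : Finset GolayPt) = {g a, g b, g c} := by
  rw [Finset.smul_finset_insert, Finset.smul_finset_insert, Finset.smul_finset_singleton]
  rfl

/-- Two disjoint triples of the standard dodecad whose union is a hexad are the images of the
standard triples `{0, 1, 2}`, `{3, 4, 12}` under an element of `M12`. -/
theorem exists_m12_map_triples {t u : Finset GolayPt} (ht : t.card = 3) (hu : u.card = 3)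
    (htu : Disjoint t u) (hh : t ∪ u ∈ hexadsOn d0F) :
    ∃ g ∈ M12, g • decT 7 = t ∧ g • decT 4120 = u := by
  have hsub : t ∪ u ⊆ d0F := by
    obtain ⟨_, o, _, ho⟩ := hh
    rw [← ho]
    exact Finset.inter_subset_right
  obtain ⟨x1, x2, x3, h12, h13, h23, rfl⟩ := Finset.card_eq_three.mp ht
  obtain ⟨x4, x5, x6, h45, h46, h56, rfl⟩ := Finset.card_eq_three.mp hu
  have hd : ∀ a ∈ ({x1, x2, x3} : Finset GolayPt), ∀ b ∈ ({x4, x5, x6} : Finset GolayPt), a ≠ b :=
    fun a ha b hb e => Finset.disjoint_left.mp htu ha (e ▸ hb)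
  have hnd : [x1, x2, x3, x4, x5].Nodup := by
    simp only [List.nodup_cons, List.mem_cons, List.not_mem_nil, or_false, not_or,
      List.nodup_nil, and_true, not_false_eq_true]
    refine ⟨⟨h12, h13, hd x1 (by simp) x4 (by simp), hd x1 (by simp) x5 (by simp)⟩,
      ⟨h23, hd x2 (by simp) x4 (by simp), hd x2 (by simp) x5 (by simp)⟩,
      ⟨hd x3 (by simp) x4 (by simp), hd x3 (by simp) x5 (by simp)⟩, h45⟩
  obtain ⟨g, hg, hall⟩ := m12_exists_of_list [x1, x2, x3, x4, x5] hnd
    (by
      intro x hx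
      apply hsub
      simp only [List.mem_cons, List.not_mem_nil, or_false] at hx
      rcases hx with rfl | rfl | rfl | rfl | rfl <;> simp) (by simp)
  simp only [List.length_cons, List.length_nil, List.take, List.forall₂_cons,
    List.forall₂_nil_right_iff] at hall
  obtain ⟨g0, g1, g2, g3, g4, -⟩ := hall
  have ht' : g • decT 7 = {x1, x2, x3} := by
    rw [decT_7, perm_smul_triple, g0, g1, g2]
  refine ⟨g, hg, ht', ?_⟩
  -- the pulled back hexad contains `0, 1, 2, 3, 4`
  have hginv : g⁻¹ ∈ M12 := M12.inv_mem hg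
  have hh' : g⁻¹ • (({x1, x2, x3} : Finset GolayPt) ∪ {x4, x5, x6}) ∈ hexadsOn d0F := by
    have h := (mem_M12_iff _).mp hginv
    have := smul_mem_hexadsOn h.1 hh
    rwa [h.2] at this
  obtain ⟨x, hx, hxe⟩ := (mem_hexadsOn_d0F_iff _).mp hh'
  rw [hexList_eq] at hx
  have hx31 : x &&& 31 = 31 := by
    apply Nat.eq_of_testBit_eq
    intro i
    rw [Nat.testBit_land]
    by_cases hi : (31 : ℕ).testBit i = true
    · have hi5 : i < 5 := by
        by_contra hcon
        have : 2 ^ 5 ≤ 2 ^ i := Nat.pow_le_pow_right (by norm_num) (by omega)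
        have := Nat.testBit_lt_two_pow (x := 31) (i := i) (by omega)
        rw [this] at hi
        exact Bool.false_ne_true hi
      have hmem : pt i ∈ g⁻¹ • (({x1, x2, x3} : Finset GolayPt) ∪ {x4, x5, x6}) := by
        rw [Finset.mem_inv_smul_finset_iff]
        have : g • pt i = g (pt i) := rfl
        rw [this]
        interval_cases i
        · rw [g0]; simp
        · rw [g1]; simp
        · rw [g2]; simp
        · rw [g3]; simp
        · rw [g4]; simp
      rw [hxe, mem_decT, idx_pt (by omega)] at hmem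
      rw [hmem, hi]
      rfl
    · have : (31 : ℕ).testBit i = false := by simpa using hi
      rw [this, Bool.and_false]
  have h5 := hex_five
  rw [List.all_eq_true] at h5
  have h6 := h5 x hx
  rw [hx31] at h6
  have hx4127 : x = 4127 := by simpa using h6
  rw [hx4127, Finset.smul_finset_union] at hxe
  have e1 : g⁻¹ • ({x1, x2, x3} : Finset GolayPt) = decT 7 := by
    rw [← ht', inv_smul_smul]
  have e2 : decT 4127 = decT 7 ∪ decT 4120 := by
    rw [← decT_lor]
    rfl
  rw [e1, e2] at hxe
  have hdis1 : Disjoint (decT 7) (g⁻¹ • ({x4, x5, x6} : Finset GolayPt)) := by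
    rw [← e1, Finset.disjoint_iff_inter_eq_empty, ← Finset.smul_finset_inter,
      Finset.disjoint_iff_inter_eq_empty.mp htu, Finset.smul_finset_empty]
  have hdis2 : Disjoint (decT 7) (decT 4120) := by
    rw [Finset.disjoint_iff_inter_eq_empty, ← decT_land]
    have : (7 : ℕ) &&& 4120 = 0 := by decide
    rw [this]
    ext p
    simp [mem_decT]
  have e3 : g⁻¹ • ({x4, x5, x6} : Finset GolayPt) = decT 4120 := by
    rw [← Finset.union_sdiff_cancel_left hdis1, hxe, Finset.union_sdiff_cancel_left hdis2]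
  rw [← e3, smul_inv_smul]

end Cfsg.Agent.Helper7
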