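import Cfsg.Agent.Helper7.Chain

/-!
# Checking a straight-line program against a list of literal tables
-/

set_option autoImplicit false

namespace Cfsg.Agent.Helper7

open Cfsg

/-- Check a straight-line program against the list of its expected outputs. The accumulator is kept
in reverse order (most recent first) and the instructions refer to entries by their position in
it. -/
def checkSLP : List Op → List (List ℕ) → List (List ℕ) → Bool
  | [], _, [] => true
  | Op.mul i j :: ps, acc, x :: xs =>
    (compT (acc.getD i idT) (acc.getD j idT) == x) && checkSLP ps (x :: acc) xs
  | Op.inv i :: ps, acc, x :: xs => (invT (acc.getD i idT) == x) && checkSLP ps (x :: acc) xs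
  | _, _, _ => false

theorem tabled_getD {H : Subgroup (Equiv.Perm GolayPt)} {acc : List (List ℕ)}
    (hacc : ∀ l ∈ acc, Tabled H l) (i : ℕ) : Tabled H (acc.getD i idT) := by
  by_cases hi : i < acc.length
  · rw [List.getD_eq_getElem _ _ hi]
    exact hacc _ (List.getElem_mem hi)
  · rw [List.getD_eq_default _ _ (by omega)]
    exact tabled_idT H

theorem tabled_of_checkSLP (H : Subgroup (Equiv.Perm GolayPt)) (prog : List Op) :
    ∀ (acc outs : List (List ℕ)), checkSLP prog acc outs = true → (∀ l ∈ acc, Tabled H l) →
      ∀ l ∈ outs, Tabled H l := by
  induction prog with
  | nil =>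
    intro acc outs h _ l hl
    cases outs with
    | nil => simp at hl
    | cons x xs => simp [checkSLP] at h
  | cons op ps ih =>
    intro acc outs h hacc l hl
    cases outs with
    | nil => simp at hl
    | cons x xs =>
      cases op with
      | mul i j =>
        rw [checkSLP, Bool.and_eq_true, beq_iff_eq] at h
        have hx : Tabled H x := by
          rw [← h.1]
          exact (tabled_getD hacc i).mul (tabled_getD hacc j)
        rw [List.mem_cons] at hl
        rcases hl with rfl | hl
        · exact hx
        · apply ih (x :: acc) xs h.2 _ l hl
          intro l' hl'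
          rw [List.mem_cons] at hl'
          rcases hl' with rfl | hl'
          · exact hx
          · exact hacc l' hl'
      | inv i =>
        rw [checkSLP, Bool.and_eq_true, beq_iff_eq] at h
        have hx : Tabled H x := by
          rw [← h.1]
          exact (tabled_getD hacc i).inv
        rw [List.mem_cons] at hl
        rcases hl with rfl | hl
        · exact hx
        · apply ih (x :: acc) xs h.2 _ l hl
          intro l' hl'
          rw [List.mem_cons] at hl'
          rcases hl' with rfl | hl'
          · exact hx
          · exact hacc l' hl'

/-- If the tables at given positions of a list of tables of elements of `K` are the transversal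
tables of a chain, these are tables of elements of `K`. -/
theorem tabled_of_positions {K : Subgroup (Equiv.Perm GolayPt)} {full : List (List ℕ)}
    (hfull : ∀ l ∈ full, Tabled K l) {pos : List ℕ} {Ls : List Level}
    (h : pos.filterMap (fun i => full[i]?) = Ls.flatMap (fun L => L.T)) :
    ∀ L ∈ Ls, ∀ l ∈ L.T, Tabled K l := by
  intro L hL l hl
  have hmem : l ∈ Ls.flatMap (fun L => L.T) := List.mem_flatMap.mpr ⟨L, hL, hl⟩
  rw [← h, List.mem_filterMap] at hmem
  obtain ⟨i, _, hi⟩ := hmem
  exact hfull l (List.mem_of_getElem? hi)

end Cfsg.Agent.Helper7
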